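import Groth.Prelude.Def_EssEt
import Mathlib.RingTheory.Unramified.Finite
import Mathlib.RingTheory.Unramified.LocalRing
import Mathlib.RingTheory.EssentialFiniteness
import Mathlib.RingTheory.Etale.Basic

/-!
Rigidity of homomorphisms out of (essentially of finite type) formally unramified algebras into
local rings, and consequences for essentially étale local algebras.
-/

set_option autoImplicit false
set_option linter.style.haveILetI false
universe u

namespace Groth.Agent.Lib.Helper14

open scoped TensorProduct

/-- Two algebra maps from a formally unramified, essentially finite type algebra into a local ring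
which agree modulo the maximal ideal are equal. -/
theorem algHom_eq_of_residue_eq {A A₁ A₂ : Type*} [CommRing A] [CommRing A₁] [Algebra A A₁]
    [CommRing A₂] [IsLocalRing A₂] [Algebra A A₂]
    [Algebra.FormallyUnramified A A₁] [Algebra.EssFiniteType A A₁]
    (ψ ψ' : A₁ →ₐ[A] A₂)
    (h : ∀ x : A₁, IsLocalRing.residue A₂ (ψ x) = IsLocalRing.residue A₂ (ψ' x)) : ψ = ψ' := by
  obtain ⟨t, ht₁, ht₂⟩ :=
    (Algebra.FormallyUnramified.iff_exists_tensorProduct (R := A) (S := A₁)).mp inferInstance
  let hh : A₁ ⊗[A] A₁ →ₐ[A] A₂ := Algebra.TensorProduct.productMap ψ ψ'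
  have hres : ∀ y : A₁ ⊗[A] A₁, IsLocalRing.residue A₂ (hh y) =
      IsLocalRing.residue A₂ (ψ (Algebra.TensorProduct.lmul' A y)) := by
    intro y
    induction y using TensorProduct.induction_on with
    | zero => simp
    | tmul a b =>
      simp only [hh, Algebra.TensorProduct.productMap_apply_tmul,
        Algebra.TensorProduct.lmul'_apply_tmul, map_mul, h]
    | add x y hx hy => simp only [map_add, hx, hy]
  have hu : IsUnit (hh t) := by
    have : IsLocalRing.residue A₂ (hh t) = 1 := by rw [hres, ht₂, map_one, map_one]
    by_contra hnu
    have h0 : IsLocalRing.residue A₂ (hh t) = 0 :=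
      (IsLocalRing.residue_eq_zero_iff _).mpr ((IsLocalRing.mem_maximalIdeal _).mpr hnu)
    rw [this] at h0
    exact one_ne_zero h0
  ext s
  have h1 := congrArg hh (ht₁ s)
  simp only [map_mul, map_sub, map_zero, hh, Algebra.TensorProduct.productMap_apply_tmul,
    map_one, one_mul, mul_one] at h1
  have h2 : ψ' s - ψ s = 0 := hu.mul_left_eq_zero.mp h1
  exact (sub_eq_zero.mp h2).symm

section

variable {A : Type u} [CommRing A]

/-- The localisation of an étale algebra at a prime is formally unramified and essentially of
finite type. -/
theorem formallyUnramified_localization_of_etale (C : Type u) [CommRing C] [Algebra A C]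
    [Algebra.Etale A C] (q : Ideal C) [q.IsPrime] :
    Algebra.FormallyUnramified A (Localization.AtPrime q) := by
  haveI : Algebra.FormallyUnramified C (Localization.AtPrime q) :=
    Algebra.FormallyUnramified.of_isLocalization q.primeCompl
  exact Algebra.FormallyUnramified.comp A C (Localization.AtPrime q)

theorem essFiniteType_localization_of_etale (C : Type u) [CommRing C] [Algebra A C]
    [Algebra.Etale A C] (q : Ideal C) [q.IsPrime] :
    Algebra.EssFiniteType A (Localization.AtPrime q) := by
  haveI : Algebra.FiniteType A C := inferInstance
  infer_instance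

variable [IsLocalRing A]

theorem formallyUnramified_of_isEssentiallyEtale {B : Type u} [CommRing B] [Algebra A B]
    (h : EGA4loc.IsEssentiallyEtale A B) :
    Algebra.FormallyUnramified A B ∧ Algebra.EssFiniteType A B := by
  obtain ⟨C, _, _, q, _, hC, -, ⟨e⟩⟩ := h
  haveI := hC
  haveI := formallyUnramified_localization_of_etale (A := A) C q
  haveI := essFiniteType_localization_of_etale (A := A) C q
  exact ⟨Algebra.FormallyUnramified.of_equiv e.symm,
    (Algebra.EssFiniteType.iff_of_algEquiv e).mpr inferInstance⟩

end

end Groth.Agent.Lib.Helper14
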