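
import Groth.Agent.Lib.QCoh.Helper18_SerreSk
import Groth.Prelude.Def_EGA4b
universe u
namespace Groth.Agent.Lib.Helper14.SkAtMod
open Groth.Agent.Lib.QCoh.SerreSk Groth.Agent.Lib.QCoh.Hartogs
set_option linter.style.haveILetI false

variable {R : Type u} [CommRing R] [IsNoetherianRing R] (M : Type u) [AddCommGroup M] [Module R M]
  [Module.Finite R M]

/-- double localization: dimension and depth of `(M_p)_P` are those of `M_{p'}`, `p' = P ∩ R`. -/
theorem double_loc (p : Ideal R) [p.IsPrime] (P : Ideal (Localization.AtPrime p)) [P.IsPrime] :
    Module.supportDim (Localization.AtPrime P)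
        (LocalizedModule P.primeCompl (LocalizedModule p.primeCompl M)) =
      Module.supportDim (Localization.AtPrime (P.comap (algebraMap R (Localization.AtPrime p))))
        (LocalizedModule (P.comap (algebraMap R (Localization.AtPrime p))).primeCompl M) ∧
    LocCoh.depth (Localization.AtPrime P)
        (LocalizedModule P.primeCompl (LocalizedModule p.primeCompl M)) =
      LocCoh.depth (Localization.AtPrime (P.comap (algebraMap R (Localization.AtPrime p))))
        (LocalizedModule (P.comap (algebraMap R (Localization.AtPrime p))).primeCompl M) := by
  haveI hloc : IsLocalization.AtPrime (Localization.AtPrime P)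
      (P.comap (algebraMap R (Localization.AtPrime p))) :=
    IsLocalization.isLocalization_isLocalization_atPrime_isLocalization p.primeCompl _ P
  have hb1 : IsBaseChange (Localization.AtPrime p) (LocalizedModule.mkLinearMap p.primeCompl M) :=
    (isLocalizedModule_iff_isBaseChange p.primeCompl _ _).1 inferInstance
  have hb2 : IsBaseChange (Localization.AtPrime P)
      (LocalizedModule.mkLinearMap P.primeCompl (LocalizedModule p.primeCompl M)) :=
    (isLocalizedModule_iff_isBaseChange P.primeCompl _ _).1 inferInstance
  have hb := hb1.comp hb2
  haveI := (isLocalizedModule_iff_isBaseChange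
    (P.comap (algebraMap R (Localization.AtPrime p))).primeCompl (Localization.AtPrime P) _).2 hb
  exact ⟨supportDim_eq_supportDim_localizedModule _ (Localization.AtPrime P) M _
      (((LocalizedModule.mkLinearMap P.primeCompl (LocalizedModule p.primeCompl M)).restrictScalars
        R) ∘ₗ (LocalizedModule.mkLinearMap p.primeCompl M)),
    depth_eq_depth_localizedModule _ (Localization.AtPrime P) M _
      (((LocalizedModule.mkLinearMap P.primeCompl (LocalizedModule p.primeCompl M)).restrictScalars
        R) ∘ₗ (LocalizedModule.mkLinearMap p.primeCompl M))⟩

/-- `(S_n)` at `p` means the `(S_n)` inequality at all generizations of `p`. -/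
theorem hasSkAt_iff (n : ℕ) (p : Ideal R) [p.IsPrime] :
    EGA4.HasSkAt n R M p ↔ ∀ (p' : Ideal R) [p'.IsPrime], p' ≤ p →
      min (n : WithBot ℕ∞)
          (Module.supportDim (Localization.AtPrime p') (LocalizedModule p'.primeCompl M)) ≤
        ((LocCoh.depth (Localization.AtPrime p') (LocalizedModule p'.primeCompl M) : ℕ∞) :
          WithBot ℕ∞) := by
  have key : ∀ (q p' : Ideal R) [q.IsPrime] [p'.IsPrime], q = p' →
      min (n : WithBot ℕ∞)
          (Module.supportDim (Localization.AtPrime q) (LocalizedModule q.primeCompl M)) ≤
        ((LocCoh.depth (Localization.AtPrime q) (LocalizedModule q.primeCompl M) : ℕ∞) :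
          WithBot ℕ∞) →
      min (n : WithBot ℕ∞)
          (Module.supportDim (Localization.AtPrime p') (LocalizedModule p'.primeCompl M)) ≤
        ((LocCoh.depth (Localization.AtPrime p') (LocalizedModule p'.primeCompl M) : ℕ∞) :
          WithBot ℕ∞) := by
    intro q p' _ _ h
    subst h
    exact id
  constructor
  · intro h p' hp' hle
    have disj : Disjoint (p.primeCompl : Set R) (p' : Set R) := by
      rw [Set.disjoint_left]
      intro x hx hxq
      exact hx (hle hxq)
    have hP : (p'.map (algebraMap R (Localization.AtPrime p))).IsPrime :=
      IsLocalization.isPrime_of_isPrime_disjoint p.primeCompl _ _ hp' disj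
    have hcomap : (p'.map (algebraMap R (Localization.AtPrime p))).comap
        (algebraMap R (Localization.AtPrime p)) = p' :=
      IsLocalization.under_map_of_isPrime_disjoint p.primeCompl _ hp' disj
    have h1 := h (p'.map (algebraMap R (Localization.AtPrime p)))
    rw [(double_loc M p _).1, (double_loc M p _).2] at h1
    exact key _ p' hcomap h1
  · intro h P hP
    have hle : P.comap (algebraMap R (Localization.AtPrime p)) ≤ p := by
      have hmax := IsLocalization.AtPrime.under_maximalIdeal (Localization.AtPrime p) p
      calc P.comap (algebraMap R (Localization.AtPrime p))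
          ≤ (IsLocalRing.maximalIdeal (Localization.AtPrime p)).comap
              (algebraMap R (Localization.AtPrime p)) :=
            Ideal.comap_mono (IsLocalRing.le_maximalIdeal hP.ne_top)
        _ = p := hmax
    rw [(double_loc M p P).1, (double_loc M p P).2]
    exact h _ hle

end Groth.Agent.Lib.Helper14.SkAtMod
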