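import Mathlib
import Groth.Agent.S0370
import Groth.Agent.S0364
import Groth.Agent.S2698
import Groth.Agent.Lib.Helper12.ModDualExt
import Groth.Agent.Lib.Helper29.FiniteRestrict
import Groth.Agent.Lib.Helper29.CM

/-!
# Rings with a dualizing complex: generic Cohen–Macaulayness of `A/b` (helper14)

* `subsingleton_of_ext_vanish`: a finite module `N` with `Ext^i(N, ω) = 0` for all `i` is zero.
* `supportDim_lt`: over a local ring, `dim N ≤ t - c` if `Ext^i(κ, ω) = 0` for `i > t` and
  `Ext^i(N, ω) = 0` for `i < c`.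
* `cm_of_ext_single`: `Ext^i(N, ω) = 0` for `i ≠ c` implies `N` Cohen–Macaulay.
* `exists_open_cm_quot`: for a prime `b`, `A/b` is CM on a nonempty open of `V(b)`.
-/

set_option autoImplicit false
universe u v
open CategoryTheory
attribute [local instance] HasDerivedCategory.standard

namespace Groth.Agent.Lib.Helper14.DualCM
open CategoryTheory CategoryTheory.Limits
open Groth.Agent.Lib.Helper12 Groth.Agent.Lib.Helper12.FlatHomBC DRing Pretriangulated
open Groth.Agent.Lib.Helper12.Bass Groth.Agent.Lib.Helper36.InjAmp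
open Groth.Agent.Lib.Helper12.DualDim
open IsLocalRing Groth.Agent.Lib.Helper29 Groth.Agent.Lib.Helper29.DepthLib Pointwise TensorProduct
open Groth.Agent.S0370.D370
set_option linter.style.haveILetI false

variable {A : Type u} [CommRing A]

/-- a finite module all of whose `Ext^i(N, ω)` vanish is zero (biduality) -/
theorem subsingleton_of_ext_vanish [IsNoetherianRing A] (ω : Dual.D A) (hω : Dual.IsDualizing A ω)
    (N : Type u) [AddCommGroup N] [Module A N] [Module.Finite A N]
    (h : ∀ i : ℤ, Subsingleton (Dual.inD A N ⟶ ω⟦i⟧)) : Subsingleton N := by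
  obtain ⟨a, b, E, hE, hinj, ⟨e⟩⟩ := ModDual.exists_injective_model ω hω
  have hω' : Dual.IsDualizing A (toD E) := DualizingBC.isDualizing_of_iso e.symm hω
  have hrefl := ModDual.refl_dualizing E a b hE hinj hω' (ModuleCat.of A N)
  have hGE : E.IsStrictlyGE a := by
    rw [CochainComplex.isStrictlyGE_iff]
    intro j hj
    exact hE j (Or.inl hj)
  have hinj' : ∀ j, Injective (E.X j) := fun j => by
    have := hinj j
    exact Module.injective_object_of_injective_module A (E.X j)
  have hKI : E.IsKInjective := CochainComplex.isKInjective_of_injective E a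
  have hz : IsZero (ModDual.D E (ModuleCat.of A N)) := by
    apply isZero_of_forall_isZero_HF
    intro i
    rw [ModDual.isZero_HF_D_iff, ← ModDual.hom_single_eq_zero_iff]
    intro α
    apply hom_single_eq_zero (toD E) (ModuleCat.of A N) i
    intro f
    have := h i
    have h1 : f ≫ (shiftFunctor (Dual.D A) i).map e.hom = 0 := Subsingleton.elim _ _
    rw [← cancel_mono ((shiftFunctor (Dual.D A) i).map e.hom), h1, zero_comp]
  exact ⟨fun x y => hrefl.1.1 (hz.eq_of_src _ _)⟩

/-- **dimension bound**: `dim N < d` whenever `t - c < d`, where `Ext^i(κ, ω) = 0` for `i > t`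
and `Ext^i(N, ω) = 0` for `i < c`. -/
theorem supportDim_lt (d : ℕ) : ∀ (R : Type u) [CommRing R] [IsLocalRing R] [IsNoetherianRing R]
    (ω : Dual.D R) (_ : Dual.IsDualizing R ω) (a t : ℤ)
    (_ : ∀ j : ℤ, j < a → IsZero ((HF R j).obj ω))
    (_ : ∀ i : ℤ, t < i → Subsingleton (Dual.inD R (R ⧸ maximalIdeal R) ⟶ ω⟦i⟧))
    (N : Type u) [AddCommGroup N] [Module R N] [Module.Finite R N] (c : ℤ)
    (_ : ∀ i : ℤ, i < c → Subsingleton (Dual.inD R N ⟶ ω⟦i⟧))
    (_ : t - c < d), Module.supportDim R N < d := by
  induction d with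
  | zero =>
    intro R _ _ _ ω hω a t hlo ht N _ _ _ c hc hd
    have hall : VanishAbove ω t N :=
      vanishAbove_of_maximal a hlo hω.finite_cohomology (fun m hm => by
        have hmm := IsLocalRing.eq_maximalIdeal hm
        subst hmm
        exact ht) N
    have : Subsingleton N := subsingleton_of_ext_vanish ω hω N (fun i => by
      by_cases hi : i < c
      · exact hc i hi
      · exact hall i (by push_cast at hd; omega))
    rw [Module.supportDim_eq_bot_of_subsingleton]
    exact WithBot.bot_lt_coe _
  | succ d ih =>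
    intro R _ _ _ ω hω a t hlo ht N _ _ _ c hc hd
    rcases subsingleton_or_nontrivial N with hN | hN
    · rw [Module.supportDim_eq_bot_of_subsingleton]
      exact WithBot.bot_lt_coe _
    set I := Module.annihilator R N with hIdef
    have hI : I ≠ ⊤ := by
      rw [Ne, Module.annihilator_eq_top_iff]
      exact not_subsingleton N
    rw [Module.supportDim_eq_ringKrullDim_quotient_annihilator]
    haveI : Nontrivial (R ⧸ I) := Ideal.Quotient.nontrivial_iff.mpr hI
    haveI : IsLocalRing (R ⧸ I) :=
      IsLocalRing.of_surjective' (Ideal.Quotient.mk I) Ideal.Quotient.mk_surjective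
    rw [← IsLocalRing.maximalIdeal_height_eq_ringKrullDim]
    have key : (maximalIdeal (R ⧸ I)).height ≤ d := by
      rw [Ideal.height_le_iff]
      intro Q hQ hQm
      set q := Q.comap (Ideal.Quotient.mk I) with hq
      haveI : q.IsPrime := Ideal.comap_isPrime _ _
      have hIq : I ≤ q := by
        intro x hx
        rw [hq, Ideal.mem_comap, Ideal.Quotient.eq_zero_iff_mem.2 hx]
        exact Q.zero_mem
      have hQmap : q.map (Ideal.Quotient.mk I) = Q :=
        Ideal.map_comap_of_surjective _ Ideal.Quotient.mk_surjective Q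
      have hqm : q < maximalIdeal R := by
        refine lt_of_le_of_ne (IsLocalRing.le_maximalIdeal (Ideal.IsPrime.ne_top inferInstance)) ?_
        intro h
        obtain ⟨y, hym, hyQ⟩ := SetLike.exists_of_lt hQm
        obtain ⟨x, rfl⟩ := Ideal.Quotient.mk_surjective y
        have hxm : x ∈ maximalIdeal R := by
          by_contra hx
          have hu : IsUnit x := IsLocalRing.notMem_maximalIdeal.mp hx
          exact (IsLocalRing.mem_maximalIdeal _).1 hym (hu.map (Ideal.Quotient.mk I))
        rw [← h] at hxm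
        exact hyQ hxm
      haveI : Module.Flat R (Localization.AtPrime q) := IsLocalization.flat _ q.primeCompl
      haveI : IsNoetherianRing (Localization.AtPrime q) :=
        IsLocalization.isNoetherianRing q.primeCompl _ inferInstance
      obtain ⟨hω', hlo', ht', -⟩ := localization_step R ω hω a t hlo ht q hqm
      have hc' : ∀ i : ℤ, i < c → Subsingleton (Dual.inD (Localization.AtPrime q)
          (Localization.AtPrime q ⊗[R] N) ⟶ ((extScD R (Localization.AtPrime q)).obj ω)⟦i⟧) := by
        intro i hi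
        have h1 := DualizingBC.subsingleton_hom_extScD (B := Localization.AtPrime q)
          (Dual.inD R N) ω (DualizingBC.isPseudoCoherent'_inD N) a hlo i (hc i hi)
        exact ⟨fun f g => by
          rw [← cancel_epi (extScD_inD (B := Localization.AtPrime q) N).hom]
          exact Subsingleton.elim _ _⟩
      have h2 := ih (Localization.AtPrime q) _ hω' a (t - 1) hlo' ht'
        (Localization.AtPrime q ⊗[R] N) c hc' (by push_cast at hd; omega)
      have h3 : Module.supportDim (Localization.AtPrime q) (LocalizedModule q.primeCompl N) =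
          ((Q.height : ℕ∞) : WithBot ℕ∞) := by
        rw [FiniteRestrict.supportDim_localizedModule_eq_height R N q hIq, hQmap]
      have h4 : Module.supportDim (Localization.AtPrime q) (LocalizedModule q.primeCompl N) =
          Module.supportDim (Localization.AtPrime q) (Localization.AtPrime q ⊗[R] N) :=
        Module.supportDim_eq_of_equiv (LocalizedModule.equivTensorProduct q.primeCompl N)
      rw [h4] at h3
      rw [h3] at h2
      exact_mod_cast h2
    calc (((maximalIdeal (R ⧸ I)).height : ℕ∞) : WithBot ℕ∞) ≤ ((d : ℕ∞) : WithBot ℕ∞) := by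
          exact_mod_cast key
      _ < ((d + 1 : ℕ) : WithBot ℕ∞) := by
          exact_mod_cast Nat.lt_succ_self d

section Local

variable {R : Type u} [CommRing R] [IsLocalRing R] [IsNoetherianRing R]

/-- **Cohen–Macaulay criterion**: a nonzero finite module with `Ext^i(N, ω)` concentrated in a
single degree is Cohen–Macaulay. -/
theorem cm_of_ext_single (ω : Dual.D R) (hω : Dual.IsDualizing R ω)
    (N : Type u) [AddCommGroup N] [Module R N] [Module.Finite R N] [Nontrivial N] (c : ℤ)
    (hc : ∀ i : ℤ, i ≠ c → Subsingleton (Dual.inD R N ⟶ ω⟦i⟧)) :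
    Module.supportDim R N = ((LocCoh.depth R N : ℕ∞) : WithBot ℕ∞) := by
  obtain ⟨t, h1, ⟨e⟩⟩ := Groth.Agent.S0364.result R ω hω (maximalIdeal R)
  obtain ⟨a, b, hab⟩ := hω.finite_injective_dimension
  have hz := DualizingBC.isZero_HF_of_finite_injective_dimension ω a b hab
  have hlow : ∀ j : ℤ, j < a → IsZero ((HF R j).obj ω) := fun j hj => hz j (Or.inl hj)
  have hnt : Nontrivial (Dual.inD R (R ⧸ maximalIdeal R) ⟶ ω⟦t⟧) := e.toEquiv.nontrivial
  have ht : ∀ i : ℤ, t < i → Subsingleton (Dual.inD R (R ⧸ maximalIdeal R) ⟶ ω⟦i⟧) :=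
    fun i hi => h1 i (ne_of_gt hi)
  have hall : ∀ (M : Type u) [AddCommGroup M] [Module R M] [Module.Finite R M],
      VanishAbove ω t M := fun M _ _ _ =>
    vanishAbove_of_maximal a hlow hω.finite_cohomology (fun m hm => by
      have hmm := IsLocalRing.eq_maximalIdeal hm
      subst hmm
      exact ht) M
  obtain ⟨n, hn⟩ := ENat.ne_top_iff_exists.1 (depth_ne_top R N)
  have htop := top_le ω t hnt (fun M _ _ _ => hall M (t + 1) (by omega)) n N hn.symm c
    (fun i hi => hc i (ne_of_gt hi))
  have hdim := supportDim_lt (t - c + 1).toNat R ω hω a t hlow ht N c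
    (fun i hi => hc i (ne_of_lt hi)) (by omega)
  apply le_antisymm _ (depth_le_supportDim R N)
  rw [← hn]
  have h3 : (t - c + 1).toNat ≤ n + 1 := by omega
  have h4 : Module.supportDim R N < ((n + 1 : ℕ) : WithBot ℕ∞) :=
    lt_of_lt_of_le hdim (by exact_mod_cast h3)
  rcases hx : Module.supportDim R N with _ | x
  · exact bot_le
  · rw [hx] at h4
    change ((x : ℕ∞) : WithBot ℕ∞) < _ at h4
    change ((x : ℕ∞) : WithBot ℕ∞) ≤ _
    have h5 : x < ((n + 1 : ℕ) : ℕ∞) := by exact_mod_cast h4
    have h6 : x ≤ (n : ℕ∞) := by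
      have hxt : x ≠ ⊤ := ne_top_of_lt h5
      obtain ⟨k, rfl⟩ := ENat.ne_top_iff_exists.1 hxt
      have : k < n + 1 := by exact_mod_cast h5
      exact_mod_cast Nat.lt_succ_iff.1 this
    exact_mod_cast h6

end Local

/-- universe-polymorphic: a finite module whose localization vanishes is killed by some `f ∉ p` -/
theorem exists_kill' (p : Ideal A) [p.IsPrime] (M : Type v) [AddCommGroup M] [Module A M]
    [Module.Finite A M] (h : Subsingleton (LocalizedModule p.primeCompl M)) :
    ∃ f : A, f ∉ p ∧ ∀ m : M, f • m = 0 := by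
  have h1 : (⟨p, inferInstance⟩ : PrimeSpectrum A) ∉ Module.support A M :=
    Module.notMem_support_iff.2 h
  rw [Module.mem_support_iff_of_finite] at h1
  obtain ⟨f, hf, hfp⟩ := SetLike.not_le_iff_exists.1 h1
  exact ⟨f, hfp, fun m => Module.mem_annihilator.1 hf m⟩

theorem subsingleton_of_kill' (q : Ideal A) [q.IsPrime] (M : Type v) [AddCommGroup M] [Module A M]
    (f : A) (hf : f ∉ q) (h : ∀ m : M, f • m = 0) :
    Subsingleton (Localization.AtPrime q ⊗[A] M) := by
  have h1 : Subsingleton (LocalizedModule q.primeCompl M) := by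
    rw [LocalizedModule.subsingleton_iff]
    intro m
    exact ⟨f, hf, h m⟩
  exact (LocalizedModule.equivTensorProduct q.primeCompl M).symm.toEquiv.subsingleton

/-- base change of the residue module -/
noncomputable def residueIso (q : Ideal A) [q.IsPrime] :
    (extScD A (Localization.AtPrime q)).obj (Dual.inD A (A ⧸ q)) ≅
      Dual.inD (Localization.AtPrime q)
        (Localization.AtPrime q ⧸ maximalIdeal (Localization.AtPrime q)) :=
  have : Module.Flat A (Localization.AtPrime q) := IsLocalization.flat _ q.primeCompl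
  extScD_inD (A ⧸ q) ≪≫ inDMapIso
      (Algebra.TensorProduct.quotIdealMapEquivTensorQuot (Localization.AtPrime q)
        q).toLinearEquiv.symm.toModuleIso ≪≫
      inDMapIso (Submodule.quotEquivOfEq _ _
        (Localization.AtPrime.map_eq_maximalIdeal (I := q))).toModuleIso

/-- **generic Cohen–Macaulayness** of `A/b` for a Noetherian ring with a dualizing complex -/
theorem exists_open_cm_quot [IsNoetherianRing A] (ω : Dual.D A) (hω : Dual.IsDualizing A ω)
    (b : Ideal A) [b.IsPrime] :
    ∃ g : A, g ∉ b ∧ ∀ (q : Ideal A) [q.IsPrime], b ≤ q → g ∉ q →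
      Groth.Agent.S2698.S2698P.CMeq (A ⧸ b) q := by
  classical
  obtain ⟨a₀, b₀, hab⟩ := hω.finite_injective_dimension
  have hz := DualizingBC.isZero_HF_of_finite_injective_dimension ω a₀ b₀ hab
  have hlow : ∀ j : ℤ, j < a₀ → IsZero ((HF A j).obj ω) := fun j hj => hz j (Or.inl hj)
  have hflat : ∀ (q : Ideal A) [q.IsPrime], Module.Flat A (Localization.AtPrime q) :=
    fun q _ => IsLocalization.flat _ q.primeCompl
  have hnoeth : ∀ (q : Ideal A) [q.IsPrime], IsNoetherianRing (Localization.AtPrime q) :=
    fun q _ => IsLocalization.isNoetherianRing q.primeCompl _ inferInstance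
  -- the degree at `b`
  have := hflat b
  have := hnoeth b
  obtain ⟨c, hcb, -⟩ := Groth.Agent.S0364.result (Localization.AtPrime b) _
    (isDualizing_localization ω hω b) (maximalIdeal (Localization.AtPrime b))
  have hK : IsPseudoCoherent' A (Dual.inD A (A ⧸ b)) := DualizingBC.isPseudoCoherent'_inD (A ⧸ b)
  have hfinE : ∀ i : ℤ, Module.Finite A (Dual.inD A (A ⧸ b) ⟶ ω⟦i⟧) := fun i =>
    HomFinite.finite_hom _ (ω⟦i⟧) hK (a₀ - i)
      (fun j hj => isZero_HF_shift ω i j (hlow _ (by omega)))
      (fun j => HomFinite.finite_HF_shift ω i j (hω.finite_cohomology _))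
  -- killing elements
  have hkill : ∀ i : ℤ, i ≠ c → ∃ g : A, g ∉ b ∧
      ∀ x : (Dual.inD A (A ⧸ b) ⟶ ω⟦i⟧), g • x = 0 := by
    intro i hi
    have := hfinE i
    apply exists_kill' b
    have hbij := bijective_homBCShift (B := Localization.AtPrime b) (Dual.inD A (A ⧸ b)) ω hK
      a₀ hlow i
    have hsub : Subsingleton ((extScD A (Localization.AtPrime b)).obj (Dual.inD A (A ⧸ b)) ⟶
        ((extScD A (Localization.AtPrime b)).obj ω)⟦i⟧) := by
      have := hcb i hi
      exact ⟨fun f g => by
        rw [← cancel_epi (residueIso b).inv]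
        exact Subsingleton.elim _ _⟩
    have h2 : Subsingleton (Localization.AtPrime b ⊗[A] (Dual.inD A (A ⧸ b) ⟶ ω⟦i⟧)) :=
      ⟨fun x y => hbij.1 (Subsingleton.elim _ _)⟩
    exact (LocalizedModule.equivTensorProduct b.primeCompl _).toEquiv.subsingleton
  choose! G hGb hGkill using hkill
  refine ⟨∏ i ∈ (Finset.Icc a₀ b₀).erase c, G i, ?_, ?_⟩
  · rw [Ideal.IsPrime.prod_mem_iff]
    rintro ⟨i, hi, hGi⟩
    exact hGb i (Finset.ne_of_mem_erase hi) hGi
  intro q _ hbq hgq
  have := hflat q
  have := hnoeth q
  have hω' := isDualizing_localization ω hω q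
  haveI hnt : Nontrivial (Localization.AtPrime q ⊗[A] (A ⧸ b)) := by
    have := Groth.Agent.S4699.S4699P.nontrivial_quot b q hbq
    exact (LocalizedModule.equivTensorProduct q.primeCompl (A ⧸ b)).symm.toEquiv.nontrivial
  have hvan : ∀ i : ℤ, i ≠ c → Subsingleton (Dual.inD (Localization.AtPrime q)
      (Localization.AtPrime q ⊗[A] (A ⧸ b)) ⟶ ((extScD A (Localization.AtPrime q)).obj ω)⟦i⟧) := by
    intro i hi
    have hbij := bijective_homBCShift (B := Localization.AtPrime q) (Dual.inD A (A ⧸ b)) ω hK
      a₀ hlow i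
    have h2 : Subsingleton (Localization.AtPrime q ⊗[A] (Dual.inD A (A ⧸ b) ⟶ ω⟦i⟧)) := by
      by_cases hrange : i ∈ Finset.Icc a₀ b₀
      · have hGq : G i ∉ q := by
          intro hG
          apply hgq
          rw [Ideal.IsPrime.prod_mem_iff]
          exact ⟨i, Finset.mem_erase.2 ⟨hi, hrange⟩, hG⟩
        exact subsingleton_of_kill' q _ (G i) hGq (hGkill i hi)
      · rw [Finset.mem_Icc, not_and_or, not_le, not_le] at hrange
        have := hab (A ⧸ b) i hrange
        infer_instance
    have hsub : Subsingleton ((extScD A (Localization.AtPrime q)).obj (Dual.inD A (A ⧸ b)) ⟶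
        ((extScD A (Localization.AtPrime q)).obj ω)⟦i⟧) :=
      ⟨fun f g => by
        obtain ⟨f', rfl⟩ := hbij.2 f
        obtain ⟨g', rfl⟩ := hbij.2 g
        rw [Subsingleton.elim f' g']⟩
    exact ⟨fun f g => by
      rw [← cancel_epi (extScD_inD (B := Localization.AtPrime q) (A ⧸ b)).hom]
      exact Subsingleton.elim _ _⟩
  have hcm := cm_of_ext_single _ hω' (Localization.AtPrime q ⊗[A] (A ⧸ b)) c hvan
  unfold Groth.Agent.S2698.S2698P.CMeq Groth.Agent.S4699.S4699P.dm Groth.Agent.S4699.S4699P.dp
  rw [Module.supportDim_eq_of_equiv (LocalizedModule.equivTensorProduct q.primeCompl (A ⧸ b)),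
    CMLib.depth_congr (LocalizedModule.equivTensorProduct q.primeCompl (A ⧸ b))]
  exact hcm

end Groth.Agent.Lib.Helper14.DualCM
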