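import Mathlib
import Groth.Agent.Lib.Helper14.DualCM

set_option autoImplicit false
universe u
open CategoryTheory
attribute [local instance] HasDerivedCategory.standard

namespace Groth.Agent.Lib.Helper14.DualDepth
open CategoryTheory CategoryTheory.Limits
open Groth.Agent.Lib.Helper12 Groth.Agent.Lib.Helper12.FlatHomBC DRing Pretriangulated
open Groth.Agent.Lib.Helper12.Bass Groth.Agent.Lib.Helper36.InjAmp
open Groth.Agent.Lib.Helper12.DualDim
open IsLocalRing Groth.Agent.Lib.Helper29 Groth.Agent.Lib.Helper29.DepthLib Pointwise TensorProduct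
open Groth.Agent.S0370.D370 Groth.Agent.Lib.Helper14.DualCM
set_option linter.style.haveILetI false

variable {A : Type u} [CommRing A] [IsLocalRing A] [IsNoetherianRing A]

/-- Nakayama step: `Ext^{i+1}(N/xN, K) = 0 ⇒ Ext^i(N, K) = 0` for `x ∈ m` regular on `N` -/
theorem nakayama_ext (K : Dual.D A) (a₀ : ℤ)
    (hlow : ∀ j : ℤ, j < a₀ → IsZero ((HF A j).obj K))
    (hfin : ∀ j : ℤ, Module.Finite A ((HF A j).obj K))
    (N : Type u) [AddCommGroup N] [Module A N] [Module.Finite A N]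
    (x : A) (hxm : x ∈ maximalIdeal A) (hreg : IsSMulRegular N x) (i : ℤ)
    (h : Subsingleton (Dual.inD A (QuotSMulTop x N) ⟶ K⟦i + 1⟧)) :
    Subsingleton (Dual.inD A N ⟶ K⟦i⟧) := by
  have hTfin : Module.Finite A (Dual.inD A N ⟶ K⟦i⟧) :=
    HomFinite.finite_hom _ (K⟦i⟧) (DualizingBC.isPseudoCoherent'_inD N) (a₀ - i)
      (fun j hj => isZero_HF_shift K i j (hlow _ (by omega)))
      (fun j => HomFinite.finite_HF_shift K i j (hfin _))
  have hex : Function.Exact (LinearMap.lsmul A N x) (x • (⊤ : Submodule A N)).mkQ := by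
    rw [LinearMap.exact_iff, Submodule.ker_mkQ]
    ext y
    rw [Submodule.mem_smul_pointwise_iff_exists, LinearMap.mem_range]
    constructor
    · rintro ⟨z, -, rfl⟩
      exact ⟨z, rfl⟩
    · rintro ⟨z, rfl⟩
      exact ⟨z, trivial, rfl⟩
  obtain ⟨δ, hT⟩ := exists_triangle (LinearMap.lsmul A N x) (x • (⊤ : Submodule A N)).mkQ hreg
    (Submodule.mkQ_surjective _) hex
  have hT' := inv_rot_of_distTriang _ hT
  have hsurj : ∀ f : Dual.inD A N ⟶ K⟦i⟧, ∃ z : Dual.inD A N ⟶ K⟦i⟧, f = x • z := by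
    intro f
    obtain ⟨z, hz⟩ := Triangle.yoneda_exact₂ _ hT' f
      (hom_shift_neg_one_eq_zero _ _ i (fun g => h.elim _ _) _)
    exact ⟨z, hz.trans (map_lsmul_comp x _ z)⟩
  have hxJ : x ∈ (⊥ : Ideal A).jacobson := by
    rw [IsLocalRing.jacobson_eq_maximalIdeal ⊥ bot_ne_top]
    exact hxm
  have hbot : (⊤ : Submodule A (Dual.inD A N ⟶ K⟦i⟧)) = ⊥ :=
    Submodule.eq_bot_of_le_smul_of_le_jacobson_bot (Ideal.span {x}) _ hTfin.fg_top (by
      intro f _
      obtain ⟨z, rfl⟩ := hsurj f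
      exact Submodule.smul_mem_smul (Ideal.mem_span_singleton_self x) trivial)
      ((Ideal.span_singleton_le_iff_mem _).mpr hxJ)
  refine ⟨fun f g => ?_⟩
  have hf : f ∈ (⊥ : Submodule A (Dual.inD A N ⟶ K⟦i⟧)) := hbot ▸ Submodule.mem_top
  have hg : g ∈ (⊥ : Submodule A (Dual.inD A N ⟶ K⟦i⟧)) := hbot ▸ Submodule.mem_top
  rw [Submodule.mem_bot] at hf hg
  rw [hf, hg]

/-- `Ext^i(N, K) = 0` for `i > t - depth N` -/
theorem vanishAbove_depth (K : Dual.D A) (a₀ : ℤ)
    (hlow : ∀ j : ℤ, j < a₀ → IsZero ((HF A j).obj K))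
    (hfin : ∀ j : ℤ, Module.Finite A ((HF A j).obj K)) (t : ℤ)
    (hall : ∀ (M : Type u) [AddCommGroup M] [Module A M] [Module.Finite A M], VanishAbove K t M) :
    ∀ (r : ℕ) (N : Type u) [AddCommGroup N] [Module A N] [Module.Finite A N] [Nontrivial N],
      LocCoh.depth A N = r → VanishAbove K (t - r) N := by
  intro r
  induction r with
  | zero =>
    intro N _ _ _ _ _
    simpa using hall N
  | succ r ih =>
    intro N _ _ _ _ hd
    have hne : LocCoh.depth A N ≠ 0 := by
      rw [hd]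
      exact_mod_cast Nat.succ_ne_zero r
    have h1 := (depth_eq_zero_iff_forall_not_isSMulRegular A N
      (maximalIdeal_smul_top_ne_top A N)).not.1 hne
    push Not at h1
    obtain ⟨x, hxm, hreg⟩ := h1
    have hnt' : Nontrivial (QuotSMulTop x N) := nontrivial_quotSMulTop A N hxm
    have hd' : LocCoh.depth A (QuotSMulTop x N) = r := by
      have h2 := depth_quotSMulTop_add_one A N hxm hreg
      rw [hd] at h2
      have h3 : LocCoh.depth A (QuotSMulTop x N) + 1 = (r : ℕ∞) + 1 := by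
        rw [h2]; push_cast; rfl
      exact ENat.add_left_injective_of_ne_top ENat.one_ne_top h3
    have h4 := ih (QuotSMulTop x N) hd'
    intro i hi
    exact nakayama_ext K a₀ hlow hfin N x hxm hreg i (h4 (i + 1) (by push_cast at hi; omega))

section Normalized

variable (ω : Dual.D A) (hω : Dual.IsDualizing A ω) (hn : Dual.IsNormalized A ω)

include hω hn in
theorem normalized_data :
    Nontrivial (Dual.inD A (A ⧸ maximalIdeal A) ⟶ ω⟦(0 : ℤ)⟧) ∧
    (∀ i : ℤ, i ≠ 0 → Subsingleton (Dual.inD A (A ⧸ maximalIdeal A) ⟶ ω⟦i⟧)) := by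
  obtain ⟨t, h1, ⟨e⟩⟩ := Groth.Agent.S0364.result A ω hω (maximalIdeal A)
  have hnt : Nontrivial (Dual.inD A (A ⧸ maximalIdeal A) ⟶ ω⟦t⟧) := e.toEquiv.nontrivial
  have hn' : ∀ i : ℤ, i ≠ 0 → Subsingleton (Dual.inD A (A ⧸ maximalIdeal A) ⟶ ω⟦i⟧) := hn
  have ht0 : t = 0 := by
    by_contra h
    exact not_subsingleton _ (hn' t h)
  subst ht0
  exact ⟨hnt, hn'⟩

include hω hn in
theorem depth_iff (M : Type u) [AddCommGroup M] [Module A M] [Module.Finite A M] [Nontrivial M]
    (n : ℕ) : LocCoh.depth A M = n ↔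
      ((∀ δ : ℕ, δ < n → Subsingleton (Dual.inD A M ⟶ ω⟦(-(δ : ℤ))⟧)) ∧
        Nontrivial (Dual.inD A M ⟶ ω⟦(-(n : ℤ))⟧)) := by
  obtain ⟨hnt, hsub⟩ := normalized_data ω hω hn
  obtain ⟨a, b, hab⟩ := hω.finite_injective_dimension
  have hz := DualizingBC.isZero_HF_of_finite_injective_dimension ω a b hab
  have hlow : ∀ j : ℤ, j < a → IsZero ((HF A j).obj ω) := fun j hj => hz j (Or.inl hj)
  have hall : ∀ (M : Type u) [AddCommGroup M] [Module A M] [Module.Finite A M],
      VanishAbove ω 0 M := fun M _ _ _ =>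
    vanishAbove_of_maximal a hlow hω.finite_cohomology (fun m hm => by
      have hmm := IsLocalRing.eq_maximalIdeal hm
      subst hmm
      exact fun i hi => hsub i (ne_of_gt hi)) M
  have key : ∀ m : ℕ, LocCoh.depth A M = m →
      ((∀ δ : ℕ, δ < m → Subsingleton (Dual.inD A M ⟶ ω⟦(-(δ : ℤ))⟧)) ∧
        Nontrivial (Dual.inD A M ⟶ ω⟦(-(m : ℤ))⟧)) := by
    intro m hm
    have hU := vanishAbove_depth ω a hlow hω.finite_cohomology 0 hall m M hm
    refine ⟨fun δ hδ => hU _ (by omega), ?_⟩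
    by_contra hcon
    rw [not_nontrivial_iff_subsingleton] at hcon
    have hV : VanishAbove ω (-(m : ℤ) - 1) M := by
      intro i hi
      by_cases him : i = -(m : ℤ)
      · subst him
        exact hcon
      · exact hU i (by omega)
    have := top_le ω 0 hnt (fun M _ _ _ => hall M (0 + 1) (by omega)) m M hm _ hV
    omega
  constructor
  · exact key n
  · rintro ⟨h1, h2⟩
    obtain ⟨m, hm⟩ := ENat.ne_top_iff_exists.1 (depth_ne_top A M)
    obtain ⟨k1, k2⟩ := key m hm.symm
    rw [← hm]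
    rcases lt_trichotomy m n with h | h | h
    · exact absurd (h1 m h) (not_subsingleton _)
    · rw [h]
    · exact absurd (k1 n h) (not_subsingleton _)

include hω hn in
theorem depth_self_iff (n : ℕ) : LocCoh.depth A A = n ↔
    ((∀ δ : ℕ, δ < n → Subsingleton (Dual.HD A ω (-(δ : ℤ)))) ∧
      Nontrivial (Dual.HD A ω (-(n : ℤ)))) := by
  have hbridge : ∀ i : ℤ, Subsingleton (Dual.HD A ω i) ↔ Subsingleton (Dual.inD A A ⟶ ω⟦i⟧) := by
    intro i
    constructor
    · intro h
      have hz : IsZero ((HF A i).obj ω) := ModuleCat.isZero_of_subsingleton _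
      exact ⟨fun f g => (hom_ring_eq_zero ω i hz f).trans (hom_ring_eq_zero ω i hz g).symm⟩
    · intro h
      exact ModuleCat.subsingleton_of_isZero
        (isZero_HF_of_hom_ring_eq_zero ω i (fun f => Subsingleton.elim _ _))
  rw [depth_iff ω hω hn A n]
  constructor
  · rintro ⟨h1, h2⟩
    refine ⟨fun δ hδ => (hbridge _).2 (h1 δ hδ), ?_⟩
    by_contra hcon
    rw [not_nontrivial_iff_subsingleton, hbridge] at hcon
    exact not_subsingleton _ hcon
  · rintro ⟨h1, h2⟩
    refine ⟨fun δ hδ => (hbridge _).1 (h1 δ hδ), ?_⟩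
    by_contra hcon
    rw [not_nontrivial_iff_subsingleton, ← hbridge] at hcon
    exact not_subsingleton _ hcon

end Normalized

end Groth.Agent.Lib.Helper14.DualDepth
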