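import Mathlib
import Groth.Agent.Lib.Helper14.DualDepth

/-!
# The dimension function of a dualizing complex (helper14)

For a Noetherian ring `A` with dualizing complex `ω` and a prime `p`, `tdeg ω hω p` is the unique
degree `i` with `Ext^i_{A_p}(κ(p), ω_p) ≠ 0`.  `tdeg_covBy`: `tdeg p = tdeg q - 1` for `p ⋖ q`.
-/

set_option autoImplicit false
universe u v
open CategoryTheory
attribute [local instance] HasDerivedCategory.standard

namespace Groth.Agent.Lib.Helper14.DualDelta
open CategoryTheory CategoryTheory.Limits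
open Groth.Agent.Lib.Helper12 Groth.Agent.Lib.Helper12.FlatHomBC DRing Pretriangulated
open Groth.Agent.Lib.Helper12.Bass Groth.Agent.Lib.Helper36.InjAmp
open Groth.Agent.Lib.Helper12.DualDim
open IsLocalRing Groth.Agent.Lib.Helper29 Groth.Agent.Lib.Helper29.DepthLib Pointwise TensorProduct
open Groth.Agent.S0370.D370 Groth.Agent.Lib.Helper14.DualCM Groth.Agent.Lib.Helper14.DualDepth
set_option linter.style.haveILetI false

variable {A : Type u} [CommRing A]

section Support

variable [IsLocalRing A] [IsNoetherianRing A]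

/-- dévissage for modules supported at the closed point -/
theorem subsingleton_hom_of_support (K : Dual.D A) (k : ℤ)
    (h : Subsingleton (Dual.inD A (A ⧸ maximalIdeal A) ⟶ K⟦k⟧))
    (N : Type u) [AddCommGroup N] [Module A N] [hN : Module.Finite A N]
    (hs : ∀ P : PrimeSpectrum A, P ∈ Module.support A N → P.asIdeal = maximalIdeal A) :
    Subsingleton (Dual.inD A N ⟶ K⟦k⟧) := by
  revert hs
  refine IsNoetherianRing.induction_on_isQuotientEquivQuotientPrime A hN
    (motive := fun N _ _ _ => (∀ P : PrimeSpectrum A, P ∈ Module.support A N →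
      P.asIdeal = maximalIdeal A) → Subsingleton (Dual.inD A N ⟶ K⟦k⟧)) ?_ ?_ ?_
  · intro N _ _ _ _ _
    have hz : IsZero (Dual.inD A N) :=
      isZero_inD (M := ModuleCat.of A N) (ModuleCat.isZero_of_subsingleton _)
    exact ⟨fun f g => hz.eq_of_src f g⟩
  · intro N _ _ _ q e hs
    have hq : q.asIdeal = maximalIdeal A := by
      apply hs q
      rw [Module.mem_support_iff_of_finite]
      intro y hy
      have h1 := Module.mem_annihilator.1 hy (e.symm 1)
      have h2 : y • (1 : A ⧸ q.asIdeal) = 0 := by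
        rw [← e.apply_symm_apply 1, ← map_smul, h1, map_zero]
      rw [← Ideal.Quotient.eq_zero_iff_mem, ← h2]
      simp [Algebra.smul_def]
    have e' : N ≃ₗ[A] (A ⧸ maximalIdeal A) := e.trans (Submodule.quotEquivOfEq _ _ hq)
    exact ⟨fun f g => by
      rw [← cancel_epi (inDMapIso e'.symm.toModuleIso).hom]
      exact Subsingleton.elim _ _⟩
  · intro N₁ _ _ _ N₂ _ _ _ N₃ _ _ _ f g hf hg hfg h₁ h₃ hs
    refine ext_mid f g K hf hg hfg k (h₁ ?_) (h₃ ?_)
    · intro P hP
      exact hs P (Module.support_subset_of_injective f hf hP)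
    · intro P hP
      exact hs P (Module.support_subset_of_surjective g hg hP)

end Support

variable [IsNoetherianRing A]

/-- existence of the residue degree -/
theorem exists_tdeg (ω : Dual.D A) (hω : Dual.IsDualizing A ω) (p : Ideal A) [p.IsPrime] :
    ∃ n : ℤ, (∀ i : ℤ, i ≠ n → Subsingleton (Dual.inD (Localization.AtPrime p)
        (Localization.AtPrime p ⧸ maximalIdeal (Localization.AtPrime p)) ⟶
          ((extScD A (Localization.AtPrime p)).obj ω)⟦i⟧)) ∧
      Nontrivial (Dual.inD (Localization.AtPrime p)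
        (Localization.AtPrime p ⧸ maximalIdeal (Localization.AtPrime p)) ⟶
          ((extScD A (Localization.AtPrime p)).obj ω)⟦n⟧) := by
  have : IsNoetherianRing (Localization.AtPrime p) :=
    IsLocalization.isNoetherianRing p.primeCompl _ inferInstance
  obtain ⟨n, h1, ⟨e⟩⟩ := Groth.Agent.S0364.result (Localization.AtPrime p) _
    (isDualizing_localization ω hω p) (maximalIdeal (Localization.AtPrime p))
  exact ⟨n, h1, e.toEquiv.nontrivial⟩

/-- the residue degree of `ω` at `p` -/
noncomputable def tdeg (ω : Dual.D A) (hω : Dual.IsDualizing A ω) (p : Ideal A) [p.IsPrime] : ℤ :=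
  (exists_tdeg ω hω p).choose

theorem tdeg_subsingleton (ω : Dual.D A) (hω : Dual.IsDualizing A ω) (p : Ideal A) [p.IsPrime]
    (i : ℤ) (hi : i ≠ tdeg ω hω p) : Subsingleton (Dual.inD (Localization.AtPrime p)
        (Localization.AtPrime p ⧸ maximalIdeal (Localization.AtPrime p)) ⟶
          ((extScD A (Localization.AtPrime p)).obj ω)⟦i⟧) :=
  (exists_tdeg ω hω p).choose_spec.1 i hi

theorem tdeg_nontrivial (ω : Dual.D A) (hω : Dual.IsDualizing A ω) (p : Ideal A) [p.IsPrime] :
    Nontrivial (Dual.inD (Localization.AtPrime p)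
        (Localization.AtPrime p ⧸ maximalIdeal (Localization.AtPrime p)) ⟶
          ((extScD A (Localization.AtPrime p)).obj ω)⟦tdeg ω hω p⟧) :=
  (exists_tdeg ω hω p).choose_spec.2

/-- localization of global `Ext` modules computes local `Ext` -/
theorem subsingleton_loc_iff (ω : Dual.D A) (hω : Dual.IsDualizing A ω) (q : Ideal A) [q.IsPrime]
    (N : Type u) [AddCommGroup N] [Module A N] [Module.Finite A N] (i : ℤ) :
    Subsingleton (LocalizedModule q.primeCompl (Dual.inD A N ⟶ ω⟦i⟧)) ↔
      Subsingleton (Dual.inD (Localization.AtPrime q) (Localization.AtPrime q ⊗[A] N) ⟶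
        ((extScD A (Localization.AtPrime q)).obj ω)⟦i⟧) := by
  obtain ⟨a₀, b₀, hab⟩ := hω.finite_injective_dimension
  have hz := DualizingBC.isZero_HF_of_finite_injective_dimension ω a₀ b₀ hab
  have hlow : ∀ j : ℤ, j < a₀ → IsZero ((HF A j).obj ω) := fun j hj => hz j (Or.inl hj)
  have hbij := bijective_homBCShift (B := Localization.AtPrime q) (Dual.inD A N) ω
    (DualizingBC.isPseudoCoherent'_inD N) a₀ hlow i
  have e1 : LocalizedModule q.primeCompl (Dual.inD A N ⟶ ω⟦i⟧) ≃
      (Localization.AtPrime q ⊗[A] (Dual.inD A N ⟶ ω⟦i⟧)) :=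
    (LocalizedModule.equivTensorProduct q.primeCompl _).toEquiv
  have e2 := Equiv.ofBijective _ hbij
  have e3 := Iso.homCongr (extScD_inD (A := A) (B := Localization.AtPrime q) N)
    (Iso.refl (((extScD A (Localization.AtPrime q)).obj ω)⟦i⟧))
  exact ((e1.trans e2).trans e3).subsingleton_congr

/-- the same at the residue field of `p` -/
theorem subsingleton_loc_residue_iff (ω : Dual.D A) (hω : Dual.IsDualizing A ω) (p : Ideal A)
    [p.IsPrime] (i : ℤ) :
    Subsingleton (LocalizedModule p.primeCompl (Dual.inD A (A ⧸ p) ⟶ ω⟦i⟧)) ↔ i ≠ tdeg ω hω p := by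
  obtain ⟨a₀, b₀, hab⟩ := hω.finite_injective_dimension
  have hz := DualizingBC.isZero_HF_of_finite_injective_dimension ω a₀ b₀ hab
  have hlow : ∀ j : ℤ, j < a₀ → IsZero ((HF A j).obj ω) := fun j hj => hz j (Or.inl hj)
  have hbij := bijective_homBCShift (B := Localization.AtPrime p) (Dual.inD A (A ⧸ p)) ω
    (DualizingBC.isPseudoCoherent'_inD (A ⧸ p)) a₀ hlow i
  have e1 : LocalizedModule p.primeCompl (Dual.inD A (A ⧸ p) ⟶ ω⟦i⟧) ≃
      (Localization.AtPrime p ⊗[A] (Dual.inD A (A ⧸ p) ⟶ ω⟦i⟧)) :=
    (LocalizedModule.equivTensorProduct p.primeCompl _).toEquiv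
  have e2 := Equiv.ofBijective _ hbij
  have e3 := Iso.homCongr (residueIso p)
    (Iso.refl (((extScD A (Localization.AtPrime p)).obj ω)⟦i⟧))
  rw [((e1.trans e2).trans e3).subsingleton_congr]
  constructor
  · intro h hi
    subst hi
    have := tdeg_nontrivial ω hω p
    exact not_subsingleton _ h
  · exact tdeg_subsingleton ω hω p i

/-- the covering step: `Ext^i_{A_q}((A/p)_q, ω_q) = 0` for `i ≠ tdeg q - 1` when `p ⋖ q` -/
theorem ext_cov_vanish (ω : Dual.D A) (hω : Dual.IsDualizing A ω) (p q : Ideal A) [p.IsPrime]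
    [q.IsPrime] (hpq : p < q) (hcov : ∀ c : Ideal A, c.IsPrime → p < c → c ≤ q → c = q)
    (i : ℤ) (hi : i ≠ tdeg ω hω q - 1) :
    Subsingleton (Dual.inD (Localization.AtPrime q) (Localization.AtPrime q ⊗[A] (A ⧸ p)) ⟶
        ((extScD A (Localization.AtPrime q)).obj ω)⟦i⟧) := by
  have : IsNoetherianRing (Localization.AtPrime q) :=
    IsLocalization.isNoetherianRing q.primeCompl _ inferInstance
  set R := Localization.AtPrime q with hR
  set ωq := (extScD A R).obj ω with hωq
  have hω' : Dual.IsDualizing R ωq := isDualizing_localization ω hω q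
  obtain ⟨a, b, hab⟩ := hω'.finite_injective_dimension
  have hz := DualizingBC.isZero_HF_of_finite_injective_dimension ωq a b hab
  have hlow : ∀ j : ℤ, j < a → IsZero ((HF R j).obj ωq) := fun j hj => hz j (Or.inl hj)
  obtain ⟨x, hxq, hxp⟩ := SetLike.exists_of_lt hpq
  set N := R ⊗[A] (A ⧸ p) with hN
  set x' : R := algebraMap A R x with hx'
  have hxm : x' ∈ maximalIdeal R :=
    (IsLocalization.AtPrime.to_map_mem_maximal_iff R q x).2 hxq
  -- `x'` is regular on `N`
  have hreg : IsSMulRegular N x' := by
    have h1 : IsSMulRegular (A ⧸ p) x := by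
      intro y z hyz
      obtain ⟨y, rfl⟩ := Ideal.Quotient.mk_surjective y
      obtain ⟨z, rfl⟩ := Ideal.Quotient.mk_surjective z
      have h2 : Ideal.Quotient.mk p (x * (y - z)) = 0 := by
        have h3 : x • Ideal.Quotient.mk p y = x • Ideal.Quotient.mk p z := hyz
        rw [map_mul, map_sub, mul_sub]
        rw [Algebra.smul_def, Algebra.smul_def] at h3
        exact sub_eq_zero.2 h3
      rw [Ideal.Quotient.eq_zero_iff_mem] at h2
      have h4 := (Ideal.IsPrime.mem_or_mem inferInstance h2).resolve_left hxp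
      exact (Ideal.Quotient.eq).2 h4
    have h5 : Function.Injective (LinearMap.lTensor R (LinearMap.lsmul A (A ⧸ p) x)) :=
      Module.Flat.lTensor_preserves_injective_linearMap _ h1
    intro y z hyz
    apply h5
    have h6 : ∀ w : N, LinearMap.lTensor R (LinearMap.lsmul A (A ⧸ p) x) w = x' • w := by
      intro w
      induction w using TensorProduct.induction_on with
      | zero => simp
      | tmul r m =>
        rw [LinearMap.lTensor_tmul, LinearMap.lsmul_apply, TensorProduct.tmul_smul,
          hx', algebraMap_smul]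
      | add w1 w2 h1 h2 => rw [map_add, smul_add, h1, h2]
    rw [h6, h6]
    exact hyz
  -- the quotient is supported at the closed point
  have hsupp : ∀ P : PrimeSpectrum R, P ∈ Module.support R (QuotSMulTop x' N) →
      P.asIdeal = maximalIdeal R := by
    intro P hP
    rw [Module.mem_support_iff_of_finite] at hP
    set c := P.asIdeal.comap (algebraMap A R) with hc
    have hcq : c ≤ q := by
      intro y hy
      by_contra hyq
      have hu : IsUnit (algebraMap A R y) :=
        IsLocalization.map_units R (⟨y, hyq⟩ : q.primeCompl)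
      exact P.2.ne_top (Ideal.eq_top_of_isUnit_mem _ hy hu)
    have hxc : x ∈ c := by
      apply hP
      rw [Module.mem_annihilator]
      intro n
      obtain ⟨n, rfl⟩ := Submodule.mkQ_surjective _ n
      rw [← map_smul, Submodule.mkQ_apply, Submodule.Quotient.mk_eq_zero]
      exact Submodule.smul_mem_pointwise_smul _ _ _ trivial
    have hpc : p ≤ c := by
      intro y hy
      apply hP
      rw [Module.mem_annihilator]
      intro n
      obtain ⟨n, rfl⟩ := Submodule.mkQ_surjective _ n
      rw [← map_smul]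
      have h0 : algebraMap A R y • n = 0 := by
        induction n using TensorProduct.induction_on with
        | zero => simp
        | tmul r m =>
          obtain ⟨m, rfl⟩ := Ideal.Quotient.mk_surjective m
          rw [algebraMap_smul, ← TensorProduct.tmul_smul]
          have : y • Ideal.Quotient.mk p m = 0 := by
            rw [Algebra.smul_def]
            show Ideal.Quotient.mk p y * Ideal.Quotient.mk p m = 0
            rw [← map_mul]
            exact Ideal.Quotient.eq_zero_iff_mem.2 (p.mul_mem_right m hy)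
          rw [this, TensorProduct.tmul_zero]
        | add w1 w2 h1 h2 => rw [smul_add, h1, h2, add_zero]
      rw [h0, map_zero]
    have hpc' : p < c := lt_of_le_of_ne hpc (fun h => hxp (h ▸ hxc))
    have hceq : c = q := hcov c (Ideal.comap_isPrime _ _) hpc' hcq
    have h7 : maximalIdeal R ≤ P.asIdeal := by
      rw [← Localization.AtPrime.map_eq_maximalIdeal, Ideal.map_le_iff_le_comap]
      exact hceq.ge
    exact ((IsLocalRing.maximalIdeal.isMaximal R).eq_of_le P.2.ne_top h7).symm
  -- Nakayama
  have hne : i + 1 ≠ tdeg ω hω q := fun h => hi (by omega)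
  have h8 := subsingleton_hom_of_support ωq (i + 1) (tdeg_subsingleton ω hω q (i + 1) hne)
    (QuotSMulTop x' N) hsupp
  exact nakayama_ext ωq a hlow hω'.finite_cohomology N x' hxm hreg i h8

/-- **the dimension function**: `tdeg p = tdeg q - 1` when `q` covers `p` -/
theorem tdeg_covBy (ω : Dual.D A) (hω : Dual.IsDualizing A ω) (p q : Ideal A) [p.IsPrime]
    [q.IsPrime] (hpq : p < q) (hcov : ∀ c : Ideal A, c.IsPrime → p < c → c ≤ q → c = q) :
    tdeg ω hω p = tdeg ω hω q - 1 := by
  by_contra hne
  have h1 := ext_cov_vanish ω hω p q hpq hcov (tdeg ω hω p) hne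
  rw [← subsingleton_loc_iff ω hω q (A ⧸ p)] at h1
  obtain ⟨a₀, b₀, hab⟩ := hω.finite_injective_dimension
  have hz := DualizingBC.isZero_HF_of_finite_injective_dimension ω a₀ b₀ hab
  have hlow : ∀ j : ℤ, j < a₀ → IsZero ((HF A j).obj ω) := fun j hj => hz j (Or.inl hj)
  have hfinE : Module.Finite A (Dual.inD A (A ⧸ p) ⟶ ω⟦tdeg ω hω p⟧) :=
    HomFinite.finite_hom _ (ω⟦tdeg ω hω p⟧) (DualizingBC.isPseudoCoherent'_inD (A ⧸ p))
      (a₀ - tdeg ω hω p)
      (fun j hj => isZero_HF_shift ω _ j (hlow _ (by omega)))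
      (fun j => HomFinite.finite_HF_shift ω _ j (hω.finite_cohomology _))
  obtain ⟨f, hfq, hf⟩ := exists_kill' q _ h1
  have hfp : f ∉ p := fun h => hfq (hpq.le h)
  have h2 : Subsingleton (LocalizedModule p.primeCompl
      (Dual.inD A (A ⧸ p) ⟶ ω⟦tdeg ω hω p⟧)) := by
    rw [LocalizedModule.subsingleton_iff]
    intro m
    exact ⟨f, hfp, hf m⟩
  exact (subsingleton_loc_residue_iff ω hω p _).1 h2 rfl

end Groth.Agent.Lib.Helper14.DualDelta
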