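import Mathlib
import Groth.Agent.Lib.Helper14.DualDelta
import Groth.Agent.Lib.Helper12.MinimalPrimeDualizing

/-!
# The residue degree and the coheight in a local ring with a dualizing complex (helper14)
-/

set_option autoImplicit false
universe u v
open CategoryTheory
attribute [local instance] HasDerivedCategory.standard

namespace Groth.Agent.Lib.Helper14.DualCoheight
open CategoryTheory CategoryTheory.Limits
open Groth.Agent.Lib.Helper12 Groth.Agent.Lib.Helper12.FlatHomBC DRing Pretriangulated
open Groth.Agent.Lib.Helper12.Bass Groth.Agent.Lib.Helper36.InjAmp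
open Groth.Agent.Lib.Helper12.DualDim
open IsLocalRing Groth.Agent.Lib.Helper29 Groth.Agent.Lib.Helper29.DepthLib Pointwise TensorProduct
open Groth.Agent.S0370.D370 Groth.Agent.Lib.Helper14.DualCM Groth.Agent.Lib.Helper14.DualDepth
open Groth.Agent.Lib.Helper14.DualDelta
set_option linter.style.haveILetI false

variable {A : Type u} [CommRing A] [IsNoetherianRing A]

theorem tdeg_congr (ω : Dual.D A) (hω : Dual.IsDualizing A ω) (p q : Ideal A) [p.IsPrime]
    [q.IsPrime] (h : p = q) : tdeg ω hω p = tdeg ω hω q := by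
  subst h
  rfl

/-- covering in the prime spectrum, in ideal form -/
theorem tdeg_covBy' (ω : Dual.D A) (hω : Dual.IsDualizing A ω) (x y : PrimeSpectrum A)
    (h : x ⋖ y) : tdeg ω hω x.asIdeal = tdeg ω hω y.asIdeal - 1 := by
  have hlt : x.asIdeal < y.asIdeal := h.1
  refine tdeg_covBy ω hω x.asIdeal y.asIdeal hlt ?_
  intro c hc hpc hcq
  have h1 : ¬ (⟨c, hc⟩ : PrimeSpectrum A) < y := h.2 (show x < ⟨c, hc⟩ from hpc)
  have h2 : (⟨c, hc⟩ : PrimeSpectrum A) ≤ y := hcq
  exact congrArg PrimeSpectrum.asIdeal (eq_of_le_of_not_lt h2 h1)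

/-- `ringKrullDim (A ⧸ p)` is the coheight of `p` -/
theorem coheight_eq_ringKrullDim_quotient (x : PrimeSpectrum A) :
    ((Order.coheight x : ℕ∞) : WithBot ℕ∞) = ringKrullDim (A ⧸ x.asIdeal) := by
  rw [Order.coheight_eq_krullDim_Ici, ringKrullDim_quotient]
  have : PrimeSpectrum.zeroLocus (x.asIdeal : Set A) = Set.Ici x := by
    ext y
    rw [PrimeSpectrum.mem_zeroLocus, Set.mem_Ici]
    rfl
  rw [this]

section Local

variable [IsLocalRing A]

/-- **in a local ring, `tdeg p = tdeg m - dim A/p`** -/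
theorem tdeg_eq_sub_coheight (ω : Dual.D A) (hω : Dual.IsDualizing A ω) :
    ∀ (n : ℕ) (x : PrimeSpectrum A), Order.coheight x = n →
      tdeg ω hω x.asIdeal = tdeg ω hω (maximalIdeal A) - n := by
  intro n
  induction n with
  | zero =>
    intro x hx
    have hmax : IsMax x := Order.coheight_eq_zero.1 (by simpa using hx)
    have hle : x ≤ IsLocalRing.closedPoint A := IsLocalRing.le_maximalIdeal x.2.ne_top
    have heq : x.asIdeal = maximalIdeal A :=
      le_antisymm hle (hmax hle)
    rw [tdeg_congr ω hω _ _ heq]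
    simp
  | succ n ih =>
    intro x hx
    have hx' : Order.coheight x = (n : ℕ∞) + 1 := by
      rw [hx]; push_cast; rfl
    obtain ⟨-, ⟨y, hxy, hy⟩, hall⟩ := Order.coheight_eq_coe_add_one_iff.1 hx'
    have hcov : x ⋖ y := by
      refine ⟨hxy, fun c hxc hcy => ?_⟩
      have h1 := Order.coheight_add_one_le hcy
      have h2 := hall c hxc
      rw [hy] at h1
      have h3 : ((n : ℕ∞) + 1) ≤ n := h1.trans h2
      have h4 : (n + 1 : ℕ) ≤ n := by exact_mod_cast h3
      omega
    rw [tdeg_covBy' ω hω x y hcov, ih y hy]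
    push_cast
    ring

/-- normalized complexes have residue degree `0` at the closed point -/
theorem tdeg_maximalIdeal_of_normalized (ω : Dual.D A) (hω : Dual.IsDualizing A ω)
    (hn : Dual.IsNormalized A ω) : tdeg ω hω (maximalIdeal A) = 0 := by
  by_contra hne
  have hn' : Subsingleton (Dual.inD A (A ⧸ maximalIdeal A) ⟶ ω⟦tdeg ω hω (maximalIdeal A)⟧) :=
    hn _ hne
  have h1 : Subsingleton (LocalizedModule (maximalIdeal A).primeCompl
      (Dual.inD A (A ⧸ maximalIdeal A) ⟶ ω⟦tdeg ω hω (maximalIdeal A)⟧)) := by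
    rw [LocalizedModule.subsingleton_iff]
    intro m
    exact ⟨1, Submonoid.one_mem _, by rw [Subsingleton.elim m 0, smul_zero]⟩
  exact (subsingleton_loc_residue_iff ω hω (maximalIdeal A) _).1 h1 rfl

theorem tdeg_of_normalized (ω : Dual.D A) (hω : Dual.IsDualizing A ω)
    (hn : Dual.IsNormalized A ω) (p : Ideal A) [p.IsPrime] (e : ℕ)
    (he : ringKrullDim (A ⧸ p) = e) : tdeg ω hω p = -(e : ℤ) := by
  have h1 := coheight_eq_ringKrullDim_quotient (⟨p, inferInstance⟩ : PrimeSpectrum A)
  rw [he] at h1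
  have h2 : Order.coheight (⟨p, inferInstance⟩ : PrimeSpectrum A) = (e : ℕ∞) := by
    exact_mod_cast h1
  have h3 := tdeg_eq_sub_coheight ω hω e ⟨p, inferInstance⟩ h2
  rw [tdeg_maximalIdeal_of_normalized ω hω hn] at h3
  simpa using h3

end Local

/-- at a minimal prime, the cohomology of `ω_p` lives exactly in degree `tdeg p` -/
theorem isZero_HF_loc_iff (ω : Dual.D A) (hω : Dual.IsDualizing A ω) (p : Ideal A) [p.IsPrime]
    (hp : p ∈ minimalPrimes A) (i : ℤ) :
    IsZero ((HF (Localization.AtPrime p) i).obj ((extScD A (Localization.AtPrime p)).obj ω)) ↔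
      i ≠ tdeg ω hω p := by
  have : IsNoetherianRing (Localization.AtPrime p) :=
    IsLocalization.isNoetherianRing p.primeCompl _ inferInstance
  set R := Localization.AtPrime p with hR
  set ωp := (extScD A R).obj ω with hωp
  have hω' : Dual.IsDualizing R ωp := isDualizing_localization ω hω p
  have hsupp : ∀ P : PrimeSpectrum R, P ∈ Module.support R R → P.asIdeal = maximalIdeal R := by
    intro P _
    set c := P.asIdeal.comap (algebraMap A R) with hc
    have hcq : c ≤ p := by
      intro y hy
      by_contra hyq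
      have hu : IsUnit (algebraMap A R y) :=
        IsLocalization.map_units R (⟨y, hyq⟩ : p.primeCompl)
      exact P.2.ne_top (Ideal.eq_top_of_isUnit_mem _ hy hu)
    have hpc : p ≤ c := hp.2 ⟨Ideal.comap_isPrime _ _, bot_le⟩ hcq
    have h7 : maximalIdeal R ≤ P.asIdeal := by
      rw [← Localization.AtPrime.map_eq_maximalIdeal, Ideal.map_le_iff_le_comap]
      exact hpc
    exact ((IsLocalRing.maximalIdeal.isMaximal R).eq_of_le P.2.ne_top h7).symm
  have hvan : ∀ j : ℤ, j ≠ tdeg ω hω p → Subsingleton (Dual.inD R R ⟶ ωp⟦j⟧) := fun j hj =>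
    subsingleton_hom_of_support ωp j (tdeg_subsingleton ω hω p j hj) R hsupp
  constructor
  · intro hz hi
    subst hi
    have hall : ∀ j : ℤ, Subsingleton (Dual.inD R R ⟶ ωp⟦j⟧) := by
      intro j
      by_cases hj : j = tdeg ω hω p
      · subst hj
        exact ⟨fun f g => (hom_ring_eq_zero ωp _ hz f).trans (hom_ring_eq_zero ωp _ hz g).symm⟩
      · exact hvan j hj
    have := subsingleton_of_ext_vanish ωp hω' R hall
    exact not_subsingleton R this
  · intro hi
    have := hvan i hi
    exact isZero_HF_of_hom_ring_eq_zero ωp i (fun f => Subsingleton.elim _ _)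

end Groth.Agent.Lib.Helper14.DualCoheight
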