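import Mathlib
import Groth.Agent.Lib.Helper14.DualCoheight

/-!
# Lower vanishing of `Ext^i(M, ω)` for a normalized dualizing complex (helper14)

`subsingleton_ext_of_lt`: `Ext^i(M, ω) = 0` for `i < - dim M`.
-/

set_option autoImplicit false
universe u v
open CategoryTheory
attribute [local instance] HasDerivedCategory.standard

namespace Groth.Agent.Lib.Helper14.DualLower
open CategoryTheory CategoryTheory.Limits
open Groth.Agent.Lib.Helper12 Groth.Agent.Lib.Helper12.FlatHomBC DRing Pretriangulated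
open Groth.Agent.Lib.Helper12.Bass Groth.Agent.Lib.Helper36.InjAmp
open Groth.Agent.Lib.Helper12.DualDim
open IsLocalRing Groth.Agent.Lib.Helper29 Groth.Agent.Lib.Helper29.DepthLib Pointwise TensorProduct
open Groth.Agent.S0370.D370 Groth.Agent.Lib.Helper14.DualCM Groth.Agent.Lib.Helper14.DualDepth
open Groth.Agent.Lib.Helper14.DualDelta Groth.Agent.Lib.Helper14.DualCoheight
set_option linter.style.haveILetI false

variable {A : Type u} [CommRing A] [IsNoetherianRing A] [IsLocalRing A]

/-- the dimension of `A ⧸ p` as a natural number -/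
theorem exists_nat_dim (p : Ideal A) [p.IsPrime] : ∃ e : ℕ, ringKrullDim (A ⧸ p) = e := by
  have h1 : ringKrullDim (A ⧸ p) ≠ ⊥ := ringKrullDim_ne_bot
  have h2 : ringKrullDim (A ⧸ p) ≠ ⊤ := ringKrullDim_ne_top
  obtain ⟨x, hx⟩ := WithBot.ne_bot_iff_exists.1 h1
  have hx' : x ≠ ⊤ := by
    rintro rfl
    exact h2 hx.symm
  obtain ⟨k, rfl⟩ := ENat.ne_top_iff_exists.1 hx'
  exact ⟨k, hx.symm⟩

variable (ω : Dual.D A) (hω : Dual.IsDualizing A ω) (hn : Dual.IsNormalized A ω)

include hω hn in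
/-- lower vanishing for `A ⧸ p`, given lower vanishing in smaller dimension -/
theorem lower_prime (e : ℕ)
    (IH : ∀ (M : Type u) [AddCommGroup M] [Module A M] [Module.Finite A M],
      Module.supportDim A M + 1 ≤ (e : WithBot ℕ∞) → ∀ i : ℤ, i < -(e : ℤ) + 1 →
        Subsingleton (Dual.inD A M ⟶ ω⟦i⟧))
    (p : Ideal A) [p.IsPrime] (hp : ringKrullDim (A ⧸ p) ≤ (e : WithBot ℕ∞)) (i : ℤ)
    (hi : i < -(e : ℤ)) : Subsingleton (Dual.inD A (A ⧸ p) ⟶ ω⟦i⟧) := by
  by_cases hpm : p = maximalIdeal A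
  · subst hpm
    exact hn i (by omega)
  have hpm' : p < maximalIdeal A :=
    lt_of_le_of_ne (IsLocalRing.le_maximalIdeal (Ideal.IsPrime.ne_top inferInstance)) hpm
  obtain ⟨a₀, b₀, hab⟩ := hω.finite_injective_dimension
  have hz := DualizingBC.isZero_HF_of_finite_injective_dimension ω a₀ b₀ hab
  have hlow : ∀ j : ℤ, j < a₀ → IsZero ((HF A j).obj ω) := fun j hj => hz j (Or.inl hj)
  have hfinE : Module.Finite A (Dual.inD A (A ⧸ p) ⟶ ω⟦i⟧) :=
    HomFinite.finite_hom _ (ω⟦i⟧) (DualizingBC.isPseudoCoherent'_inD (A ⧸ p)) (a₀ - i)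
      (fun j hj => isZero_HF_shift ω i j (hlow _ (by omega)))
      (fun j => HomFinite.finite_HF_shift ω i j (hω.finite_cohomology _))
  -- regular elements act injectively
  have hinj : ∀ x ∈ maximalIdeal A, x ∉ p → ∀ f : Dual.inD A (A ⧸ p) ⟶ ω⟦i⟧,
      x • f = 0 → f = 0 := by
    intro x hxm hxp f hf
    have hreg : IsSMulRegular (A ⧸ p) x := by
      intro y z hyz
      obtain ⟨y, rfl⟩ := Ideal.Quotient.mk_surjective y
      obtain ⟨z, rfl⟩ := Ideal.Quotient.mk_surjective z
      have h2 : Ideal.Quotient.mk p (x * (y - z)) = 0 := by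
        have h3 : x • Ideal.Quotient.mk p y = x • Ideal.Quotient.mk p z := hyz
        rw [map_mul, map_sub, mul_sub]
        rw [Algebra.smul_def, Algebra.smul_def] at h3
        exact sub_eq_zero.2 h3
      rw [Ideal.Quotient.eq_zero_iff_mem] at h2
      have h4 := (Ideal.IsPrime.mem_or_mem inferInstance h2).resolve_left hxp
      exact (Ideal.Quotient.eq).2 h4
    have hex : Function.Exact (LinearMap.lsmul A (A ⧸ p) x)
        (x • (⊤ : Submodule A (A ⧸ p))).mkQ := by
      rw [LinearMap.exact_iff, Submodule.ker_mkQ]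
      ext y
      rw [Submodule.mem_smul_pointwise_iff_exists, LinearMap.mem_range]
      constructor
      · rintro ⟨z, -, rfl⟩
        exact ⟨z, rfl⟩
      · rintro ⟨z, rfl⟩
        exact ⟨z, trivial, rfl⟩
    obtain ⟨δ, hT⟩ := exists_triangle (LinearMap.lsmul A (A ⧸ p) x)
      (x • (⊤ : Submodule A (A ⧸ p))).mkQ hreg (Submodule.mkQ_surjective _) hex
    have hdim : Module.supportDim A (QuotSMulTop x (A ⧸ p)) + 1 ≤ (e : WithBot ℕ∞) := by
      have hxJ : x ∈ (Module.annihilator A (A ⧸ p)).jacobson := by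
        have h1 : maximalIdeal A ≤ (Module.annihilator A (A ⧸ p)).jacobson := by
          apply IsLocalRing.maximalIdeal_le_jacobson
        exact h1 hxm
      rw [Module.supportDim_quotSMulTop_succ_eq_supportDim_mem_jacobson hreg hxJ,
        Module.supportDim_quotient_eq_ringKrullDim]
      exact hp
    have h0 : Subsingleton (Dual.inD A (QuotSMulTop x (A ⧸ p)) ⟶ ω⟦i⟧) :=
      IH _ hdim i (by omega)
    have hf' : (DerivedCategory.singleFunctor (ModuleCat.{u} A) 0).map
        (ModuleCat.ofHom (LinearMap.lsmul A (A ⧸ p) x)) ≫ f = 0 := by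
      rw [map_lsmul_comp x (A ⧸ p) f]
      exact hf
    obtain ⟨g, hg⟩ := Triangle.yoneda_exact₂ _ hT f hf'
    rw [hg, h0.elim g 0]
    exact comp_zero
  -- `p` kills `E`
  have hkill : ∀ y ∈ p, ∀ f : Dual.inD A (A ⧸ p) ⟶ ω⟦i⟧, y • f = 0 := by
    intro y hy f
    rw [← map_lsmul_comp y (A ⧸ p) f]
    have h0 : ModuleCat.ofHom (LinearMap.lsmul A (A ⧸ p) y) = 0 := by
      refine ModuleCat.hom_ext (LinearMap.ext fun z => ?_)
      show y • z = 0
      obtain ⟨z, rfl⟩ := Ideal.Quotient.mk_surjective z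
      rw [← Ideal.Quotient.mk_eq_mk, ← Submodule.Quotient.mk_smul, Submodule.Quotient.mk_eq_zero]
      exact p.mul_mem_right z hy
    rw [h0, CategoryTheory.Functor.map_zero, zero_comp]
  by_contra hns
  rw [not_subsingleton_iff_nontrivial] at hns
  -- the localization at `p` is nonzero
  have hloc : ¬ Subsingleton (LocalizedModule p.primeCompl
      (Dual.inD A (A ⧸ p) ⟶ ω⟦i⟧)) := by
    intro hsub
    obtain ⟨s, hsp, hs⟩ := exists_kill' p _ hsub
    obtain ⟨f, hf0⟩ := exists_ne (0 : Dual.inD A (A ⧸ p) ⟶ ω⟦i⟧)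
    by_cases hsm : s ∈ maximalIdeal A
    · exact hf0 (hinj s hsm hsp f (hs f))
    · have hu : IsUnit s := IsLocalRing.notMem_maximalIdeal.mp hsm
      obtain ⟨u, rfl⟩ := hu
      have := hs f
      exact hf0 (by
        have h1 : (↑u⁻¹ : A) • ((u : A) • f) = 0 := by rw [this, smul_zero]
        rwa [smul_smul, Units.inv_mul, one_smul] at h1)
  have h5 := (subsingleton_loc_residue_iff ω hω p i).not.1 hloc
  push Not at h5
  obtain ⟨e', he'⟩ := exists_nat_dim p
  have h6 := tdeg_of_normalized ω hω hn p e' he'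
  rw [he'] at hp
  have h7 : e' ≤ e := by exact_mod_cast hp
  omega

include hω hn in
/-- **lower vanishing**: `Ext^i(M, ω) = 0` for `i < - dim M` -/
theorem subsingleton_ext_of_lt : ∀ (e : ℕ) (M : Type u) [AddCommGroup M] [Module A M]
    [Module.Finite A M], Module.supportDim A M ≤ (e : WithBot ℕ∞) → ∀ i : ℤ, i < -(e : ℤ) →
      Subsingleton (Dual.inD A M ⟶ ω⟦i⟧) := by
  intro e
  induction e with
  | zero =>
    intro M _ _ hM hd i hi
    have IH0 : ∀ (M : Type u) [AddCommGroup M] [Module A M] [Module.Finite A M],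
        Module.supportDim A M + 1 ≤ ((0 : ℕ) : WithBot ℕ∞) → ∀ i : ℤ, i < -((0 : ℕ) : ℤ) + 1 →
          Subsingleton (Dual.inD A M ⟶ ω⟦i⟧) := by
      intro N _ _ _ hN j _
      have hbot : Module.supportDim A N = ⊥ := by
        by_contra hne
        obtain ⟨x, hx⟩ := WithBot.ne_bot_iff_exists.1 hne
        rw [← hx] at hN
        have h1 : ((x + 1 : ℕ∞) : WithBot ℕ∞) ≤ ((0 : ℕ∞) : WithBot ℕ∞) := by
          simpa using hN
        have h2 : x + 1 ≤ (0 : ℕ∞) := by exact_mod_cast h1
        simp at h2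
      have : Subsingleton N := (Module.supportDim_eq_bot_iff_subsingleton A N).1 hbot
      have hz : IsZero (Dual.inD A N) :=
        isZero_inD (M := ModuleCat.of A N) (ModuleCat.isZero_of_subsingleton _)
      exact ⟨fun f g => hz.eq_of_src f g⟩
    revert hd
    refine IsNoetherianRing.induction_on_isQuotientEquivQuotientPrime A hM
      (motive := fun N _ _ _ => Module.supportDim A N ≤ ((0 : ℕ) : WithBot ℕ∞) →
        Subsingleton (Dual.inD A N ⟶ ω⟦i⟧)) ?_ ?_ ?_
    · intro N _ _ _ _ _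
      have hz : IsZero (Dual.inD A N) :=
        isZero_inD (M := ModuleCat.of A N) (ModuleCat.isZero_of_subsingleton _)
      exact ⟨fun f g => hz.eq_of_src f g⟩
    · intro N _ _ _ q eq hd
      have hq : ringKrullDim (A ⧸ q.asIdeal) ≤ ((0 : ℕ) : WithBot ℕ∞) := by
        rw [← Module.supportDim_quotient_eq_ringKrullDim,
          ← Module.supportDim_eq_of_equiv eq]
        exact hd
      have := lower_prime ω hω hn 0 IH0 q.asIdeal hq i hi
      exact ⟨fun f g => by
        rw [← cancel_epi (inDMapIso eq.symm.toModuleIso).hom]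
        exact Subsingleton.elim _ _⟩
    · intro N₁ _ _ _ N₂ _ _ _ N₃ _ _ _ f g hf hg hfg h₁ h₃ hd
      exact ext_mid f g ω hf hg hfg i
        (h₁ ((Module.supportDim_le_of_injective f hf).trans hd))
        (h₃ ((Module.supportDim_le_of_surjective g hg).trans hd))
  | succ e ih =>
    intro M _ _ hM hd i hi
    have IH' : ∀ (M : Type u) [AddCommGroup M] [Module A M] [Module.Finite A M],
        Module.supportDim A M + 1 ≤ ((e + 1 : ℕ) : WithBot ℕ∞) →
          ∀ i : ℤ, i < -((e + 1 : ℕ) : ℤ) + 1 → Subsingleton (Dual.inD A M ⟶ ω⟦i⟧) := by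
      intro N _ _ _ hN j hj
      refine ih N ?_ j (by push_cast at hj; omega)
      rcases hx : Module.supportDim A N with _ | x
      · exact bot_le
      · rw [hx] at hN
        change ((x : ℕ∞) : WithBot ℕ∞) + 1 ≤ _ at hN
        change ((x : ℕ∞) : WithBot ℕ∞) ≤ _
        have h1 : ((x + 1 : ℕ∞) : WithBot ℕ∞) ≤ (((e + 1 : ℕ) : ℕ∞) : WithBot ℕ∞) := by
          simpa using hN
        have h2 : x + 1 ≤ ((e + 1 : ℕ) : ℕ∞) := by exact_mod_cast h1
        have h3 : x ≤ (e : ℕ∞) := by
          have hxt : x ≠ ⊤ := by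
            rintro rfl
            simp at h2
          obtain ⟨k, rfl⟩ := ENat.ne_top_iff_exists.1 hxt
          have : k + 1 ≤ e + 1 := by exact_mod_cast h2
          exact_mod_cast Nat.le_of_succ_le_succ this
        exact_mod_cast h3
    revert hd
    refine IsNoetherianRing.induction_on_isQuotientEquivQuotientPrime A hM
      (motive := fun N _ _ _ => Module.supportDim A N ≤ ((e + 1 : ℕ) : WithBot ℕ∞) →
        Subsingleton (Dual.inD A N ⟶ ω⟦i⟧)) ?_ ?_ ?_
    · intro N _ _ _ _ _
      have hz : IsZero (Dual.inD A N) :=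
        isZero_inD (M := ModuleCat.of A N) (ModuleCat.isZero_of_subsingleton _)
      exact ⟨fun f g => hz.eq_of_src f g⟩
    · intro N _ _ _ q eq hd
      have hq : ringKrullDim (A ⧸ q.asIdeal) ≤ ((e + 1 : ℕ) : WithBot ℕ∞) := by
        rw [← Module.supportDim_quotient_eq_ringKrullDim,
          ← Module.supportDim_eq_of_equiv eq]
        exact hd
      have := lower_prime ω hω hn (e + 1) IH' q.asIdeal hq i hi
      exact ⟨fun f g => by
        rw [← cancel_epi (inDMapIso eq.symm.toModuleIso).hom]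
        exact Subsingleton.elim _ _⟩
    · intro N₁ _ _ _ N₂ _ _ _ N₃ _ _ _ f g hf hg hfg h₁ h₃ hd
      exact ext_mid f g ω hf hg hfg i
        (h₁ ((Module.supportDim_le_of_injective f hf).trans hd))
        (h₃ ((Module.supportDim_le_of_surjective g hg).trans hd))

end Groth.Agent.Lib.Helper14.DualLower
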