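import Mathlib
import Groth.Agent.Lib.Helper14.DualLower

set_option autoImplicit false
universe u
open CategoryTheory
attribute [local instance] HasDerivedCategory.standard

namespace Groth.Agent.Lib.Helper14.DualExtRange
open CategoryTheory CategoryTheory.Limits
open Groth.Agent.Lib.Helper12 Groth.Agent.Lib.Helper12.FlatHomBC DRing Pretriangulated
open Groth.Agent.Lib.Helper12.Bass Groth.Agent.Lib.Helper36.InjAmp
open Groth.Agent.Lib.Helper12.DualDim
open IsLocalRing Groth.Agent.Lib.Helper29 Groth.Agent.Lib.Helper29.DepthLib Pointwise TensorProduct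
open Groth.Agent.S0370.D370 Groth.Agent.Lib.Helper14.DualCM Groth.Agent.Lib.Helper14.DualDepth
open Groth.Agent.Lib.Helper14.DualDelta Groth.Agent.Lib.Helper14.DualCoheight
open Groth.Agent.Lib.Helper14.DualLower

variable {A : Type u} [CommRing A] [IsLocalRing A] [IsNoetherianRing A]

theorem vanishAbove_zero (ω : Dual.D A) (hω : Dual.IsDualizing A ω) (hn : Dual.IsNormalized A ω)
    (M : Type u) [AddCommGroup M] [Module A M] [Module.Finite A M] : VanishAbove ω 0 M := by
  obtain ⟨hnt, hsub⟩ := normalized_data ω hω hn
  obtain ⟨a, b, hab⟩ := hω.finite_injective_dimension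
  have hz := DualizingBC.isZero_HF_of_finite_injective_dimension ω a b hab
  have hlow : ∀ j : ℤ, j < a → IsZero ((HF A j).obj ω) := fun j hj => hz j (Or.inl hj)
  exact vanishAbove_of_maximal a hlow hω.finite_cohomology (fun m hm => by
      have hmm := IsLocalRing.eq_maximalIdeal hm
      subst hmm
      exact fun i hi => hsub i (ne_of_gt hi)) M

theorem main366 (A : Type u) [CommRing A] [IsLocalRing A] [IsNoetherianRing A] (ω : Dual.D A)
    (hω : Dual.IsDualizing A ω) (hn : Dual.IsNormalized A ω) (M : Type u) [AddCommGroup M]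
    [Module A M] [Module.Finite A M] (d : ℕ) (hd : Module.supportDim A M = d) (i : ℤ) :
    (Nontrivial (Dual.inD A M ⟶ ω⟦i⟧) → (-(d : ℤ) ≤ i ∧ i ≤ 0)) ∧
      Module.supportDim A (Dual.inD A M ⟶ ω⟦i⟧) ≤ ((-i).toNat : WithBot ℕ∞) := by
  constructor
  · intro hnt
    constructor
    · by_contra hlt
      push Not at hlt
      have := subsingleton_ext_of_lt ω hω hn d M hd.le i hlt
      exact not_subsingleton _ this
    · by_contra hlt
      push Not at hlt
      have := vanishAbove_zero ω hω hn M i hlt
      exact not_subsingleton _ this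
  · have hP : ∀ P : PrimeSpectrum A, P ∈ Module.support A (Dual.inD A M ⟶ ω⟦i⟧) →
        Order.coheight P ≤ ((-i).toNat : ℕ∞) := by
      intro P hP
      rw [Module.mem_support_iff, ← not_subsingleton_iff_nontrivial,
        subsingleton_loc_iff ω hω P.asIdeal M i] at hP
      have hN : IsNoetherianRing (Localization.AtPrime P.asIdeal) :=
        IsLocalization.isNoetherianRing P.asIdeal.primeCompl _ inferInstance
      have hω' := isDualizing_localization ω hω P.asIdeal
      obtain ⟨a, b, hab⟩ := hω'.finite_injective_dimension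
      have hz := DualizingBC.isZero_HF_of_finite_injective_dimension _ a b hab
      have hlow : ∀ j : ℤ, j < a → IsZero ((HF (Localization.AtPrime P.asIdeal) j).obj
          ((extScD A (Localization.AtPrime P.asIdeal)).obj ω)) := fun j hj => hz j (Or.inl hj)
      have hall : VanishAbove ((extScD A (Localization.AtPrime P.asIdeal)).obj ω)
          (tdeg ω hω P.asIdeal) (Localization.AtPrime P.asIdeal ⊗[A] M) :=
        vanishAbove_of_maximal a hlow hω'.finite_cohomology (fun m hm => by
          have hmm := IsLocalRing.eq_maximalIdeal hm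
          subst hmm
          exact fun j hj => tdeg_subsingleton ω hω P.asIdeal j (ne_of_gt hj)) _
      have hle : i ≤ tdeg ω hω P.asIdeal := by
        by_contra hlt
        push Not at hlt
        exact hP (hall i hlt)
      obtain ⟨e', he'⟩ := exists_nat_dim P.asIdeal
      have h6 := tdeg_of_normalized ω hω hn P.asIdeal e' he'
      have h7 := coheight_eq_ringKrullDim_quotient P
      rw [he'] at h7
      have h8 : Order.coheight P = (e' : ℕ∞) := by exact_mod_cast h7
      rw [h8]
      have : e' ≤ (-i).toNat := by omega
      exact_mod_cast this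
    unfold Module.supportDim Order.krullDim
    refine iSup_le (fun s => ?_)
    have h1 : (s.length : ℕ∞) ≤ Order.coheight (s.head : PrimeSpectrum A) := by
      have := Order.length_le_coheight_head (p := s.map Subtype.val (fun _ _ h => h))
      exact this
    have h2 := h1.trans (hP _ s.head.2)
    exact_mod_cast h2

theorem main368 (A : Type u) [CommRing A] [IsLocalRing A] [IsNoetherianRing A] (ω : Dual.D A)
    (hω : Dual.IsDualizing A ω) (hn : Dual.IsNormalized A ω) (M : Type u) [AddCommGroup M]
    [Module A M] [Module.Finite A M] [Nontrivial M] (d : ℕ) (hd : Module.supportDim A M = d) :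
    LocCoh.IsCohenMacaulayModule A M ↔
      ∀ i : ℤ, i ≠ d → Subsingleton (Dual.inD A M ⟶ ω⟦(-i)⟧) := by
  constructor
  · intro hcm i hi
    have hdepth : LocCoh.depth A M = (d : ℕ∞) := by
      have h1 : Module.supportDim A M = ((LocCoh.depth A M : ℕ∞) : WithBot ℕ∞) := hcm
      rw [hd] at h1
      have h2 : ((d : ℕ∞) : WithBot ℕ∞) = ((LocCoh.depth A M : ℕ∞) : WithBot ℕ∞) := by
        exact_mod_cast h1
      exact (WithBot.coe_injective h2).symm
    rcases lt_or_gt_of_ne hi with h | h
    · -- `-i > -d`
      obtain ⟨a, b, hab⟩ := hω.finite_injective_dimension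
      have hz := DualizingBC.isZero_HF_of_finite_injective_dimension ω a b hab
      have hlow : ∀ j : ℤ, j < a → IsZero ((HF A j).obj ω) := fun j hj => hz j (Or.inl hj)
      have hU := vanishAbove_depth ω a hlow hω.finite_cohomology 0
        (fun N _ _ _ => vanishAbove_zero ω hω hn N) d M hdepth
      exact hU (-i) (by omega)
    · exact subsingleton_ext_of_lt ω hω hn d M hd.le (-i) (by omega)
  · intro h
    refine cm_of_ext_single ω hω M (-(d : ℤ)) (fun j hj => ?_)
    have := h (-j) (by omega)
    rwa [neg_neg] at this

end Groth.Agent.Lib.Helper14.DualExtRange
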