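import Mathlib
import Groth.Agent.Lib.Helper14.DualExtRange
import Groth.Agent.Lib.Helper12.ShriekDualizing

/-!
# Localized Ext modules of a normalized dualizing complex (helper14)

For a Noetherian local ring `A` with normalized dualizing complex `ω`, a prime `p` with
`dim A/p = e` and a finite module `M` with `depth M_p = n`:
`Ext^i(M, ω)_p = 0` for `i > -(e+n)` and `Ext^{-(e+n)}(M, ω)_p ≠ 0`.
-/

set_option autoImplicit false
universe u
open CategoryTheory
attribute [local instance] HasDerivedCategory.standard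

namespace Groth.Agent.Lib.Helper14.DualLoc
open CategoryTheory CategoryTheory.Limits
open Groth.Agent.Lib.Helper12 Groth.Agent.Lib.Helper12.FlatHomBC DRing Pretriangulated
open Groth.Agent.Lib.Helper12.Bass Groth.Agent.Lib.Helper36.InjAmp
open Groth.Agent.Lib.Helper12.DualDim Groth.Agent.Lib.Helper12.Shriek
open IsLocalRing Groth.Agent.Lib.Helper29 Groth.Agent.Lib.Helper29.DepthLib Pointwise TensorProduct
open Groth.Agent.S0370.D370 Groth.Agent.Lib.Helper14.DualCM Groth.Agent.Lib.Helper14.DualDepth
open Groth.Agent.Lib.Helper14.DualDelta Groth.Agent.Lib.Helper14.DualCoheight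
open Groth.Agent.Lib.Helper14.DualLower Groth.Agent.Lib.Helper14.DualExtRange
set_option linter.style.haveILetI false

variable {A : Type u} [CommRing A] [IsNoetherianRing A]

/-- `Hom(X, K⟦a⟧⟦b⟧)` vs `Hom(X, K⟦a+b⟧)` -/
theorem subsingleton_shift_shift_iff {R : Type u} [CommRing R] (X K : Dual.D R) (a b c : ℤ)
    (h : a + b = c) :
    Subsingleton (X ⟶ (K⟦a⟧)⟦b⟧) ↔ Subsingleton (X ⟶ K⟦c⟧) :=
  (Iso.homCongr (Iso.refl X) ((shiftFunctorAdd' (Dual.D R) a b c h).app K).symm).subsingleton_congr

/-- the shifted localization `ω_p[-t]`, `t = tdeg p`, is a normalized dualizing complex -/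
theorem isNormalized_loc_shift (ω : Dual.D A) (hω : Dual.IsDualizing A ω) (p : Ideal A)
    [p.IsPrime] :
    Dual.IsNormalized (Localization.AtPrime p)
      (((extScD A (Localization.AtPrime p)).obj ω)⟦tdeg ω hω p⟧) := by
  intro i hi
  have h1 := tdeg_subsingleton ω hω p (tdeg ω hω p + i) (by omega)
  exact (subsingleton_shift_shift_iff _ _ _ _ _ rfl).2 h1

section Local
variable [IsLocalRing A]

/-- **the localized Ext modules**: vanishing above `-(e+n)` and non-vanishing at `-(e+n)` -/
theorem loc_ext (ω : Dual.D A) (hω : Dual.IsDualizing A ω) (hn : Dual.IsNormalized A ω)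
    (p : Ideal A) [p.IsPrime] (e : ℕ) (he : ringKrullDim (A ⧸ p) = e)
    (M : Type u) [AddCommGroup M] [Module A M] [Module.Finite A M]
    [Nontrivial (Localization.AtPrime p ⊗[A] M)] (n : ℕ)
    (hd : LocCoh.depth (Localization.AtPrime p) (Localization.AtPrime p ⊗[A] M) = n) :
    (∀ i : ℤ, -((e : ℤ) + n) < i →
      Subsingleton (LocalizedModule p.primeCompl (Dual.inD A M ⟶ ω⟦i⟧))) ∧
    Nontrivial (LocalizedModule p.primeCompl (Dual.inD A M ⟶ ω⟦-((e : ℤ) + n)⟧)) := by
  have hN : IsNoetherianRing (Localization.AtPrime p) :=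
    IsLocalization.isNoetherianRing p.primeCompl _ inferInstance
  have ht : tdeg ω hω p = -(e : ℤ) := tdeg_of_normalized ω hω hn p e he
  set R := Localization.AtPrime p with hR
  set ωp := (extScD A R).obj ω with hωp
  have hω' : Dual.IsDualizing R (ωp⟦-(e : ℤ)⟧) :=
    isDualizing_shift _ (isDualizing_localization ω hω p) _
  have hn' : Dual.IsNormalized R (ωp⟦-(e : ℤ)⟧) := by
    have := isNormalized_loc_shift ω hω p
    rw [ht] at this
    exact this
  obtain ⟨h1, h2⟩ := (depth_iff (ωp⟦-(e : ℤ)⟧) hω' hn' (R ⊗[A] M) n).1 hd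
  have h0 := vanishAbove_zero (ωp⟦-(e : ℤ)⟧) hω' hn' (R ⊗[A] M)
  constructor
  · intro i hi
    rw [subsingleton_loc_iff ω hω p M i]
    rw [← subsingleton_shift_shift_iff (Dual.inD R (R ⊗[A] M)) ωp (-(e : ℤ)) (i + e) i (by ring)]
    by_cases hpos : 0 < i + e
    · exact h0 _ hpos
    · obtain ⟨δ, hδ⟩ : ∃ δ : ℕ, i + e = -(δ : ℤ) := ⟨(-(i + e)).toNat, by omega⟩
      rw [hδ]
      exact h1 δ (by omega)
  · rw [← not_subsingleton_iff_nontrivial, subsingleton_loc_iff ω hω p M _,
      ← subsingleton_shift_shift_iff (Dual.inD R (R ⊗[A] M)) ωp (-(e : ℤ)) (-(n : ℤ))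
        (-((e : ℤ) + n)) (by ring)]
    exact not_subsingleton _

end Local


/-- a prime of the support of maximal dimension -/
theorem exists_prime_dim (M : Type u) [AddCommGroup M] [Module A M] (d : ℕ)
    (hd : Module.supportDim A M = d) :
    ∃ p : PrimeSpectrum A, p ∈ Module.support A M ∧ ringKrullDim (A ⧸ p.asIdeal) = d := by
  have hne : Nonempty (Module.support A M) := by
    by_contra hemp
    rw [not_nonempty_iff] at hemp
    have : Module.supportDim A M = ⊥ := Order.krullDim_eq_bot
    rw [this] at hd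
    exact WithBot.bot_ne_coe hd
  have h1 : Order.krullDim (Module.support A M) = ((⨆ a : Module.support A M, Order.coheight a : ℕ∞) : WithBot ℕ∞) :=
    Order.krullDim_eq_iSup_coheight_of_nonempty
  have hd' : Order.krullDim (Module.support A M) = d := hd
  rw [hd'] at h1
  have h2 : (⨆ a : Module.support A M, Order.coheight a) = (d : ℕ∞) := by
    exact_mod_cast h1.symm
  obtain ⟨x, hx⟩ := ENat.exists_eq_iSup_of_lt_top (f := fun a : Module.support A M => Order.coheight a)
    (by rw [h2]; exact ENat.natCast_lt_top d)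
  rw [h2] at hx
  refine ⟨x.1, x.2, le_antisymm ?_ ?_⟩
  · rw [ringKrullDim_quotient, ← hd']
    have hsub : ∀ y ∈ PrimeSpectrum.zeroLocus (x.1.asIdeal : Set A), y ∈ Module.support A M := by
      intro y hy
      exact Module.mem_support_mono (show x.1 ≤ y from hy) x.2
    exact Order.krullDim_le_of_strictMono
      (fun y : PrimeSpectrum.zeroLocus (x.1.asIdeal : Set A) =>
        (⟨y.1, hsub y.1 y.2⟩ : Module.support A M))
      (fun a b hab => hab)
  · rw [← coheight_eq_ringKrullDim_quotient]
    have h3 := Order.coheight_le_coheight_apply_of_strictMono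
      (fun a : Module.support A M => a.1) (fun a b hab => hab) x
    rw [hx] at h3
    exact_mod_cast h3

section Local2
variable [IsLocalRing A]

theorem main19859 (ω : Dual.D A) (hω : Dual.IsDualizing A ω) (hn : Dual.IsNormalized A ω)
    (M : Type u) [AddCommGroup M] [Module A M] [Module.Finite A M] [Nontrivial M]
    (d : ℕ) (hd : Module.supportDim A M = d) :
    Nontrivial (Dual.inD A M ⟶ ω⟦(-(d : ℤ))⟧) := by
  obtain ⟨p, hp, hdim⟩ := exists_prime_dim M d hd
  have hN : IsNoetherianRing (Localization.AtPrime p.asIdeal) :=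
    IsLocalization.isNoetherianRing p.asIdeal.primeCompl _ inferInstance
  have hnt : Nontrivial (Localization.AtPrime p.asIdeal ⊗[A] M) := by
    rw [Module.mem_support_iff] at hp
    exact (LocalizedModule.equivTensorProduct p.asIdeal.primeCompl M).symm.toEquiv.nontrivial
  obtain ⟨n, hn'⟩ := ENat.ne_top_iff_exists.1
    (depth_ne_top (Localization.AtPrime p.asIdeal) (Localization.AtPrime p.asIdeal ⊗[A] M))
  obtain ⟨-, h2⟩ := loc_ext ω hω hn p.asIdeal d hdim M n hn'.symm
  have h3 : Nontrivial (Dual.inD A M ⟶ ω⟦-((d : ℤ) + n)⟧) := by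
    by_contra hcon
    rw [not_nontrivial_iff_subsingleton] at hcon
    have : Subsingleton (LocalizedModule p.asIdeal.primeCompl
        (Dual.inD A M ⟶ ω⟦-((d : ℤ) + n)⟧)) := by
      rw [LocalizedModule.subsingleton_iff]
      intro m
      exact ⟨1, Submonoid.one_mem _, by rw [hcon.elim m 0, smul_zero]⟩
    exact not_subsingleton _ this
  have h4 : n = 0 := by
    by_contra hne
    have := subsingleton_ext_of_lt ω hω hn d M hd.le (-((d : ℤ) + n)) (by omega)
    exact not_subsingleton _ this
  subst h4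
  simpa using h3


end Local2

end Groth.Agent.Lib.Helper14.DualLoc
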