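import Mathlib
import Groth.Agent.Lib.Helper14.DualLoc
import Groth.Agent.Lib.Helper12.DetectsZero
import Groth.Agent.Lib.Helper12.DRingFFDescent

/-!
# Pointwise dualizing complexes on a ring of finite Krull dimension are dualizing (helper14)
-/

set_option autoImplicit false
universe u
open CategoryTheory
attribute [local instance] HasDerivedCategory.standard

namespace Groth.Agent.Lib.Helper14.DualPointwise
open CategoryTheory CategoryTheory.Limits
open Groth.Agent.Lib.Helper12 Groth.Agent.Lib.Helper12.FlatHomBC DRing Pretriangulated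
open Groth.Agent.Lib.Helper12.Bass Groth.Agent.Lib.Helper36.InjAmp
open Groth.Agent.Lib.Helper12.DualDim Groth.Agent.Lib.Helper12.Shriek
open IsLocalRing Groth.Agent.Lib.Helper29 Groth.Agent.Lib.Helper29.DepthLib Pointwise TensorProduct
open Groth.Agent.S0370.D370 Groth.Agent.Lib.Helper14.DualCM Groth.Agent.Lib.Helper14.DualDepth
open Groth.Agent.Lib.Helper14.DualDelta Groth.Agent.Lib.Helper14.DualCoheight
open Groth.Agent.Lib.Helper14.DualLower Groth.Agent.Lib.Helper14.DualExtRange
open Groth.Agent.Lib.Helper14.DualLoc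
set_option linter.style.haveILetI false

variable {A : Type u} [CommRing A] [IsNoetherianRing A]

/-- localization of Ext modules into a bounded-below complex -/
theorem subsingleton_loc_residue_iff' (K : Dual.D A) (a₀ : ℤ)
    (hlow : ∀ j : ℤ, j < a₀ → IsZero ((HF A j).obj K)) (p : Ideal A) [p.IsPrime] (i : ℤ) :
    Subsingleton (LocalizedModule p.primeCompl (Dual.inD A (A ⧸ p) ⟶ K⟦i⟧)) ↔
      Subsingleton (Dual.inD (Localization.AtPrime p)
        (Localization.AtPrime p ⧸ maximalIdeal (Localization.AtPrime p)) ⟶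
          ((extScD A (Localization.AtPrime p)).obj K)⟦i⟧) := by
  have hbij := bijective_homBCShift (B := Localization.AtPrime p) (Dual.inD A (A ⧸ p)) K
    (DualizingBC.isPseudoCoherent'_inD (A ⧸ p)) a₀ hlow i
  have e1 : LocalizedModule p.primeCompl (Dual.inD A (A ⧸ p) ⟶ K⟦i⟧) ≃
      (Localization.AtPrime p ⊗[A] (Dual.inD A (A ⧸ p) ⟶ K⟦i⟧)) :=
    (LocalizedModule.equivTensorProduct p.primeCompl _).toEquiv
  have e2 := Equiv.ofBijective _ hbij
  have e3 := Iso.homCongr (residueIso p)
    (Iso.refl (((extScD A (Localization.AtPrime p)).obj K)⟦i⟧))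
  exact ((e1.trans e2).trans e3).subsingleton_congr

omit [IsNoetherianRing A] in
/-- the support of the cohomology modules, via the localized complex -/
theorem mem_support_HD_iff (K : Dual.D A) (p : PrimeSpectrum A) (i : ℤ) :
    p ∈ Module.support A (Dual.HD A K i) ↔
      ¬ IsZero ((HF (Localization.AtPrime p.asIdeal) i).obj
        ((extScD A (Localization.AtPrime p.asIdeal)).obj K)) := by
  rw [Module.mem_support_iff, ← not_subsingleton_iff_nontrivial, not_iff_not]
  have e1 : LocalizedModule p.asIdeal.primeCompl (Dual.HD A K i) ≃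
      (Localization.AtPrime p.asIdeal ⊗[A] (Dual.HD A K i)) :=
    (LocalizedModule.equivTensorProduct p.asIdeal.primeCompl _).toEquiv
  have e2 : (extSc A (Localization.AtPrime p.asIdeal)).obj ((HF A i).obj K) ≃
      (Localization.AtPrime p.asIdeal ⊗[A] (Dual.HD A K i)) :=
    (extScObjEquiv (A := A) (B := Localization.AtPrime p.asIdeal) (Dual.HD A K i)).toEquiv
  rw [e1.subsingleton_congr, ← e2.subsingleton_congr]
  have e3 := (HFExtIso (A := A) (B := Localization.AtPrime p.asIdeal) i).app K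
  constructor
  · intro h
    have hz : IsZero ((extSc A (Localization.AtPrime p.asIdeal)).obj ((HF A i).obj K)) :=
      ModuleCat.isZero_of_subsingleton _
    exact hz.of_iso e3
  · intro h
    exact ModuleCat.subsingleton_of_isZero (h.of_iso e3.symm)


/-- nontriviality transfers along shift composition -/
theorem nontrivial_shift_shift_iff {R : Type u} [CommRing R] (X K : Dual.D R) (a b c : ℤ)
    (h : a + b = c) :
    Nontrivial (X ⟶ (K⟦a⟧)⟦b⟧) ↔ Nontrivial (X ⟶ K⟦c⟧) := by
  rw [← not_subsingleton_iff_nontrivial, ← not_subsingleton_iff_nontrivial,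
    subsingleton_shift_shift_iff X K a b c h]

/-- the residue degree at a local ring with dualizing complex, as data -/
theorem local_data (B : Type u) [CommRing B] [IsLocalRing B] [IsNoetherianRing B] (ω : Dual.D B)
    (hω : Dual.IsDualizing B ω) :
    ∃ t : ℤ, Nontrivial (Dual.inD B (B ⧸ maximalIdeal B) ⟶ ω⟦t⟧) ∧
      Dual.IsDualizing B (ω⟦t⟧) ∧ Dual.IsNormalized B (ω⟦t⟧) := by
  obtain ⟨t, h1, ⟨e⟩⟩ := Groth.Agent.S0364.result B ω hω (maximalIdeal B)
  refine ⟨t, e.toEquiv.nontrivial, isDualizing_shift ω hω t, ?_⟩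
  intro i hi
  exact (subsingleton_shift_shift_iff _ _ _ _ _ rfl).2 (h1 (t + i) (by omega))

/-- the dimension of a local Noetherian ring as a natural number -/
theorem exists_nat_ringKrullDim (B : Type u) [CommRing B] [IsLocalRing B] [IsNoetherianRing B] :
    ∃ d : ℕ, ringKrullDim B = d := by
  have h1 : ringKrullDim B ≠ ⊥ := ringKrullDim_ne_bot
  have h2 : ringKrullDim B ≠ ⊤ := ringKrullDim_ne_top
  obtain ⟨x, hx⟩ := WithBot.ne_bot_iff_exists.1 h1
  have hx' : x ≠ ⊤ := by
    rintro rfl
    exact h2 hx.symm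
  obtain ⟨k, rfl⟩ := ENat.ne_top_iff_exists.1 hx'
  exact ⟨k, hx.symm⟩

/-- lower bound for the degrees of the cohomology of a dualizing complex over a local ring -/
theorem local_lower (B : Type u) [CommRing B] [IsLocalRing B] [IsNoetherianRing B] (ω : Dual.D B)
    (hω : Dual.IsDualizing B ω) (t : ℤ)
    (ht : Nontrivial (Dual.inD B (B ⧸ maximalIdeal B) ⟶ ω⟦t⟧)) (d : ℕ)
    (hd : ringKrullDim B = d) (i : ℤ) (hi : ¬ IsZero ((HF B i).obj ω)) : t ≤ i + d := by
  obtain ⟨t', ht', hω', hn'⟩ := local_data B ω hω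
  have htt : t = t' := by
    obtain ⟨t'', h1, -⟩ := Groth.Agent.S0364.result B ω hω (maximalIdeal B)
    have e1 : t = t'' := by
      by_contra hne
      exact not_subsingleton _ (h1 t hne)
    have e2 : t' = t'' := by
      by_contra hne
      exact not_subsingleton _ (h1 t' hne)
    rw [e1, e2]
  subst htt
  have hnt : Nontrivial (Dual.inD B B ⟶ ω⟦i⟧) := by
    by_contra hcon
    rw [not_nontrivial_iff_subsingleton] at hcon
    exact hi (isZero_HF_of_hom_ring_eq_zero ω i (fun f => hcon.elim _ _))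
  have hnt' : Nontrivial (Dual.inD B B ⟶ (ω⟦t⟧)⟦i - t⟧) :=
    (nontrivial_shift_shift_iff _ _ _ _ _ (by ring)).2 hnt
  have hsd : Module.supportDim B B = d := by
    rw [Module.supportDim_self_eq_ringKrullDim, hd]
  have := (main366 B (ω⟦t⟧) hω' hn' B d hsd (i - t)).1 hnt'
  omega

/-- some cohomology module of a dualizing complex over a local ring is nonzero -/
theorem local_exists (B : Type u) [CommRing B] [IsLocalRing B] [IsNoetherianRing B] (ω : Dual.D B)
    (hω : Dual.IsDualizing B ω) : ∃ i : ℤ, ¬ IsZero ((HF B i).obj ω) := by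
  obtain ⟨t, ht, hω', hn'⟩ := local_data B ω hω
  obtain ⟨n, hn⟩ := ENat.ne_top_iff_exists.1 (depth_ne_top B B)
  obtain ⟨-, h2⟩ := (depth_self_iff (ω⟦t⟧) hω' hn' n).1 hn.symm
  refine ⟨t + -(n : ℤ), fun hz => ?_⟩
  have := isZero_HF_shift ω t (-(n : ℤ)) hz
  have hs : Subsingleton (Dual.HD B (ω⟦t⟧) (-(n : ℤ))) := ModuleCat.subsingleton_of_isZero this
  exact not_subsingleton _ hs


omit [IsNoetherianRing A] in
/-- `p` kills `Hom(A/p, Y)` -/
theorem smul_hom_quot_eq_zero (p : Ideal A) (y : A) (hy : y ∈ p) {Y : Dual.D A}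
    (f : Dual.inD A (A ⧸ p) ⟶ Y) : y • f = 0 := by
  rw [← map_lsmul_comp y (A ⧸ p) f]
  have h0 : ModuleCat.ofHom (LinearMap.lsmul A (A ⧸ p) y) = 0 := by
    refine ModuleCat.hom_ext (LinearMap.ext fun z => ?_)
    show y • z = 0
    obtain ⟨z, rfl⟩ := Ideal.Quotient.mk_surjective z
    rw [← Ideal.Quotient.mk_eq_mk, ← Submodule.Quotient.mk_smul, Submodule.Quotient.mk_eq_zero]
    exact p.mul_mem_right z hy
  rw [h0, CategoryTheory.Functor.map_zero, zero_comp]

theorem main11173 (A : Type u) [CommRing A] [IsNoetherianRing A] (hdim : ringKrullDim A < ⊤)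
    (R : Dual.D A) (hfin : ∀ i : ℤ, Module.Finite A (Dual.HD A R i))
    (hbdd : ∃ a : ℤ, ∀ i : ℤ, i < a → Subsingleton (Dual.HD A R i))
    (h : ∀ p : PrimeSpectrum A,
      ∃ _ : DRing.HasLBaseChange (algebraMap A (Localization.AtPrime p.asIdeal)),
      Dual.IsDualizing (Localization.AtPrime p.asIdeal)
        ((DRing.LBaseChange (algebraMap A (Localization.AtPrime p.asIdeal))).obj R)) :
    Dual.IsDualizing A R := by
  obtain ⟨a, ha⟩ := hbdd
  have hlow : ∀ j : ℤ, j < a → IsZero ((HF A j).obj R) := fun j hj => by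
    have := ha j hj
    exact ModuleCat.isZero_of_subsingleton _
  have hN : ∀ p : PrimeSpectrum A, IsNoetherianRing (Localization.AtPrime p.asIdeal) := fun p =>
    IsLocalization.isNoetherianRing p.asIdeal.primeCompl _ inferInstance
  have hfl : ∀ p : PrimeSpectrum A, Module.Flat A (Localization.AtPrime p.asIdeal) := fun p =>
    IsLocalization.flat _ p.asIdeal.primeCompl
  have h' : ∀ p : PrimeSpectrum A, Dual.IsDualizing (Localization.AtPrime p.asIdeal)
      ((extScD A (Localization.AtPrime p.asIdeal)).obj R) := by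
    intro p
    obtain ⟨hL, hd⟩ := h p
    exact DualizingBC.isDualizing_of_iso (lBaseChangeIsoExtScD.app R) hd
  -- dimension bound
  obtain ⟨D, hD⟩ : ∃ D : ℕ, ringKrullDim A ≤ D := by
    rcases hx : ringKrullDim A with _ | x
    · exact ⟨0, bot_le⟩
    · have hx' : x ≠ ⊤ := by
        rintro rfl
        rw [hx] at hdim
        exact lt_irrefl _ hdim
      obtain ⟨k, rfl⟩ := ENat.ne_top_iff_exists.1 hx'
      exact ⟨k, le_rfl⟩
  -- degrees at the primes
  have hex : ∀ p : PrimeSpectrum A, ∃ i : ℤ, p ∈ Module.support A (Dual.HD A R i) := by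
    intro p
    obtain ⟨i, hi⟩ := local_exists _ _ (h' p)
    exact ⟨i, (mem_support_HD_iff R p i).2 hi⟩
  choose f hf using hex
  have hfinite : (minimalPrimes A).Finite := minimalPrimes.finite_of_isNoetherianRing A
  obtain ⟨T, hT⟩ : ∃ T : ℤ, ∀ p : PrimeSpectrum A, p.asIdeal ∈ minimalPrimes A → f p ≤ T := by
    have hfin2 : {p : PrimeSpectrum A | p.asIdeal ∈ minimalPrimes A}.Finite := by
      apply Set.Finite.of_finite_image (f := PrimeSpectrum.asIdeal)
      · exact hfinite.subset (by rintro _ ⟨p, hp, rfl⟩; exact hp)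
      · intro p _ q _ hpq
        exact PrimeSpectrum.ext hpq
    obtain ⟨T, hT⟩ := (hfin2.image f).bddAbove
    exact ⟨T, fun p hp => hT ⟨p, hp, rfl⟩⟩
  -- the bound at maximal ideals
  have hmax : ∀ m : Ideal A, m.IsMaximal → ∀ i : ℤ, T + D < i →
      Subsingleton (Dual.inD A (A ⧸ m) ⟶ R⟦i⟧) := by
    intro m hm i hi
    haveI : m.IsPrime := hm.isPrime
    by_contra hcon
    rw [not_subsingleton_iff_nontrivial] at hcon
    have hloc : ¬ Subsingleton (LocalizedModule m.primeCompl
        (Dual.inD A (A ⧸ m) ⟶ R⟦i⟧)) := by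
      intro hsub
      rw [LocalizedModule.subsingleton_iff] at hsub
      obtain ⟨x, hx⟩ := exists_ne (0 : Dual.inD A (A ⧸ m) ⟶ R⟦i⟧)
      obtain ⟨s, hsm, hs⟩ := hsub x
      obtain ⟨y, z, hz, hyz⟩ := hm.exists_inv hsm
      apply hx
      calc x = (1 : A) • x := (one_smul _ _).symm
        _ = (y * s + z) • x := by rw [hyz]
        _ = y • (s • x) + z • x := by rw [add_smul, mul_smul]
        _ = 0 := by rw [hs, smul_zero, smul_hom_quot_eq_zero m z hz x, add_zero]
    rw [subsingleton_loc_residue_iff' R a hlow m i, not_subsingleton_iff_nontrivial] at hloc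
    have hNm := hN ⟨m, inferInstance⟩
    obtain ⟨d, hd⟩ := exists_nat_ringKrullDim (Localization.AtPrime m)
    obtain ⟨p, hp, hpm⟩ := Ideal.exists_minimalPrimes_le (bot_le : ⊥ ≤ m)
    have hp' : p.IsPrime := hp.1.1
    have hsupp : (⟨m, inferInstance⟩ : PrimeSpectrum A) ∈
        Module.support A (Dual.HD A R (f ⟨p, hp'⟩)) :=
      Module.mem_support_mono (show (⟨p, hp'⟩ : PrimeSpectrum A) ≤ ⟨m, inferInstance⟩ from hpm)
        (hf ⟨p, hp'⟩)
    have h1 := local_lower _ _ (h' ⟨m, inferInstance⟩) i hloc d hd (f ⟨p, hp'⟩)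
      ((mem_support_HD_iff R _ _).1 hsupp)
    have h2 : f ⟨p, hp'⟩ ≤ T := hT _ hp
    have h3 : d ≤ D := by
      have e1 := IsLocalization.AtPrime.ringKrullDim_eq_height m (Localization.AtPrime m)
      have e2 : (m.height : WithBot ℕ∞) ≤ ringKrullDim A := Ideal.height_le_ringKrullDim_of_isPrime
      rw [← e1, hd] at e2
      have e3 := e2.trans hD
      exact_mod_cast e3
    omega
  have hinj := finite_injective_dimension_of_maximal R a (T + D) hlow hfin hmax
  exact DualizingBC.isDualizing_of_detectsZero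
    (fun p : PrimeSpectrum A => Localization.AtPrime p.asIdeal) detectsZero_prime detectsZero_prime
    R hfin ⟨a, T + D, hinj⟩ h'

end Groth.Agent.Lib.Helper14.DualPointwise
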