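import Mathlib
import Groth.Agent.Lib.Helper14.DualPointwise
import Groth.Agent.Lib.Helper12.BassDevissage
import Groth.Agent.Lib.Helper29.CM

/-!
# The canonical module `H^{-d}(ω)`: support and `(S_2)` (helper14)
-/

set_option autoImplicit false
universe u
open CategoryTheory
attribute [local instance] HasDerivedCategory.standard

namespace Groth.Agent.Lib.Helper14.DualCanon
open CategoryTheory CategoryTheory.Limits
open Groth.Agent.Lib.Helper12 Groth.Agent.Lib.Helper12.FlatHomBC DRing Pretriangulated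
open Groth.Agent.Lib.Helper12.Bass Groth.Agent.Lib.Helper36.InjAmp
open Groth.Agent.Lib.Helper12.DualDim Groth.Agent.Lib.Helper12.Shriek
open IsLocalRing Groth.Agent.Lib.Helper29 Groth.Agent.Lib.Helper29.DepthLib Pointwise TensorProduct
open Groth.Agent.S0370.D370 Groth.Agent.Lib.Helper14.DualCM Groth.Agent.Lib.Helper14.DualDepth
open Groth.Agent.Lib.Helper14.DualDelta Groth.Agent.Lib.Helper14.DualCoheight
open Groth.Agent.Lib.Helper14.DualLower Groth.Agent.Lib.Helper14.DualExtRange
open Groth.Agent.Lib.Helper14.DualLoc Groth.Agent.Lib.Helper14.DualPointwise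
set_option linter.style.haveILetI false

/-- a minimal element below `x` with large coheight -/
theorem exists_min_below {α : Type*} [PartialOrder α] (x : α) (h e : ℕ)
    (hh : Order.height x = h) (he : Order.coheight x = e) :
    ∃ y : α, y ≤ x ∧ IsMin y ∧ ((h + e : ℕ) : ℕ∞) ≤ Order.coheight y := by
  obtain ⟨s, hs, hl⟩ := Order.exists_series_of_height_eq_coe x hh
  obtain ⟨s', hs', hl'⟩ := Order.exists_series_of_coheight_eq_coe x he
  refine ⟨s.head, ?_, ?_, ?_⟩
  · rw [← hs]
    exact LTSeries.head_le_last s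
  · intro z hz
    by_contra hzy
    have hlt : z < s.head := lt_of_le_of_ne hz (fun heq => hzy (heq ▸ le_rfl))
    have h1 := Order.length_le_height_last (p := s.cons z hlt)
    rw [RelSeries.last_cons, hs, hh, RelSeries.cons_length, hl] at h1
    have : (h + 1 : ℕ) ≤ h := by exact_mod_cast h1
    omega
  · have h1 := Order.length_le_coheight_head (p := s.smash s' (by rw [hs, hs']))
    rw [RelSeries.head_smash, RelSeries.smash_length, hl, hl'] at h1
    exact h1

variable {B : Type u} [CommRing B] [IsLocalRing B] [IsNoetherianRing B]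

omit [IsLocalRing B] [IsNoetherianRing B] in
/-- bridging `H^i` with maps from the ring -/
theorem nontrivial_HD_iff (ω : Dual.D B) (i : ℤ) :
    Nontrivial (Dual.HD B ω i) ↔ Nontrivial (Dual.inD B B ⟶ ω⟦i⟧) := by
  rw [← not_subsingleton_iff_nontrivial, ← not_subsingleton_iff_nontrivial, not_iff_not]
  constructor
  · intro h
    have hz : IsZero ((HF B i).obj ω) := ModuleCat.isZero_of_subsingleton _
    exact ⟨fun f g => (hom_ring_eq_zero ω i hz f).trans (hom_ring_eq_zero ω i hz g).symm⟩
  · intro h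
    exact ModuleCat.subsingleton_of_isZero
      (isZero_HF_of_hom_ring_eq_zero ω i (fun f => h.elim _ _))


/-- vanishing of `Hom(τ_{<a+1} ω, ω[k])` for `k ≠ 0`, `k ≥ -a - 1`, when `ω` lives in degrees
`≥ a` -/
theorem subsingleton_hom_truncLT (ω : Dual.D B) (hω : Dual.IsDualizing B ω)
    (hn : Dual.IsNormalized B ω) (a : ℤ) (k : ℤ) (hk0 : k ≠ 0) (hk : 0 < k + 1 + (a + 1)) :
    Subsingleton ((truncTriangle ω (a + 1)).obj₁ ⟶ ω⟦k⟧) := by
  have hT := truncTriangle_distinguished ω (a + 1)
  have hT' := inv_rot_of_distTriang _ hT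
  obtain ⟨a₀, b₀, hab⟩ := hω.finite_injective_dimension
  have hz := DualizingBC.isZero_HF_of_finite_injective_dimension ω a₀ b₀ hab
  have h3 : ∀ f : (truncTriangle ω (a + 1)).obj₃ ⟶ ω⟦k + 1⟧, f = 0 := by
    obtain ⟨n, hn'⟩ : ∃ n : ℕ, b₀ < (a + 1) + n := ⟨(b₀ - (a + 1) + 1).toNat, by omega⟩
    have hsub := subsingleton_hom_of_vanishAbove ω 0
      (fun M hM k hk => by
        have := hM
        exact vanishAbove_zero ω hω hn M k hk) (a + 1) (k + 1) hk n b₀ hn'
      (truncTriangle ω (a + 1)).obj₃ ?_ ?_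
    · intro f
      exact hsub.elim _ _
    · intro j
      by_cases hj : a + 1 ≤ j
      · have h2 : Module.Finite B ((HF B j).obj (truncTriangle ω (a + 1)).obj₂) :=
          hω.finite_cohomology j
        exact Module.Finite.equiv (HFTruncGEIso ω (a + 1) j hj).toLinearEquiv
      · have : Subsingleton ((HF B j).obj (truncTriangle ω (a + 1)).obj₃) :=
          ModuleCat.subsingleton_of_isZero (isZero_HF_truncGE ω (a + 1) j (by omega))
        infer_instance
    · intro j hj
      by_cases hja : a + 1 ≤ j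
      · exact IsZero.of_iso (hz j (Or.inr (by omega))) (HFTruncGEIso ω (a + 1) j hja).symm
      · exact isZero_HF_truncGE ω (a + 1) j (by omega)
  refine ⟨fun f g => ?_⟩
  have h0 : ∀ f : (truncTriangle ω (a + 1)).obj₁ ⟶ ω⟦k⟧, f = 0 := by
    intro f
    obtain ⟨z, hz'⟩ := Triangle.yoneda_exact₂ _ hT' f
      (hom_shift_neg_one_eq_zero _ _ k h3 _)
    have hz0 : z = 0 := (hω.ext_self_subsingleton k hk0).elim _ _
    rw [hz', hz0]
    exact comp_zero
  rw [h0 f, h0 g]


omit [IsLocalRing B] [IsNoetherianRing B] in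
/-- if `H^j(ω) = 0` for `j < a`, maps from `H^a(ω)` into `ω[δ]` are controlled by maps from
`τ_{<a+1} ω` -/
theorem subsingleton_hom_HD_of_truncLT (ω : Dual.D B) (a : ℤ)
    (hlow : ∀ j : ℤ, j < a → IsZero ((HF B j).obj ω)) (δ k : ℤ) (hk : δ + -a = k)
    (h : Subsingleton ((truncTriangle ω (a + 1)).obj₁ ⟶ ω⟦k⟧)) :
    Subsingleton (Dual.inD B (Dual.HD B ω a) ⟶ ω⟦δ⟧) := by
  set X₁ := (truncTriangle ω (a + 1)).obj₁ with hX₁
  have hGE : X₁.IsGE a := by
    rw [DerivedCategory.isGE_iff]
    intro j hj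
    exact IsZero.of_iso (hlow j hj) (HFTruncLTIso ω (a + 1) j (by omega))
  have hLE : X₁.IsLE a := by
    rw [DerivedCategory.isLE_iff]
    intro j hj
    exact isZero_HF_truncLT ω (a + 1) j (by omega)
  obtain ⟨Y, ⟨e⟩⟩ := DerivedCategory.exists_iso_singleFunctor_obj_of_isGE_of_isLE X₁ a
  have eY : (HF B a).obj ω ≅ Y :=
    (HFTruncLTIso ω (a + 1) a (by omega)).symm ≪≫ (HF B a).mapIso e ≪≫ HFSingleIso a Y
  -- X₁ ≅ (inD Y)⟦-a⟧ ≅ (inD N)⟦-a⟧
  have e2 : X₁ ≅ (Dual.inD B (Dual.HD B ω a))⟦-a⟧ :=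
    e ≪≫ singleFunctorShiftIso a Y ≪≫
      (shiftFunctor (Dual.D B) (-a)).mapIso
        ((DerivedCategory.singleFunctor (ModuleCat.{u} B) 0).mapIso eY.symm)
  refine ⟨fun f g => ?_⟩
  have h0 : ∀ f : Dual.inD B (Dual.HD B ω a) ⟶ ω⟦δ⟧, f = 0 := by
    intro f
    apply (shiftFunctor (Dual.D B) (-a)).map_injective
    rw [CategoryTheory.Functor.map_zero]
    have h1 : e2.hom ≫ (shiftFunctor (Dual.D B) (-a)).map f ≫
        ((shiftFunctorAdd' (Dual.D B) δ (-a) k hk).app ω).inv = 0 := h.elim _ _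
    have h2 : (shiftFunctor (Dual.D B) (-a)).map f ≫
        ((shiftFunctorAdd' (Dual.D B) δ (-a) k hk).app ω).inv = 0 := by
      rw [← cancel_epi e2.hom, h1, comp_zero]
    rw [← cancel_mono ((shiftFunctorAdd' (Dual.D B) δ (-a) k hk).app ω).inv, h2, zero_comp]
  rw [h0 f, h0 g]

/-- **the canonical module of a local ring is nonzero and satisfies `depth ≥ min(2, dim)`** -/
theorem local_S2 (ω : Dual.D B) (hω : Dual.IsDualizing B ω) (hn : Dual.IsNormalized B ω) (d : ℕ)
    (hd : ringKrullDim B = d) :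
    Nontrivial (Dual.HD B ω (-(d : ℤ))) ∧
      min (2 : ℕ∞) (d : ℕ∞) ≤ LocCoh.depth B (Dual.HD B ω (-(d : ℤ))) := by
  have hsd : Module.supportDim B B = d := by
    rw [Module.supportDim_self_eq_ringKrullDim, hd]
  have hnt : Nontrivial (Dual.HD B ω (-(d : ℤ))) :=
    (nontrivial_HD_iff ω _).2 (main19859 ω hω hn B d hsd)
  refine ⟨hnt, ?_⟩
  have hlow : ∀ j : ℤ, j < -(d : ℤ) → IsZero ((HF B j).obj ω) := by
    intro j hj
    apply isZero_HF_of_hom_ring_eq_zero
    intro f
    by_contra hf
    have hnt' : Nontrivial (Dual.inD B B ⟶ ω⟦j⟧) := ⟨⟨f, 0, hf⟩⟩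
    have := ((main366 B ω hω hn B d hsd j).1 hnt').1
    omega
  have hfinN : Module.Finite B (Dual.HD B ω (-(d : ℤ))) := hω.finite_cohomology _
  obtain ⟨n, hn'⟩ := ENat.ne_top_iff_exists.1 (depth_ne_top B (Dual.HD B ω (-(d : ℤ))))
  obtain ⟨-, h2⟩ := (depth_iff ω hω hn (Dual.HD B ω (-(d : ℤ))) n).1 hn'.symm
  rw [← hn']
  by_contra hlt
  push Not at hlt
  have hn2 : n < 2 ∧ n < d := by
    rw [lt_min_iff] at hlt
    exact ⟨by exact_mod_cast hlt.1, by exact_mod_cast hlt.2⟩
  have hsub : Subsingleton (Dual.inD B (Dual.HD B ω (-(d : ℤ))) ⟶ ω⟦-(n : ℤ)⟧) := by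
    apply subsingleton_hom_HD_of_truncLT ω (-(d : ℤ)) hlow (-(n : ℤ)) (-(n : ℤ) + - -(d : ℤ)) rfl
    exact subsingleton_hom_truncLT ω hω hn (-(d : ℤ)) _ (by omega) (by omega)
  exact not_subsingleton _ hsub


section Global

variable {A : Type u} [CommRing A] [IsNoetherianRing A]

/-- localization of cohomology modules, linearly -/
noncomputable def locHDEquiv (K : Dual.D A) (p : Ideal A) [p.IsPrime] (i : ℤ) :
    LocalizedModule p.primeCompl (Dual.HD A K i) ≃ₗ[Localization.AtPrime p]
      Dual.HD (Localization.AtPrime p) ((extScD A (Localization.AtPrime p)).obj K) i :=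
  have : Module.Flat A (Localization.AtPrime p) := IsLocalization.flat _ p.primeCompl
  (LocalizedModule.equivTensorProduct p.primeCompl (Dual.HD A K i)) ≪≫ₗ
    (extScObjEquiv (A := A) (B := Localization.AtPrime p) (Dual.HD A K i)).symm ≪≫ₗ
    ((HFExtIso (A := A) (B := Localization.AtPrime p) i).app K).symm.toLinearEquiv

variable [IsLocalRing A]

/-- the shifted localization of a normalized dualizing complex -/
theorem loc_normalized (ω : Dual.D A) (hω : Dual.IsDualizing A ω) (hn : Dual.IsNormalized A ω)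
    (p : Ideal A) [p.IsPrime] (e : ℕ) (he : ringKrullDim (A ⧸ p) = e) :
    Dual.IsDualizing (Localization.AtPrime p)
      (((extScD A (Localization.AtPrime p)).obj ω)⟦-(e : ℤ)⟧) ∧
    Dual.IsNormalized (Localization.AtPrime p)
      (((extScD A (Localization.AtPrime p)).obj ω)⟦-(e : ℤ)⟧) := by
  have hN : IsNoetherianRing (Localization.AtPrime p) :=
    IsLocalization.isNoetherianRing p.primeCompl _ inferInstance
  have ht : tdeg ω hω p = -(e : ℤ) := tdeg_of_normalized ω hω hn p e he
  refine ⟨isDualizing_shift _ (isDualizing_localization ω hω p) _, ?_⟩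
  have := isNormalized_loc_shift ω hω p
  rw [ht] at this
  exact this

end Global


section Main

variable {A : Type u} [CommRing A] [IsNoetherianRing A] [IsLocalRing A]

/-- data at a prime of the support of the canonical module -/
theorem supp_data (ω : Dual.D A) (hω : Dual.IsDualizing A ω) (hn : Dual.IsNormalized A ω) (d : ℕ)
    (p : PrimeSpectrum A) (e dB : ℕ) (he : ringKrullDim (A ⧸ p.asIdeal) = e)
    (hdB : ringKrullDim (Localization.AtPrime p.asIdeal) = dB)
    (hp : p ∈ Module.support A (Dual.HD A ω (-(d : ℤ)))) : d ≤ e + dB := by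
  have hN : IsNoetherianRing (Localization.AtPrime p.asIdeal) :=
    IsLocalization.isNoetherianRing p.asIdeal.primeCompl _ inferInstance
  rw [mem_support_HD_iff] at hp
  have ht : tdeg ω hω p.asIdeal = -(e : ℤ) := tdeg_of_normalized ω hω hn p.asIdeal e he
  have hnt := tdeg_nontrivial ω hω p.asIdeal
  rw [ht] at hnt
  have := local_lower _ _ (isDualizing_localization ω hω p.asIdeal) (-(e : ℤ)) hnt dB hdB
    (-(d : ℤ)) hp
  omega

omit [IsLocalRing A] in
theorem height_coheight (p : PrimeSpectrum A) (e dB : ℕ)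
    (he : ringKrullDim (A ⧸ p.asIdeal) = e)
    (hdB : ringKrullDim (Localization.AtPrime p.asIdeal) = dB) :
    Order.height p = dB ∧ Order.coheight p = e := by
  constructor
  · rw [IsLocalization.AtPrime.ringKrullDim_eq_height p.asIdeal (Localization.AtPrime p.asIdeal),
      PrimeSpectrum.height_eq_orderHeight] at hdB
    exact_mod_cast hdB
  · have h1 := coheight_eq_ringKrullDim_quotient p
    rw [he] at h1
    exact_mod_cast h1

theorem main369 (ω : Dual.D A) (hω : Dual.IsDualizing A ω) (hn : Dual.IsNormalized A ω) (d : ℕ)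
    (hd : ringKrullDim A = d) :
    Module.support A (Dual.HD A ω (-(d : ℤ))) =
      {p : PrimeSpectrum A | ∃ q ∈ minimalPrimes A, q ≤ p.asIdeal ∧ ringKrullDim (A ⧸ q) = d} ∧
    LocCoh.HasSk 2 A (Dual.HD A ω (-(d : ℤ))) := by
  have hNp : ∀ p : Ideal A, ∀ [p.IsPrime], IsNoetherianRing (Localization.AtPrime p) :=
    fun p _ => IsLocalization.isNoetherianRing p.primeCompl _ inferInstance
  have hsum : ∀ (p : PrimeSpectrum A) (e dB : ℕ), ringKrullDim (A ⧸ p.asIdeal) = e →
      ringKrullDim (Localization.AtPrime p.asIdeal) = dB → e + dB ≤ d := by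
    intro p e dB he hdB
    obtain ⟨h1, h2⟩ := height_coheight p e dB he hdB
    have h3 : Order.height p + Order.coheight p ≤
        ⨆ a : PrimeSpectrum A, Order.height a + Order.coheight a :=
      le_iSup (fun a : PrimeSpectrum A => Order.height a + Order.coheight a) p
    have h4 : ringKrullDim A = ((⨆ a : PrimeSpectrum A, Order.height a + Order.coheight a : ℕ∞) :
        WithBot ℕ∞) := by
      haveI : Nonempty (PrimeSpectrum A) := ⟨p⟩
      exact Order.krullDim_eq_iSup_height_add_coheight_of_nonempty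
    rw [hd] at h4
    have h5 : (⨆ a : PrimeSpectrum A, Order.height a + Order.coheight a) = (d : ℕ∞) := by
      exact_mod_cast h4.symm
    rw [h5, h1, h2] at h3
    have : (dB + e : ℕ) ≤ d := by exact_mod_cast h3
    omega
  constructor
  · ext p
    haveI := hNp p.asIdeal
    obtain ⟨e, he⟩ := exists_nat_dim p.asIdeal
    obtain ⟨dB, hdB⟩ := exists_nat_ringKrullDim (Localization.AtPrime p.asIdeal)
    constructor
    · intro hp
      have h1 := supp_data ω hω hn d p e dB he hdB hp
      obtain ⟨hh, hc⟩ := height_coheight p e dB he hdB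
      obtain ⟨y, hyp, hymin, hyco⟩ := exists_min_below p dB e hh hc
      refine ⟨y.asIdeal, PrimeSpectrum.isMin_iff.1 hymin, hyp, le_antisymm ?_ ?_⟩
      · rw [← hd]
        exact ringKrullDim_quotient_le _
      · rw [← coheight_eq_ringKrullDim_quotient]
        have : ((d : ℕ) : ℕ∞) ≤ Order.coheight y :=
          le_trans (by exact_mod_cast (show d ≤ dB + e by omega)) hyco
        exact_mod_cast this
    · rintro ⟨q, hq, hqp, hqd⟩
      have hq' : q.IsPrime := hq.1.1
      refine Module.mem_support_mono (show (⟨q, hq'⟩ : PrimeSpectrum A) ≤ p from hqp) ?_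
      haveI := hNp q
      rw [mem_support_HD_iff]
      obtain ⟨hω', hn'⟩ := loc_normalized ω hω hn q d hqd
      have h0 : ringKrullDim (Localization.AtPrime q) = ((0 : ℕ) : WithBot ℕ∞) := by
        rw [IsLocalization.AtPrime.ringKrullDim_eq_height q (Localization.AtPrime q),
          Ideal.height_eq_zero_iff.2 hq]
        rfl
      have hsd : Module.supportDim (Localization.AtPrime q) (Localization.AtPrime q) =
          ((0 : ℕ) : WithBot ℕ∞) := by
        rw [Module.supportDim_self_eq_ringKrullDim, h0]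
      have hnt := main19859 _ hω' hn' (Localization.AtPrime q) 0 hsd
      rw [nontrivial_shift_shift_iff _ _ (-(d : ℤ)) (-((0 : ℕ) : ℤ)) (-(d : ℤ)) (by simp)] at hnt
      intro hz
      have : Subsingleton (Dual.inD (Localization.AtPrime q) (Localization.AtPrime q) ⟶
          ((extScD A (Localization.AtPrime q)).obj ω)⟦-(d : ℤ)⟧) :=
        ⟨fun f g => (hom_ring_eq_zero _ _ hz f).trans (hom_ring_eq_zero _ _ hz g).symm⟩
      exact not_subsingleton _ this
  · intro p hp
    haveI := hNp p
    obtain ⟨e, he⟩ := exists_nat_dim p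
    obtain ⟨dB, hdB⟩ := exists_nat_ringKrullDim (Localization.AtPrime p)
    by_cases hsupp : (⟨p, hp⟩ : PrimeSpectrum A) ∈ Module.support A (Dual.HD A ω (-(d : ℤ)))
    · have h1 := supp_data ω hω hn d ⟨p, hp⟩ e dB he hdB hsupp
      have h2 := hsum ⟨p, hp⟩ e dB he hdB
      obtain ⟨hω', hn'⟩ := loc_normalized ω hω hn p e he
      obtain ⟨-, hS2⟩ := local_S2 _ hω' hn' dB hdB
      -- identify the localized module
      have eq1 : LocalizedModule p.primeCompl (Dual.HD A ω (-(d : ℤ))) ≃ₗ[Localization.AtPrime p]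
          Dual.HD (Localization.AtPrime p)
            (((extScD A (Localization.AtPrime p)).obj ω)⟦-(e : ℤ)⟧) (-(dB : ℤ)) :=
        locHDEquiv ω p (-(d : ℤ)) ≪≫ₗ
          ((HFShiftIso (A := Localization.AtPrime p) (-(e : ℤ)) (-(dB : ℤ)) (-(d : ℤ))
            (by omega)).app ((extScD A (Localization.AtPrime p)).obj ω)).symm.toLinearEquiv
      rw [Groth.Agent.Lib.Helper29.CMLib.depth_congr eq1]
      have h3 : Module.supportDim (Localization.AtPrime p)
          (LocalizedModule p.primeCompl (Dual.HD A ω (-(d : ℤ)))) ≤ (dB : WithBot ℕ∞) := by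
        rw [← hdB]
        exact Module.supportDim_le_ringKrullDim _ _
      calc min ((2 : ℕ) : WithBot ℕ∞) (Module.supportDim (Localization.AtPrime p)
            (LocalizedModule p.primeCompl (Dual.HD A ω (-(d : ℤ)))))
          ≤ min ((2 : ℕ) : WithBot ℕ∞) (dB : WithBot ℕ∞) := min_le_min le_rfl h3
        _ = ((min (2 : ℕ∞) (dB : ℕ∞) : ℕ∞) : WithBot ℕ∞) := by
          rw [WithBot.coe_min]
          rfl
        _ ≤ _ := by exact_mod_cast hS2
    · rw [Module.notMem_support_iff] at hsupp
      rw [Module.supportDim_eq_bot_of_subsingleton]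
      simp

end Main

end Groth.Agent.Lib.Helper14.DualCanon
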