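import Mathlib
import Groth.Agent.Lib.Helper14.DualCanon

/-!
# Serre's conditions via the supports of `Ext(M, ω)` (helper14)
-/

set_option autoImplicit false
universe u
open CategoryTheory
attribute [local instance] HasDerivedCategory.standard

namespace Groth.Agent.Lib.Helper14.DualSk
open CategoryTheory CategoryTheory.Limits
open Groth.Agent.Lib.Helper12 Groth.Agent.Lib.Helper12.FlatHomBC DRing Pretriangulated
open Groth.Agent.Lib.Helper12.Bass Groth.Agent.Lib.Helper36.InjAmp
open Groth.Agent.Lib.Helper12.DualDim Groth.Agent.Lib.Helper12.Shriek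
open IsLocalRing Groth.Agent.Lib.Helper29 Groth.Agent.Lib.Helper29.DepthLib Pointwise TensorProduct
open Groth.Agent.S0370.D370 Groth.Agent.Lib.Helper14.DualCM Groth.Agent.Lib.Helper14.DualDepth
open Groth.Agent.Lib.Helper14.DualDelta Groth.Agent.Lib.Helper14.DualCoheight
open Groth.Agent.Lib.Helper14.DualLower Groth.Agent.Lib.Helper14.DualExtRange
open Groth.Agent.Lib.Helper14.DualLoc Groth.Agent.Lib.Helper14.DualPointwise
open Groth.Agent.Lib.Helper14.DualCanon
set_option linter.style.haveILetI false

variable {A : Type u} [CommRing A] [IsNoetherianRing A]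

/-- **localized Ext modules, general (non-local) form**: with `t = tdeg p`, `n = depth M_p`,
`dM = dim M_p`, the module `Ext^i(M, ω)_p` vanishes for `i > t - n` and `i < t - dM` and is
nonzero for `i = t - n` and `i = t - dM`. -/
theorem gen_loc_ext (ω : Dual.D A) (hω : Dual.IsDualizing A ω) (p : Ideal A) [p.IsPrime]
    (M : Type u) [AddCommGroup M] [Module A M] [Module.Finite A M]
    [Nontrivial (Localization.AtPrime p ⊗[A] M)] (n dM : ℕ)
    (hdepth : LocCoh.depth (Localization.AtPrime p) (Localization.AtPrime p ⊗[A] M) = n)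
    (hdim : Module.supportDim (Localization.AtPrime p) (Localization.AtPrime p ⊗[A] M) = dM) :
    (∀ i : ℤ, tdeg ω hω p - n < i →
      Subsingleton (LocalizedModule p.primeCompl (Dual.inD A M ⟶ ω⟦i⟧))) ∧
    Nontrivial (LocalizedModule p.primeCompl (Dual.inD A M ⟶ ω⟦tdeg ω hω p - n⟧)) ∧
    (∀ i : ℤ, i < tdeg ω hω p - dM →
      Subsingleton (LocalizedModule p.primeCompl (Dual.inD A M ⟶ ω⟦i⟧))) ∧
    Nontrivial (LocalizedModule p.primeCompl (Dual.inD A M ⟶ ω⟦tdeg ω hω p - dM⟧)) := by
  have hN : IsNoetherianRing (Localization.AtPrime p) :=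
    IsLocalization.isNoetherianRing p.primeCompl _ inferInstance
  set t := tdeg ω hω p with ht
  set R := Localization.AtPrime p with hR
  set ωp := (extScD A R).obj ω with hωp
  have hω' : Dual.IsDualizing R (ωp⟦t⟧) :=
    isDualizing_shift _ (isDualizing_localization ω hω p) _
  have hn' : Dual.IsNormalized R (ωp⟦t⟧) := isNormalized_loc_shift ω hω p
  obtain ⟨h1, h2⟩ := (depth_iff (ωp⟦t⟧) hω' hn' (R ⊗[A] M) n).1 hdepth
  have h0 := vanishAbove_zero (ωp⟦t⟧) hω' hn' (R ⊗[A] M)
  have h3 := subsingleton_ext_of_lt (ωp⟦t⟧) hω' hn' dM (R ⊗[A] M) hdim.le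
  have h4 := main19859 (ωp⟦t⟧) hω' hn' (R ⊗[A] M) dM hdim
  have key : ∀ i : ℤ, Subsingleton (LocalizedModule p.primeCompl (Dual.inD A M ⟶ ω⟦i⟧)) ↔
      Subsingleton (Dual.inD R (R ⊗[A] M) ⟶ (ωp⟦t⟧)⟦i - t⟧) := by
    intro i
    rw [subsingleton_loc_iff ω hω p M i,
      subsingleton_shift_shift_iff (Dual.inD R (R ⊗[A] M)) ωp t (i - t) i (by ring)]
  refine ⟨fun i hi => ?_, ?_, fun i hi => ?_, ?_⟩
  · rw [key]
    by_cases hpos : 0 < i - t
    · exact h0 _ hpos
    · obtain ⟨δ, hδ⟩ : ∃ δ : ℕ, i - t = -(δ : ℤ) := ⟨(-(i - t)).toNat, by omega⟩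
      rw [hδ]
      exact h1 δ (by omega)
  · rw [← not_subsingleton_iff_nontrivial, key]
    have : t - (n : ℤ) - t = -(n : ℤ) := by ring
    rw [this]
    exact not_subsingleton _
  · rw [key]
    exact h3 _ (by omega)
  · rw [← not_subsingleton_iff_nontrivial, key]
    have : t - (dM : ℤ) - t = -(dM : ℤ) := by ring
    rw [this]
    exact not_subsingleton _

/-- numerical data of a nonzero finite module over a Noetherian local ring -/
theorem exists_depth_dim (B : Type u) [CommRing B] [IsLocalRing B] [IsNoetherianRing B]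
    (N : Type u) [AddCommGroup N] [Module B N] [Module.Finite B N] [Nontrivial N] :
    ∃ n dM : ℕ, LocCoh.depth B N = n ∧ Module.supportDim B N = dM := by
  obtain ⟨n, hn⟩ := ENat.ne_top_iff_exists.1 (depth_ne_top B N)
  obtain ⟨d, hd⟩ := exists_nat_ringKrullDim B
  have h1 : Module.supportDim B N ≠ ⊥ := Module.supportDim_ne_bot_of_nontrivial B N
  have h2 : Module.supportDim B N ≤ (d : WithBot ℕ∞) := by
    rw [← hd]
    exact Module.supportDim_le_ringKrullDim B N
  obtain ⟨x, hx⟩ := WithBot.ne_bot_iff_exists.1 h1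
  rw [← hx] at h2
  have h3 : x ≤ (d : ℕ∞) := by exact_mod_cast h2
  obtain ⟨k, rfl⟩ := ENat.ne_top_iff_exists.1 (ne_top_of_le_ne_top (ENat.natCast_ne_top d) h3)
  exact ⟨n, k, hn.symm, hx.symm⟩


omit [IsNoetherianRing A] in
/-- transfer between the two models of the localized module -/
theorem loc_congr (p : Ideal A) [p.IsPrime] (M : Type u) [AddCommGroup M] [Module A M] :
    LocCoh.depth (Localization.AtPrime p) (LocalizedModule p.primeCompl M) =
      LocCoh.depth (Localization.AtPrime p) (Localization.AtPrime p ⊗[A] M) ∧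
    Module.supportDim (Localization.AtPrime p) (LocalizedModule p.primeCompl M) =
      Module.supportDim (Localization.AtPrime p) (Localization.AtPrime p ⊗[A] M) :=
  ⟨Groth.Agent.Lib.Helper29.CMLib.depth_congr (LocalizedModule.equivTensorProduct p.primeCompl M),
    Module.supportDim_eq_of_equiv (LocalizedModule.equivTensorProduct p.primeCompl M)⟩

omit [IsNoetherianRing A] in
theorem mem_support_iff_nontrivial_loc (p : PrimeSpectrum A) (E : Type (u + 1)) [AddCommGroup E]
    [Module A E] : p ∈ Module.support A E ↔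
      Nontrivial (LocalizedModule p.asIdeal.primeCompl E) := Module.mem_support_iff

theorem main16 (ω : Dual.D A) (hω : Dual.IsDualizing A ω) (M : Type u) [AddCommGroup M]
    [Module A M] [Module.Finite A M] (k : ℕ) (hk : 1 ≤ k) :
    LocCoh.HasSk k A M ↔
      ∀ (i j : ℤ), j < i → ∀ p : PrimeSpectrum A,
        p ∈ Module.support A (Dual.inD A M ⟶ ω⟦i⟧) → p ∈ Module.support A (Dual.inD A M ⟶ ω⟦j⟧) →
          (((k : ℤ) + i - j).toNat : WithBot ℕ∞) ≤
            Module.supportDim (Localization.AtPrime p.asIdeal)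
              (LocalizedModule p.asIdeal.primeCompl M) := by
  have hNp : ∀ p : Ideal A, ∀ [p.IsPrime], IsNoetherianRing (Localization.AtPrime p) :=
    fun p _ => IsLocalization.isNoetherianRing p.primeCompl _ inferInstance
  constructor
  · intro hS i j hji p hpi hpj
    haveI := hNp p.asIdeal
    obtain ⟨hc1, hc2⟩ := loc_congr p.asIdeal M
    rw [Module.mem_support_iff] at hpi hpj
    have hnt : Nontrivial (Localization.AtPrime p.asIdeal ⊗[A] M) := by
      by_contra hcon
      rw [not_nontrivial_iff_subsingleton] at hcon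
      have hz : IsZero (Dual.inD (Localization.AtPrime p.asIdeal)
          (Localization.AtPrime p.asIdeal ⊗[A] M)) :=
        (DerivedCategory.singleFunctor _ 0).map_isZero (ModuleCat.isZero_of_subsingleton _)
      have : Subsingleton (LocalizedModule p.asIdeal.primeCompl (Dual.inD A M ⟶ ω⟦i⟧)) := by
        rw [subsingleton_loc_iff ω hω p.asIdeal M i]
        exact ⟨fun f g => hz.eq_of_src f g⟩
      exact not_subsingleton _ this
    obtain ⟨n, dM, hn, hdM⟩ := exists_depth_dim (Localization.AtPrime p.asIdeal)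
      (Localization.AtPrime p.asIdeal ⊗[A] M)
    obtain ⟨h1, -, h3, -⟩ := gen_loc_ext ω hω p.asIdeal M n dM hn hdM
    have hi : i ≤ tdeg ω hω p.asIdeal - n := by
      by_contra hlt
      push Not at hlt
      exact not_subsingleton _ (h1 i hlt)
    have hj : tdeg ω hω p.asIdeal - dM ≤ j := by
      by_contra hlt
      push Not at hlt
      exact not_subsingleton _ (h3 j hlt)
    have hSp := hS p.asIdeal
    rw [hc1, hc2, hn, hdM] at hSp
    rw [hc2, hdM]
    have hlt : n < dM := by omega
    have hkn : k ≤ n := by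
      have h5 : min ((k : ℕ) : WithBot ℕ∞) ((dM : ℕ) : WithBot ℕ∞) ≤ ((n : ℕ) : WithBot ℕ∞) := hSp
      rcases le_total k dM with h | h
      · have h8 : ((k : ℕ) : WithBot ℕ∞) ≤ ((dM : ℕ) : WithBot ℕ∞) := by exact_mod_cast h
        rw [min_eq_left h8] at h5
        exact_mod_cast h5
      · have h8 : ((dM : ℕ) : WithBot ℕ∞) ≤ ((k : ℕ) : WithBot ℕ∞) := by exact_mod_cast h
        rw [min_eq_right h8] at h5
        have : dM ≤ n := by exact_mod_cast h5
        omega
    have : ((k : ℤ) + i - j).toNat ≤ dM := by omega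
    exact_mod_cast this
  · intro hcond p hp
    haveI := hNp p
    obtain ⟨hc1, hc2⟩ := loc_congr p M
    rw [hc1, hc2]
    rcases subsingleton_or_nontrivial (Localization.AtPrime p ⊗[A] M) with hs | hnt
    · rw [Module.supportDim_eq_bot_of_subsingleton]
      simp
    · obtain ⟨n, dM, hn, hdM⟩ := exists_depth_dim (Localization.AtPrime p)
        (Localization.AtPrime p ⊗[A] M)
      obtain ⟨-, h2, -, h4⟩ := gen_loc_ext ω hω p M n dM hn hdM
      rw [hn, hdM]
      by_cases hlt : n < dM
      · have h5 := hcond (tdeg ω hω p - n) (tdeg ω hω p - dM) (by omega) ⟨p, hp⟩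
          (Module.mem_support_iff.2 h2) (Module.mem_support_iff.2 h4)
        rw [hc2, hdM] at h5
        have h6 : ((k : ℤ) + (tdeg ω hω p - n) - (tdeg ω hω p - dM)).toNat ≤ dM := by
          exact_mod_cast h5
        have hkn : k ≤ n := by omega
        calc min ((k : ℕ) : WithBot ℕ∞) ((dM : ℕ) : WithBot ℕ∞) ≤ ((k : ℕ) : WithBot ℕ∞) :=
              min_le_left _ _
          _ ≤ _ := by exact_mod_cast hkn
      · push Not at hlt
        calc min ((k : ℕ) : WithBot ℕ∞) ((dM : ℕ) : WithBot ℕ∞) ≤ ((dM : ℕ) : WithBot ℕ∞) :=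
              min_le_right _ _
          _ ≤ _ := by exact_mod_cast hlt


omit [IsNoetherianRing A] in
/-- bounding the support dimension by coheights -/
theorem supportDim_le_of_coheight_le {E : Type*} [AddCommGroup E] [Module A E] (N : ℕ)
    (hP : ∀ P : PrimeSpectrum A, P ∈ Module.support A E → Order.coheight P ≤ (N : ℕ∞)) :
    Module.supportDim A E ≤ (N : WithBot ℕ∞) := by
  unfold Module.supportDim Order.krullDim
  refine iSup_le (fun s => ?_)
  have h1 : (s.length : ℕ∞) ≤ Order.coheight (s.head : PrimeSpectrum A) := by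
    have := Order.length_le_coheight_head (p := s.map Subtype.val (fun _ _ h => h))
    exact this
  have h2 := h1.trans (hP _ s.head.2)
  exact_mod_cast h2

omit [IsNoetherianRing A] in
/-- a prime of the support has `dim A/p ≤ dim E` -/
theorem ringKrullDim_quotient_le_supportDim' {E : Type*} [AddCommGroup E] [Module A E]
    (p : PrimeSpectrum A) (hp : p ∈ Module.support A E) :
    ringKrullDim (A ⧸ p.asIdeal) ≤ Module.supportDim A E := by
  rw [ringKrullDim_quotient]
  have hsub : ∀ y ∈ PrimeSpectrum.zeroLocus (p.asIdeal : Set A), y ∈ Module.support A E := by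
    intro y hy
    exact Module.mem_support_mono (show p ≤ y from hy) hp
  exact Order.krullDim_le_of_strictMono
    (fun y : PrimeSpectrum.zeroLocus (p.asIdeal : Set A) =>
      (⟨y.1, hsub y.1 y.2⟩ : Module.support A E))
    (fun a b hab => hab)

section Local
variable [IsLocalRing A]

/-- for an equidimensional module over a local ring with normalized dualizing complex,
`dim M_p + dim A/p = dim M` on the support -/
theorem equidim_formula (ω : Dual.D A) (hω : Dual.IsDualizing A ω) (hn : Dual.IsNormalized A ω)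
    (M : Type u) [AddCommGroup M] [Module A M] [Module.Finite A M]
    (hM : EGA4.IsEquidimModule A M) (δ : ℕ) (hδ : Module.supportDim A M = δ)
    (p : Ideal A) [p.IsPrime] [Nontrivial (Localization.AtPrime p ⊗[A] M)] (e n dM : ℕ)
    (he : ringKrullDim (A ⧸ p) = e)
    (hdepth : LocCoh.depth (Localization.AtPrime p) (Localization.AtPrime p ⊗[A] M) = n)
    (hdim : Module.supportDim (Localization.AtPrime p) (Localization.AtPrime p ⊗[A] M) = dM) :
    e + dM = δ := by
  have hglob : ∀ j : ℤ, j < -(δ : ℤ) → Subsingleton (Dual.inD A M ⟶ ω⟦j⟧) :=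
    subsingleton_ext_of_lt ω hω hn δ M hδ.le
  have hloc_of_sub : ∀ (q : Ideal A) [q.IsPrime] (j : ℤ), Subsingleton (Dual.inD A M ⟶ ω⟦j⟧) →
      Subsingleton (LocalizedModule q.primeCompl (Dual.inD A M ⟶ ω⟦j⟧)) := by
    intro q _ j hs
    rw [LocalizedModule.subsingleton_iff]
    intro m
    exact ⟨1, Submonoid.one_mem _, by rw [hs.elim m 0, smul_zero]⟩
  have ht : tdeg ω hω p = -(e : ℤ) := tdeg_of_normalized ω hω hn p e he
  obtain ⟨-, -, h3, h4⟩ := gen_loc_ext ω hω p M n dM hdepth hdim
  have hle : e + dM ≤ δ := by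
    by_contra hlt
    push Not at hlt
    exact not_subsingleton _ (hloc_of_sub p (tdeg ω hω p - dM) (hglob _ (by rw [ht]; omega)))
  have hge : δ ≤ e + dM := by
    -- `p` lies in the support of `Ext^{-δ}`
    have hpS : (⟨p, inferInstance⟩ : PrimeSpectrum A) ∈ Module.support A M := by
      rw [Module.mem_support_iff]
      exact (LocalizedModule.equivTensorProduct p.primeCompl M).toEquiv.nontrivial
    have hann : Module.annihilator A M ≤ p := Module.annihilator_le_of_mem_support hpS
    obtain ⟨q, hq, hqp⟩ := Ideal.exists_minimalPrimes_le hann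
    haveI hq' : q.IsPrime := hq.1.1
    have hNq : IsNoetherianRing (Localization.AtPrime q) :=
      IsLocalization.isNoetherianRing q.primeCompl _ inferInstance
    have hqd : ringKrullDim (A ⧸ q) = δ := (hM q hq).trans hδ
    have hqS : (⟨q, hq'⟩ : PrimeSpectrum A) ∈ Module.support A M := by
      rw [Module.mem_support_iff_of_finite]
      exact hq.1.2
    haveI : Nontrivial (Localization.AtPrime q ⊗[A] M) := by
      rw [Module.mem_support_iff] at hqS
      exact (LocalizedModule.equivTensorProduct q.primeCompl M).symm.toEquiv.nontrivial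
    obtain ⟨n', dM', hn', hdM'⟩ := exists_depth_dim (Localization.AtPrime q)
      (Localization.AtPrime q ⊗[A] M)
    have htq : tdeg ω hω q = -(δ : ℤ) := tdeg_of_normalized ω hω hn q δ hqd
    obtain ⟨-, -, -, h4'⟩ := gen_loc_ext ω hω q M n' dM' hn' hdM'
    have hd0 : dM' = 0 := by
      by_contra hne
      exact not_subsingleton _ (hloc_of_sub q (tdeg ω hω q - dM') (hglob _ (by rw [htq]; omega)))
    rw [htq, hd0] at h4'
    have hq_mem : (⟨q, hq'⟩ : PrimeSpectrum A) ∈
        Module.support A (Dual.inD A M ⟶ ω⟦-(δ : ℤ) - ((0 : ℕ) : ℤ)⟧) :=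
      Module.mem_support_iff.2 h4'
    have hp_mem := Module.mem_support_mono
      (show (⟨q, hq'⟩ : PrimeSpectrum A) ≤ ⟨p, inferInstance⟩ from hqp) hq_mem
    rw [Module.mem_support_iff] at hp_mem
    by_contra hlt
    push Not at hlt
    exact not_subsingleton _ (h3 (-(δ : ℤ) - ((0 : ℕ) : ℤ)) (by rw [ht]; push_cast; omega))
  omega

end Local


section Local2
variable [IsLocalRing A]

theorem main17 (ω : Dual.D A) (hω : Dual.IsDualizing A ω) (hn : Dual.IsNormalized A ω)
    (M : Type u) [AddCommGroup M] [Module A M] [Module.Finite A M] [Nontrivial M]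
    (hM : EGA4.IsEquidimModule A M) (δ : ℕ) (hδ : Module.supportDim A M = δ) (k : ℕ)
    (_hk : 1 ≤ k) :
    LocCoh.HasSk k A M ↔
      ∀ j : ℤ, j ≠ -(δ : ℤ) →
        (-j - (k : ℤ) < 0 → Subsingleton (Dual.inD A M ⟶ ω⟦j⟧)) ∧
        (0 ≤ -j - (k : ℤ) → Module.supportDim A (Dual.inD A M ⟶ ω⟦j⟧) ≤
          ((-j - (k : ℤ)).toNat : WithBot ℕ∞)) := by
  have hNp : ∀ p : Ideal A, ∀ [p.IsPrime], IsNoetherianRing (Localization.AtPrime p) :=
    fun p _ => IsLocalization.isNoetherianRing p.primeCompl _ inferInstance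
  -- data at a prime of the support of some `Ext`
  have hdata : ∀ (p : PrimeSpectrum A) (j : ℤ), p ∈ Module.support A (Dual.inD A M ⟶ ω⟦j⟧) →
      ∃ (_ : Nontrivial (Localization.AtPrime p.asIdeal ⊗[A] M)) (e n dM : ℕ),
        ringKrullDim (A ⧸ p.asIdeal) = e ∧
        LocCoh.depth (Localization.AtPrime p.asIdeal) (Localization.AtPrime p.asIdeal ⊗[A] M) = n ∧
        Module.supportDim (Localization.AtPrime p.asIdeal)
          (Localization.AtPrime p.asIdeal ⊗[A] M) = dM ∧
        e + dM = δ ∧ j ≤ -(e : ℤ) - n ∧ -(e : ℤ) - dM ≤ j := by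
    intro p j hp
    haveI := hNp p.asIdeal
    rw [Module.mem_support_iff] at hp
    have hnt : Nontrivial (Localization.AtPrime p.asIdeal ⊗[A] M) := by
      by_contra hcon
      rw [not_nontrivial_iff_subsingleton] at hcon
      have hz : IsZero (Dual.inD (Localization.AtPrime p.asIdeal)
          (Localization.AtPrime p.asIdeal ⊗[A] M)) :=
        (DerivedCategory.singleFunctor _ 0).map_isZero (ModuleCat.isZero_of_subsingleton _)
      have : Subsingleton (LocalizedModule p.asIdeal.primeCompl (Dual.inD A M ⟶ ω⟦j⟧)) := by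
        rw [subsingleton_loc_iff ω hω p.asIdeal M j]
        exact ⟨fun f g => hz.eq_of_src f g⟩
      exact not_subsingleton _ this
    obtain ⟨e, he⟩ := exists_nat_dim p.asIdeal
    obtain ⟨n, dM, hn', hdM⟩ := exists_depth_dim (Localization.AtPrime p.asIdeal)
      (Localization.AtPrime p.asIdeal ⊗[A] M)
    have ht : tdeg ω hω p.asIdeal = -(e : ℤ) := tdeg_of_normalized ω hω hn p.asIdeal e he
    obtain ⟨h1, -, h3, -⟩ := gen_loc_ext ω hω p.asIdeal M n dM hn' hdM
    refine ⟨hnt, e, n, dM, he, hn', hdM,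
      equidim_formula ω hω hn M hM δ hδ p.asIdeal e n dM he hn' hdM, ?_, ?_⟩
    · by_contra hlt
      push Not at hlt
      exact not_subsingleton _ (h1 j (by rw [ht]; exact hlt))
    · by_contra hlt
      push Not at hlt
      exact not_subsingleton _ (h3 j (by rw [ht]; exact hlt))
  constructor
  · intro hS j hj
    -- the key bound
    have hkey : ∀ p : PrimeSpectrum A, p ∈ Module.support A (Dual.inD A M ⟶ ω⟦j⟧) →
        ∃ e : ℕ, ringKrullDim (A ⧸ p.asIdeal) = e ∧ (e : ℤ) ≤ -j - k := by
      intro p hp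
      obtain ⟨hnt, e, n, dM, he, hn', hdM, hsum, hj1, hj2⟩ := hdata p j hp
      refine ⟨e, he, ?_⟩
      have hlt : n < dM := by
        by_contra hge
        push Not at hge
        apply hj
        omega
      obtain ⟨hc1, hc2⟩ := loc_congr p.asIdeal M
      have hSp := hS p.asIdeal
      rw [hc1, hc2, hn', hdM] at hSp
      have hkn : k ≤ n := by
        have h5 : min ((k : ℕ) : WithBot ℕ∞) ((dM : ℕ) : WithBot ℕ∞) ≤ ((n : ℕ) : WithBot ℕ∞) :=
          hSp
        rcases le_total k dM with h | h
        · have h8 : ((k : ℕ) : WithBot ℕ∞) ≤ ((dM : ℕ) : WithBot ℕ∞) := by exact_mod_cast h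
          rw [min_eq_left h8] at h5
          exact_mod_cast h5
        · have h8 : ((dM : ℕ) : WithBot ℕ∞) ≤ ((k : ℕ) : WithBot ℕ∞) := by exact_mod_cast h
          rw [min_eq_right h8] at h5
          have : dM ≤ n := by exact_mod_cast h5
          omega
      omega
    constructor
    · intro hneg
      by_contra hcon
      rw [not_subsingleton_iff_nontrivial] at hcon
      obtain ⟨p, hp⟩ := Module.nonempty_support_of_nontrivial (R := A)
        (M := (Dual.inD A M ⟶ ω⟦j⟧))
      obtain ⟨e, -, he⟩ := hkey p hp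
      omega
    · intro hpos
      apply supportDim_le_of_coheight_le
      intro P hP
      obtain ⟨e, he, hle⟩ := hkey P hP
      have h7 := coheight_eq_ringKrullDim_quotient P
      rw [he] at h7
      have h8 : Order.coheight P = (e : ℕ∞) := by exact_mod_cast h7
      rw [h8]
      have : e ≤ (-j - (k : ℤ)).toNat := by omega
      exact_mod_cast this
  · intro hcond p hp
    haveI := hNp p
    obtain ⟨hc1, hc2⟩ := loc_congr p M
    rw [hc1, hc2]
    rcases subsingleton_or_nontrivial (Localization.AtPrime p ⊗[A] M) with hs | hnt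
    · rw [Module.supportDim_eq_bot_of_subsingleton]
      simp
    · obtain ⟨e, he⟩ := exists_nat_dim p
      obtain ⟨n, dM, hn', hdM⟩ := exists_depth_dim (Localization.AtPrime p)
        (Localization.AtPrime p ⊗[A] M)
      have ht : tdeg ω hω p = -(e : ℤ) := tdeg_of_normalized ω hω hn p e he
      obtain ⟨-, h2, -, -⟩ := gen_loc_ext ω hω p M n dM hn' hdM
      have hsum := equidim_formula ω hω hn M hM δ hδ p e n dM he hn' hdM
      rw [hn', hdM]
      by_cases hlt : n < dM
      · have hmem : (⟨p, hp⟩ : PrimeSpectrum A) ∈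
            Module.support A (Dual.inD A M ⟶ ω⟦tdeg ω hω p - n⟧) := Module.mem_support_iff.2 h2
        obtain ⟨hc_a, hc_b⟩ := hcond (tdeg ω hω p - n) (by rw [ht]; omega)
        have hnn : ¬ (-(tdeg ω hω p - n) - (k : ℤ) < 0) := by
          intro hneg
          have hsub := hc_a hneg
          have : Subsingleton (LocalizedModule p.primeCompl
              (Dual.inD A M ⟶ ω⟦tdeg ω hω p - n⟧)) := by
            rw [LocalizedModule.subsingleton_iff]
            intro m
            exact ⟨1, Submonoid.one_mem _, by rw [hsub.elim m 0, smul_zero]⟩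
          exact not_subsingleton _ this
        push Not at hnn
        have h5 := (ringKrullDim_quotient_le_supportDim' ⟨p, hp⟩ hmem).trans (hc_b hnn)
        rw [he] at h5
        have h6 : e ≤ (-(tdeg ω hω p - n) - (k : ℤ)).toNat := by exact_mod_cast h5
        have hkn : k ≤ n := by
          rw [ht] at h6 hnn
          omega
        calc min ((k : ℕ) : WithBot ℕ∞) ((dM : ℕ) : WithBot ℕ∞) ≤ ((k : ℕ) : WithBot ℕ∞) :=
              min_le_left _ _
          _ ≤ _ := by exact_mod_cast hkn
      · push Not at hlt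
        calc min ((k : ℕ) : WithBot ℕ∞) ((dM : ℕ) : WithBot ℕ∞) ≤ ((dM : ℕ) : WithBot ℕ∞) :=
              min_le_right _ _
          _ ≤ _ := by exact_mod_cast hlt

end Local2

end Groth.Agent.Lib.Helper14.DualSk
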