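import Mathlib
import Groth.Agent.Lib.Helper14.DualSk

/-!
# Serre's conditions via a dualizing complex, global equidimensional form (helper14)
-/

set_option autoImplicit false
universe u
open CategoryTheory
attribute [local instance] HasDerivedCategory.standard

namespace Groth.Agent.Lib.Helper14.DualSkGlobal
open CategoryTheory CategoryTheory.Limits
open Groth.Agent.Lib.Helper12 Groth.Agent.Lib.Helper12.FlatHomBC DRing Pretriangulated
open Groth.Agent.Lib.Helper12.Bass Groth.Agent.Lib.Helper36.InjAmp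
open Groth.Agent.Lib.Helper12.DualDim Groth.Agent.Lib.Helper12.Shriek
open IsLocalRing Groth.Agent.Lib.Helper29 Groth.Agent.Lib.Helper29.DepthLib Pointwise TensorProduct
open Groth.Agent.S0370.D370 Groth.Agent.Lib.Helper14.DualCM Groth.Agent.Lib.Helper14.DualDepth
open Groth.Agent.Lib.Helper14.DualDelta Groth.Agent.Lib.Helper14.DualCoheight
open Groth.Agent.Lib.Helper14.DualLower Groth.Agent.Lib.Helper14.DualExtRange
open Groth.Agent.Lib.Helper14.DualLoc Groth.Agent.Lib.Helper14.DualPointwise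
open Groth.Agent.Lib.Helper14.DualCanon Groth.Agent.Lib.Helper14.DualSk
set_option linter.style.haveILetI false

variable {A : Type u} [CommRing A] [IsNoetherianRing A]

/-- normalized at a maximal ideal ⟹ residue degree `0` there -/
theorem tdeg_maximal (ω : Dual.D A) (hω : Dual.IsDualizing A ω) (m : Ideal A) [m.IsPrime]
    (hnorm : ∀ i : ℤ, i ≠ 0 → Subsingleton (Dual.inD A (A ⧸ m) ⟶ ω⟦i⟧)) :
    tdeg ω hω m = 0 := by
  by_contra hne
  have hn' : Subsingleton (Dual.inD A (A ⧸ m) ⟶ ω⟦tdeg ω hω m⟧) := hnorm _ hne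
  have h1 : Subsingleton (LocalizedModule m.primeCompl
      (Dual.inD A (A ⧸ m) ⟶ ω⟦tdeg ω hω m⟧)) := by
    rw [LocalizedModule.subsingleton_iff]
    intro x
    exact ⟨1, Submonoid.one_mem _, by rw [hn'.elim x 0, smul_zero]⟩
  exact (subsingleton_loc_residue_iff ω hω m _).1 h1 rfl

/-- `tdeg = -coheight` when normalized at all maximal ideals -/
theorem tdeg_eq_neg_coheight (ω : Dual.D A) (hω : Dual.IsDualizing A ω)
    (hnorm : ∀ (m : Ideal A) (_ : m.IsMaximal) (i : ℤ), i ≠ 0 →
      Subsingleton (Dual.inD A (A ⧸ m) ⟶ ω⟦i⟧)) :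
    ∀ (n : ℕ) (x : PrimeSpectrum A), Order.coheight x = n →
      tdeg ω hω x.asIdeal = -(n : ℤ) := by
  intro n
  induction n with
  | zero =>
    intro x hx
    have hmax : IsMax x := Order.coheight_eq_zero.1 (by simpa using hx)
    have hm : x.asIdeal.IsMaximal := PrimeSpectrum.isMax_iff.1 hmax
    rw [tdeg_maximal ω hω x.asIdeal (hnorm x.asIdeal hm)]
    simp
  | succ n ih =>
    intro x hx
    have hx' : Order.coheight x = (n : ℕ∞) + 1 := by
      rw [hx]; push_cast; rfl
    obtain ⟨-, ⟨y, hxy, hy⟩, hall⟩ := Order.coheight_eq_coe_add_one_iff.1 hx'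
    have hcov : x ⋖ y := by
      refine ⟨hxy, fun c hxc hcy => ?_⟩
      have h1 := Order.coheight_add_one_le hcy
      have h2 := hall c hxc
      rw [hy] at h1
      have h3 : ((n : ℕ∞) + 1) ≤ n := h1.trans h2
      have h4 : (n + 1 : ℕ) ≤ n := by exact_mod_cast h3
      omega
    rw [tdeg_covBy' ω hω x y hcov, ih y hy]
    push_cast
    ring

/-- `tdeg = c + height` when `tdeg = c` at all minimal primes -/
theorem tdeg_eq_add_height (ω : Dual.D A) (hω : Dual.IsDualizing A ω) (c : ℤ)
    (hmin : ∀ x : PrimeSpectrum A, IsMin x → tdeg ω hω x.asIdeal = c) :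
    ∀ (h : ℕ) (x : PrimeSpectrum A), Order.height x = h →
      tdeg ω hω x.asIdeal = c + h := by
  intro h
  induction h with
  | zero =>
    intro x hx
    have hm : IsMin x := Order.height_eq_zero.1 (by simpa using hx)
    rw [hmin x hm]
    simp
  | succ n ih =>
    intro x hx
    have hx' : Order.height x = (n : ℕ∞) + 1 := by
      rw [hx]; push_cast; rfl
    obtain ⟨-, ⟨y, hyx, hy⟩, hall⟩ := Order.height_eq_coe_add_one_iff.1 hx'
    have hcov : y ⋖ x := by
      refine ⟨hyx, fun c hyc hcx => ?_⟩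
      have h1 := Order.height_add_one_le hyc
      have h2 := hall c hcx
      rw [hy] at h1
      have h3 : ((n : ℕ∞) + 1) ≤ n := h1.trans h2
      have h4 : (n + 1 : ℕ) ≤ n := by exact_mod_cast h3
      omega
    have := tdeg_covBy' ω hω y x hcov
    rw [ih y hy] at this
    push_cast
    omega

/-- data at a prime: equidimensional ring, normalized at the maximal ideals -/
theorem prime_data (ω : Dual.D A) (hω : Dual.IsDualizing A ω)
    (hEq : EGA4.IsEquidim A) (n : ℕ) (hd : ringKrullDim A = n)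
    (hnorm : ∀ (m : Ideal A) (_ : m.IsMaximal) (i : ℤ), i ≠ 0 →
      Subsingleton (Dual.inD A (A ⧸ m) ⟶ ω⟦i⟧)) (p : Ideal A) [hp : p.IsPrime] :
    ∃ e h : ℕ, ringKrullDim (A ⧸ p) = e ∧ ringKrullDim (Localization.AtPrime p) = h ∧
      tdeg ω hω p = -(e : ℤ) ∧ e + h = n := by
  set x : PrimeSpectrum A := ⟨p, hp⟩ with hx
  have hc1 : ((Order.coheight x : ℕ∞) : WithBot ℕ∞) ≤ (n : WithBot ℕ∞) := by
    rw [← hd]
    exact Order.coheight_le_krullDim x
  have hh1 : ((Order.height x : ℕ∞) : WithBot ℕ∞) ≤ (n : WithBot ℕ∞) := by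
    rw [← hd]
    exact Order.height_le_krullDim x
  have hc2 : Order.coheight x ≤ (n : ℕ∞) := by exact_mod_cast hc1
  have hh2 : Order.height x ≤ (n : ℕ∞) := by exact_mod_cast hh1
  obtain ⟨e, he⟩ := ENat.ne_top_iff_exists.1 (ne_top_of_le_ne_top (ENat.natCast_ne_top n) hc2)
  obtain ⟨h, hh⟩ := ENat.ne_top_iff_exists.1 (ne_top_of_le_ne_top (ENat.natCast_ne_top n) hh2)
  have hcoh := tdeg_eq_neg_coheight ω hω hnorm
  have hmin : ∀ y : PrimeSpectrum A, IsMin y → tdeg ω hω y.asIdeal = -(n : ℤ) := by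
    intro y hy
    apply hcoh n y
    have h1 := coheight_eq_ringKrullDim_quotient y
    rw [hEq y.asIdeal (PrimeSpectrum.isMin_iff.1 hy), hd] at h1
    exact_mod_cast h1
  have h1 : tdeg ω hω p = -(e : ℤ) := hcoh e x he.symm
  have h2 : tdeg ω hω p = -(n : ℤ) + h := tdeg_eq_add_height ω hω _ hmin h x hh.symm
  refine ⟨e, h, ?_, ?_, h1, by omega⟩
  · rw [← coheight_eq_ringKrullDim_quotient x, ← he]
    rfl
  · rw [IsLocalization.AtPrime.ringKrullDim_eq_height p (Localization.AtPrime p)]
    have h5 : p.height = Order.height x := PrimeSpectrum.height_eq_orderHeight x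
    rw [h5, ← hh]
    rfl


/-- **Serre's conditions via the supports of `Ext^{-i}(M, ω)`**, generic form: the residue degree
is `-dim A/p` and `dim A/p + dim M_p = δ` on the support of `M`. -/
theorem main17_gen (ω : Dual.D A) (hω : Dual.IsDualizing A ω)
    (M : Type u) [AddCommGroup M] [Module A M] [Module.Finite A M] (δ : ℕ)
    (hdata : ∀ (p : Ideal A) [p.IsPrime] [Nontrivial (Localization.AtPrime p ⊗[A] M)] (dM : ℕ),
      Module.supportDim (Localization.AtPrime p) (Localization.AtPrime p ⊗[A] M) = dM →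
      ∃ e : ℕ, ringKrullDim (A ⧸ p) = e ∧ tdeg ω hω p = -(e : ℤ) ∧ e + dM = δ)
    (k : ℕ) :
    LocCoh.HasSk k A M ↔
      ∀ i : ℕ, i ≠ δ →
        (i < k → Subsingleton (Dual.inD A M ⟶ ω⟦-(i : ℤ)⟧)) ∧
        (k ≤ i → Module.supportDim A (Dual.inD A M ⟶ ω⟦-(i : ℤ)⟧) ≤
          ((i - k : ℕ) : WithBot ℕ∞)) := by
  have hNp : ∀ p : Ideal A, ∀ [p.IsPrime], IsNoetherianRing (Localization.AtPrime p) :=
    fun p _ => IsLocalization.isNoetherianRing p.primeCompl _ inferInstance
  -- data at a prime of the support of some `Ext`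
  have hdata' : ∀ (p : PrimeSpectrum A) (j : ℤ), p ∈ Module.support A (Dual.inD A M ⟶ ω⟦j⟧) →
      ∃ (_ : Nontrivial (Localization.AtPrime p.asIdeal ⊗[A] M)) (e n dM : ℕ),
        ringKrullDim (A ⧸ p.asIdeal) = e ∧
        LocCoh.depth (Localization.AtPrime p.asIdeal) (Localization.AtPrime p.asIdeal ⊗[A] M) = n ∧
        Module.supportDim (Localization.AtPrime p.asIdeal)
          (Localization.AtPrime p.asIdeal ⊗[A] M) = dM ∧
        e + dM = δ ∧ j ≤ -(e : ℤ) - n ∧ -(e : ℤ) - dM ≤ j := by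
    intro p j hp
    haveI := hNp p.asIdeal
    rw [Module.mem_support_iff] at hp
    have hnt : Nontrivial (Localization.AtPrime p.asIdeal ⊗[A] M) := by
      by_contra hcon
      rw [not_nontrivial_iff_subsingleton] at hcon
      have hz : IsZero (Dual.inD (Localization.AtPrime p.asIdeal)
          (Localization.AtPrime p.asIdeal ⊗[A] M)) :=
        (DerivedCategory.singleFunctor _ 0).map_isZero (ModuleCat.isZero_of_subsingleton _)
      have : Subsingleton (LocalizedModule p.asIdeal.primeCompl (Dual.inD A M ⟶ ω⟦j⟧)) := by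
        rw [subsingleton_loc_iff ω hω p.asIdeal M j]
        exact ⟨fun f g => hz.eq_of_src f g⟩
      exact not_subsingleton _ this
    obtain ⟨n, dM, hn', hdM⟩ := exists_depth_dim (Localization.AtPrime p.asIdeal)
      (Localization.AtPrime p.asIdeal ⊗[A] M)
    obtain ⟨e, he, ht, hsum⟩ := hdata p.asIdeal dM hdM
    obtain ⟨h1, -, h3, -⟩ := gen_loc_ext ω hω p.asIdeal M n dM hn' hdM
    refine ⟨hnt, e, n, dM, he, hn', hdM, hsum, ?_, ?_⟩
    · by_contra hlt
      push Not at hlt
      exact not_subsingleton _ (h1 j (by rw [ht]; exact hlt))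
    · by_contra hlt
      push Not at hlt
      exact not_subsingleton _ (h3 j (by rw [ht]; exact hlt))
  constructor
  · intro hS i hi
    -- the key bound
    have hkey : ∀ p : PrimeSpectrum A, p ∈ Module.support A (Dual.inD A M ⟶ ω⟦-(i : ℤ)⟧) →
        ∃ e : ℕ, ringKrullDim (A ⧸ p.asIdeal) = e ∧ e + k ≤ i := by
      intro p hp
      obtain ⟨hnt, e, n, dM, he, hn', hdM, hsum, hj1, hj2⟩ := hdata' p _ hp
      refine ⟨e, he, ?_⟩
      have hlt : n < dM := by
        by_contra hge
        push Not at hge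
        apply hi
        omega
      obtain ⟨hc1, hc2⟩ := loc_congr p.asIdeal M
      have hSp := hS p.asIdeal
      rw [hc1, hc2, hn', hdM] at hSp
      have hkn : k ≤ n := by
        have h5 : min ((k : ℕ) : WithBot ℕ∞) ((dM : ℕ) : WithBot ℕ∞) ≤ ((n : ℕ) : WithBot ℕ∞) :=
          hSp
        rcases le_total k dM with h | h
        · have h8 : ((k : ℕ) : WithBot ℕ∞) ≤ ((dM : ℕ) : WithBot ℕ∞) := by exact_mod_cast h
          rw [min_eq_left h8] at h5
          exact_mod_cast h5
        · have h8 : ((dM : ℕ) : WithBot ℕ∞) ≤ ((k : ℕ) : WithBot ℕ∞) := by exact_mod_cast h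
          rw [min_eq_right h8] at h5
          have : dM ≤ n := by exact_mod_cast h5
          omega
      omega
    constructor
    · intro hneg
      by_contra hcon
      rw [not_subsingleton_iff_nontrivial] at hcon
      obtain ⟨p, hp⟩ := Module.nonempty_support_of_nontrivial (R := A)
        (M := (Dual.inD A M ⟶ ω⟦-(i : ℤ)⟧))
      obtain ⟨e, -, he⟩ := hkey p hp
      omega
    · intro hpos
      apply supportDim_le_of_coheight_le
      intro P hP
      obtain ⟨e, he, hle⟩ := hkey P hP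
      have h7 := coheight_eq_ringKrullDim_quotient P
      rw [he] at h7
      have h8 : Order.coheight P = (e : ℕ∞) := by exact_mod_cast h7
      rw [h8]
      have : e ≤ i - k := by omega
      exact_mod_cast this
  · intro hcond p hp
    haveI := hNp p
    obtain ⟨hc1, hc2⟩ := loc_congr p M
    rw [hc1, hc2]
    rcases subsingleton_or_nontrivial (Localization.AtPrime p ⊗[A] M) with hs | hnt
    · rw [Module.supportDim_eq_bot_of_subsingleton]
      simp
    · obtain ⟨n, dM, hn', hdM⟩ := exists_depth_dim (Localization.AtPrime p)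
        (Localization.AtPrime p ⊗[A] M)
      obtain ⟨e, he, ht, hsum⟩ := hdata p dM hdM
      obtain ⟨-, h2, -, -⟩ := gen_loc_ext ω hω p M n dM hn' hdM
      rw [hn', hdM]
      by_cases hlt : n < dM
      · have hjeq : tdeg ω hω p - n = -((e + n : ℕ) : ℤ) := by rw [ht]; push_cast; ring
        rw [hjeq] at h2
        have hmem : (⟨p, hp⟩ : PrimeSpectrum A) ∈
            Module.support A (Dual.inD A M ⟶ ω⟦-((e + n : ℕ) : ℤ)⟧) := Module.mem_support_iff.2 h2
        obtain ⟨hc_a, hc_b⟩ := hcond (e + n) (by omega)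
        have hnn : ¬ (e + n < k) := by
          intro hneg
          have hsub := hc_a hneg
          have : Subsingleton (LocalizedModule p.primeCompl
              (Dual.inD A M ⟶ ω⟦-((e + n : ℕ) : ℤ)⟧)) := by
            rw [LocalizedModule.subsingleton_iff]
            intro m
            exact ⟨1, Submonoid.one_mem _, by rw [hsub.elim m 0, smul_zero]⟩
          exact not_subsingleton _ this
        push Not at hnn
        have h5 := (ringKrullDim_quotient_le_supportDim' ⟨p, hp⟩ hmem).trans (hc_b hnn)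
        rw [he] at h5
        have h6 : e ≤ e + n - k := by exact_mod_cast h5
        have hkn : k ≤ n := by omega
        calc min ((k : ℕ) : WithBot ℕ∞) ((dM : ℕ) : WithBot ℕ∞) ≤ ((k : ℕ) : WithBot ℕ∞) :=
              min_le_left _ _
          _ ≤ _ := by exact_mod_cast hkn
      · push Not at hlt
        calc min ((k : ℕ) : WithBot ℕ∞) ((dM : ℕ) : WithBot ℕ∞) ≤ ((dM : ℕ) : WithBot ℕ∞) :=
              min_le_right _ _
          _ ≤ _ := by exact_mod_cast hlt


/-- supports of `H^j(ω)` and `Hom(A, ω[j])` agree -/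
theorem support_HD_eq (ω : Dual.D A) (hω : Dual.IsDualizing A ω) (j : ℤ) :
    Module.support A (Dual.HD A ω j) = Module.support A (Dual.inD A A ⟶ ω⟦j⟧) := by
  ext p
  rw [mem_support_HD_iff, Module.mem_support_iff, ← not_subsingleton_iff_nontrivial,
    subsingleton_loc_iff ω hω p.asIdeal A j, not_iff_not]
  set R := Localization.AtPrime p.asIdeal with hR
  have e : R ⊗[A] A ≃ₗ[R] R := TensorProduct.AlgebraTensorModule.rid A R R
  have e3 := Iso.homCongr (inDMapIso (A := R) e.toModuleIso)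
    (Iso.refl (((extScD A R).obj ω)⟦j⟧))
  rw [e3.subsingleton_congr]
  constructor
  · intro hz
    exact ⟨fun f g => (hom_ring_eq_zero _ j hz f).trans (hom_ring_eq_zero _ j hz g).symm⟩
  · intro h
    exact isZero_HF_of_hom_ring_eq_zero _ j (fun f => h.elim _ _)

theorem supportDim_HD_eq (ω : Dual.D A) (hω : Dual.IsDualizing A ω) (j : ℤ) :
    Module.supportDim A (Dual.HD A ω j) = Module.supportDim A (Dual.inD A A ⟶ ω⟦j⟧) := by
  unfold Module.supportDim
  rw [support_HD_eq ω hω j]

omit [IsNoetherianRing A] in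
theorem subsingleton_HD_iff (ω : Dual.D A) (j : ℤ) :
    Subsingleton (Dual.HD A ω j) ↔ Subsingleton (Dual.inD A A ⟶ ω⟦j⟧) := by
  rw [← not_iff_not, not_subsingleton_iff_nontrivial, not_subsingleton_iff_nontrivial]
  exact nontrivial_HD_iff ω j

theorem main18721 (hEq : EGA4.IsEquidim A) (n : ℕ) (hd : ringKrullDim A = n)
    (ω : Dual.D A) (hω : Dual.IsDualizing A ω)
    (hnorm : ∀ (m : Ideal A) (_ : m.IsMaximal) (i : ℤ), i ≠ 0 →
      Subsingleton (Dual.inD A (A ⧸ m) ⟶ ω⟦i⟧)) :
    (∀ i : ℕ, n < i → Subsingleton (Dual.HD A ω (-(i : ℤ)))) ∧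
    ∀ k' : ℕ, 1 ≤ k' →
      (LocCoh.HasSk k' A A ↔
        ∀ i : ℕ, i ≠ n →
          (i < k' → Subsingleton (Dual.HD A ω (-(i : ℤ)))) ∧
          (k' ≤ i → Module.supportDim A (Dual.HD A ω (-(i : ℤ))) ≤
            ((i - k' : ℕ) : WithBot ℕ∞))) := by
  have hNp : ∀ p : Ideal A, ∀ [p.IsPrime], IsNoetherianRing (Localization.AtPrime p) :=
    fun p _ => IsLocalization.isNoetherianRing p.primeCompl _ inferInstance
  have hdata : ∀ (p : Ideal A) [p.IsPrime] [Nontrivial (Localization.AtPrime p ⊗[A] A)] (dM : ℕ),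
      Module.supportDim (Localization.AtPrime p) (Localization.AtPrime p ⊗[A] A) = dM →
      ∃ e : ℕ, ringKrullDim (A ⧸ p) = e ∧ tdeg ω hω p = -(e : ℤ) ∧ e + dM = n := by
    intro p _ _ dM hdM
    obtain ⟨e, h, he, hh, ht, hsum⟩ := prime_data ω hω hEq n hd hnorm p
    refine ⟨e, he, ht, ?_⟩
    have e1 : Localization.AtPrime p ⊗[A] A ≃ₗ[Localization.AtPrime p] Localization.AtPrime p :=
      TensorProduct.AlgebraTensorModule.rid A _ _
    rw [Module.supportDim_eq_of_equiv e1, Module.supportDim_self_eq_ringKrullDim, hh] at hdM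
    have : h = dM := by exact_mod_cast hdM
    omega
  constructor
  · intro i hi
    rw [subsingleton_HD_iff]
    by_contra hcon
    rw [not_subsingleton_iff_nontrivial] at hcon
    obtain ⟨p, hp⟩ := Module.nonempty_support_of_nontrivial (R := A)
      (M := (Dual.inD A A ⟶ ω⟦-(i : ℤ)⟧))
    haveI := hNp p.asIdeal
    have e1 : Localization.AtPrime p.asIdeal ⊗[A] A ≃ₗ[Localization.AtPrime p.asIdeal]
        Localization.AtPrime p.asIdeal := TensorProduct.AlgebraTensorModule.rid A _ _
    haveI : Nontrivial (Localization.AtPrime p.asIdeal ⊗[A] A) := e1.toEquiv.nontrivial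
    obtain ⟨n', dM, hn', hdM⟩ := exists_depth_dim (Localization.AtPrime p.asIdeal)
      (Localization.AtPrime p.asIdeal ⊗[A] A)
    obtain ⟨e, he, ht, hsum⟩ := hdata p.asIdeal dM hdM
    obtain ⟨-, -, h3, -⟩ := gen_loc_ext ω hω p.asIdeal A n' dM hn' hdM
    rw [Module.mem_support_iff] at hp
    exact not_subsingleton _ (h3 (-(i : ℤ)) (by rw [ht]; omega))
  · intro k' _
    rw [main17_gen ω hω A n hdata k']
    refine forall_congr' (fun i => ?_)
    rw [subsingleton_HD_iff, supportDim_HD_eq ω hω]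

end Groth.Agent.Lib.Helper14.DualSkGlobal
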