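import Mathlib
import Groth.Agent.Lib.Helper14.DualSkGlobal
import Groth.Agent.Lib.Helper49.DepthLoc
import Groth.Agent.Lib.Helper49.SkAt
import Groth.Agent.Lib.Helper15.ZSk

/-!
# Dualizing complexes concentrated in degree 0 off a closed subset (helper14)
-/

set_option autoImplicit false
universe u
open CategoryTheory
attribute [local instance] HasDerivedCategory.standard

namespace Groth.Agent.Lib.Helper14.DualOrdinary
open CategoryTheory CategoryTheory.Limits
open Groth.Agent.Lib.Helper12 Groth.Agent.Lib.Helper12.FlatHomBC DRing Pretriangulated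
open Groth.Agent.Lib.Helper12.Bass Groth.Agent.Lib.Helper36.InjAmp
open Groth.Agent.Lib.Helper12.DualDim Groth.Agent.Lib.Helper12.Shriek
open IsLocalRing Groth.Agent.Lib.Helper29 Groth.Agent.Lib.Helper29.DepthLib Pointwise TensorProduct
open Groth.Agent.S0370.D370 Groth.Agent.Lib.Helper14.DualCM Groth.Agent.Lib.Helper14.DualDepth
open Groth.Agent.Lib.Helper14.DualDelta Groth.Agent.Lib.Helper14.DualCoheight
open Groth.Agent.Lib.Helper14.DualLower Groth.Agent.Lib.Helper14.DualExtRange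
open Groth.Agent.Lib.Helper14.DualLoc Groth.Agent.Lib.Helper14.DualPointwise
open Groth.Agent.Lib.Helper14.DualCanon Groth.Agent.Lib.Helper14.DualSk
set_option linter.style.haveILetI false

variable {A : Type u} [CommRing A] [IsNoetherianRing A] [IsLocalRing A]

/-- in a local ring, `Ext^j(k, ω) = 0` for `j ≠ tdeg m` -/
theorem subsingleton_residue_of_ne (ω : Dual.D A) (hω : Dual.IsDualizing A ω) (j : ℤ)
    (hj : j ≠ tdeg ω hω (maximalIdeal A)) :
    Subsingleton (Dual.inD A (A ⧸ maximalIdeal A) ⟶ ω⟦j⟧) := by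
  have h1 := (subsingleton_loc_residue_iff ω hω (maximalIdeal A) j).2 hj
  rw [LocalizedModule.subsingleton_iff] at h1
  refine ⟨fun f g => ?_⟩
  have h0 : ∀ f : Dual.inD A (A ⧸ maximalIdeal A) ⟶ ω⟦j⟧, f = 0 := by
    intro f
    obtain ⟨r, hr, hrf⟩ := h1 f
    have hu : IsUnit r := by
      by_contra hnu
      exact hr ((IsLocalRing.mem_maximalIdeal r).2 hnu)
    obtain ⟨u, rfl⟩ := hu
    have := congrArg (fun x => (↑u⁻¹ : A) • x) hrf
    simpa [smul_smul] using this
  rw [h0 f, h0 g]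

theorem main18720 (ω : Dual.D A) (hω : Dual.IsDualizing A ω) (n : ℕ) (hd : ringKrullDim A = n)
    (J : Ideal A) (hJ : 1 ≤ J.height)
    (hoff : ∀ p : PrimeSpectrum A, ¬ J ≤ p.asIdeal → ∀ i : ℤ, i ≠ 0 →
      p ∉ Module.support A (Dual.HD A ω i)) :
    (EGA4.IsEquidim A ∧ Dual.IsNormalized A (ω⟦(n : ℤ)⟧) ∧ LocCoh.HasSk 2 A (Dual.HD A ω 0)) ∧
    (2 ≤ J.height → 2 ≤ LocCoh.idealDepth J (Dual.HD A ω 0)) := by
  set t := tdeg ω hω (maximalIdeal A) with ht
  -- minimal primes have residue degree `0`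
  have hmin0 : ∀ q : Ideal A, ∀ hq : q ∈ minimalPrimes A,
      haveI := hq.1.1
      tdeg ω hω q = 0 := by
    intro q hq
    haveI := hq.1.1
    have hJq : ¬ J ≤ q := by
      intro hle
      have h1 := Ideal.height_mono hle
      rw [Ideal.height_eq_zero_iff.2 hq] at h1
      have : (1 : ℕ∞) ≤ 0 := hJ.trans h1
      simp at this
    by_contra hne
    have h2 := hoff ⟨q, hq.1.1⟩ hJq (tdeg ω hω q) hne
    rw [mem_support_HD_iff, not_not] at h2
    exact (isZero_HF_loc_iff ω hω q hq _).1 h2 rfl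
  -- coheights of minimal primes
  have hcoh : ∀ q : PrimeSpectrum A, q.asIdeal ∈ minimalPrimes A →
      ∀ e : ℕ, Order.coheight q = e → t = e := by
    intro q hq e he
    have h1 := tdeg_eq_sub_coheight ω hω e q he
    have h2 := hmin0 q.asIdeal hq
    rw [h2] at h1
    omega
  -- a minimal prime of coheight `n`
  have hsd : Module.supportDim A A = n := by
    rw [Module.supportDim_self_eq_ringKrullDim, hd]
  obtain ⟨p, -, hp⟩ := exists_prime_dim A n hsd
  obtain ⟨q, hq, hqp⟩ := Ideal.exists_minimalPrimes_le (show (⊥ : Ideal A) ≤ p.asIdeal from bot_le)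
  have hq' : q.IsPrime := hq.1.1
  have hqn : Order.coheight (⟨q, hq'⟩ : PrimeSpectrum A) = (n : ℕ∞) := by
    apply le_antisymm
    · have h1 : ((Order.coheight (⟨q, hq'⟩ : PrimeSpectrum A) : ℕ∞) : WithBot ℕ∞) ≤
          (n : WithBot ℕ∞) := by
        rw [← hd]
        exact Order.coheight_le_krullDim _
      exact_mod_cast h1
    · have h1 := coheight_eq_ringKrullDim_quotient p
      rw [hp] at h1
      have h2 : Order.coheight p = (n : ℕ∞) := by exact_mod_cast h1
      rw [← h2]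
      exact Order.coheight_anti (show (⟨q, hq'⟩ : PrimeSpectrum A) ≤ p from hqp)
  have htn : t = n := hcoh ⟨q, hq'⟩ hq n hqn
  -- every minimal prime has coheight `n`
  have hall : ∀ q : Ideal A, q ∈ minimalPrimes A → ringKrullDim (A ⧸ q) = n := by
    intro q hq
    haveI := hq.1.1
    obtain ⟨e, he⟩ := exists_nat_dim q
    have h1 := coheight_eq_ringKrullDim_quotient (⟨q, hq.1.1⟩ : PrimeSpectrum A)
    rw [he] at h1
    have h2 : Order.coheight (⟨q, hq.1.1⟩ : PrimeSpectrum A) = (e : ℕ∞) := by exact_mod_cast h1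
    have h3 := hcoh ⟨q, hq.1.1⟩ hq e h2
    have : e = n := by omega
    rw [he, this]
  have hEq : EGA4.IsEquidim A := by
    intro q hq
    rw [hall q hq, hd]
  have hω' : Dual.IsDualizing A (ω⟦(n : ℤ)⟧) := isDualizing_shift ω hω _
  have hn' : Dual.IsNormalized A (ω⟦(n : ℤ)⟧) := by
    intro i hi
    rw [subsingleton_shift_shift_iff _ ω (n : ℤ) i ((n : ℤ) + i) rfl]
    exact subsingleton_residue_of_ne ω hω _ (by rw [← ht, htn]; omega)
  obtain ⟨hsupp, hS2⟩ := main369 (ω⟦(n : ℤ)⟧) hω' hn' n hd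
  have eK : Dual.HD A (ω⟦(n : ℤ)⟧) (-(n : ℤ)) ≃ₗ[A] Dual.HD A ω 0 :=
    ((HFShiftIso (A := A) (n : ℤ) (-(n : ℤ)) 0 (by omega)).app ω).toLinearEquiv
  have hS2' : LocCoh.HasSk 2 A (Dual.HD A ω 0) :=
    (Groth.Agent.Lib.Helper49.SkAt.hasSk_congr 2 eK).1 hS2
  refine ⟨⟨hEq, hn', hS2'⟩, fun hJ2 => ?_⟩
  have hsupp' : Module.support A (Dual.HD A ω 0) = Set.univ := by
    rw [← eK.support_eq, hsupp]
    ext x
    simp only [Set.mem_ofPred_eq, Set.mem_univ, iff_true]
    obtain ⟨q, hq, hqx⟩ := Ideal.exists_minimalPrimes_le (show (⊥ : Ideal A) ≤ x.asIdeal from bot_le)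
    exact ⟨q, hq, hqx, hall q hq⟩
  have hfin : Module.Finite A (Dual.HD A ω 0) := hω.finite_cohomology 0
  have := Groth.Agent.Lib.Helper49.Serre.le_idealDepth_of_hasSk 2 (Dual.HD A ω 0) J hS2' ?_
  · exact_mod_cast this
  · intro x hJx _
    rw [Groth.Agent.Lib.Helper15.ZClosed.supportDim_localizedModule_eq_height _ hsupp' x.asIdeal]
    have h1 : ((2 : ℕ) : ℕ∞) ≤ x.asIdeal.height := hJ2.trans (Ideal.height_mono hJx)
    have h2 : (((2 : ℕ) : ℕ∞) : WithBot ℕ∞) ≤ ((x.asIdeal.height : ℕ∞) : WithBot ℕ∞) :=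
      WithBot.coe_le_coe.2 h1
    exact h2

end Groth.Agent.Lib.Helper14.DualOrdinary
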