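import Mathlib
import Groth.Agent.Lib.Helper14.DualSk

/-!
# Finiteness of the set of primes where `(S_k)` is sharp but the module is not CM (helper14)
-/

set_option autoImplicit false
universe u
open CategoryTheory
attribute [local instance] HasDerivedCategory.standard

namespace Groth.Agent.Lib.Helper14.DualSkFinite
open CategoryTheory CategoryTheory.Limits
open Groth.Agent.Lib.Helper12 Groth.Agent.Lib.Helper12.FlatHomBC DRing Pretriangulated
open Groth.Agent.Lib.Helper12.Bass Groth.Agent.Lib.Helper36.InjAmp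
open Groth.Agent.Lib.Helper12.DualDim Groth.Agent.Lib.Helper12.Shriek
open IsLocalRing Groth.Agent.Lib.Helper29 Groth.Agent.Lib.Helper29.DepthLib Pointwise TensorProduct
open Groth.Agent.S0370.D370 Groth.Agent.Lib.Helper14.DualCM Groth.Agent.Lib.Helper14.DualDepth
open Groth.Agent.Lib.Helper14.DualDelta Groth.Agent.Lib.Helper14.DualCoheight
open Groth.Agent.Lib.Helper14.DualLower Groth.Agent.Lib.Helper14.DualExtRange
open Groth.Agent.Lib.Helper14.DualLoc Groth.Agent.Lib.Helper14.DualPointwise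
open Groth.Agent.Lib.Helper14.DualCanon Groth.Agent.Lib.Helper14.DualSk
set_option linter.style.haveILetI false

variable {A : Type u} [CommRing A] [IsNoetherianRing A]

/-- between two primes there is one covered by the larger -/
theorem exists_covBy_of_lt (q p : PrimeSpectrum A) (h : q < p) :
    ∃ c : PrimeSpectrum A, q ≤ c ∧ c ⋖ p := by
  let S : Set (Ideal A) := {I | I.IsPrime ∧ q.asIdeal ≤ I ∧ I < p.asIdeal}
  have hne : S.Nonempty := ⟨q.asIdeal, q.2, le_rfl, h⟩
  obtain ⟨m, ⟨hm1, hm2, hm3⟩, hmax⟩ := (wellFounded_gt (α := Ideal A)).has_min S hne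
  refine ⟨⟨m, hm1⟩, hm2, hm3, fun c hmc hcp => ?_⟩
  exact hmax c.asIdeal ⟨c.2, hm2.trans hmc.le, hcp⟩ hmc

/-- the residue degree is strictly monotone -/
theorem tdeg_lt_of_lt (ω : Dual.D A) (hω : Dual.IsDualizing A ω) :
    ∀ (n : ℕ) (p : PrimeSpectrum A), Order.height p ≤ (n : ℕ∞) → ∀ q : PrimeSpectrum A, q < p →
      tdeg ω hω q.asIdeal < tdeg ω hω p.asIdeal := by
  intro n
  induction n with
  | zero =>
    intro p hp q hq
    have h0 : Order.height p = 0 := by simpa using hp
    have hmin : IsMin p := Order.height_eq_zero.1 h0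
    exact absurd (hmin hq.le) (not_le_of_gt hq)
  | succ n ih =>
    intro p hp q hq
    obtain ⟨c, hqc, hcp⟩ := exists_covBy_of_lt q p hq
    have h1 := tdeg_covBy' ω hω c p hcp
    have h2 : Order.height c ≤ (n : ℕ∞) := by
      have h3 := Order.height_add_one_le hcp.lt
      have h4 : Order.height c + 1 ≤ (n : ℕ∞) + 1 := h3.trans (by exact_mod_cast hp)
      exact (ENat.add_le_add_iff_right ENat.one_ne_top).mp h4
    rcases eq_or_lt_of_le hqc with heq | hlt
    · subst heq
      omega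
    · have := ih c h2 q hlt
      omega

theorem tdeg_lt (ω : Dual.D A) (hω : Dual.IsDualizing A ω) (q p : PrimeSpectrum A) (h : q < p) :
    tdeg ω hω q.asIdeal < tdeg ω hω p.asIdeal := by
  have hfin : Order.height p ≠ ⊤ := by
    rw [← PrimeSpectrum.height_eq_orderHeight]
    exact Ideal.height_ne_top_of_isPrime
  obtain ⟨n, hn⟩ := ENat.ne_top_iff_exists.1 hfin
  exact tdeg_lt_of_lt ω hω n p hn.symm.le q h

/-- data at a prime of the support of some `Ext` -/
theorem supp_ext_data (ω : Dual.D A) (hω : Dual.IsDualizing A ω) (M : Type u) [AddCommGroup M]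
    [Module A M] [Module.Finite A M] (p : PrimeSpectrum A) (j : ℤ)
    (hp : p ∈ Module.support A (Dual.inD A M ⟶ ω⟦j⟧)) :
    ∃ (_ : Nontrivial (Localization.AtPrime p.asIdeal ⊗[A] M)) (n dM : ℕ),
      LocCoh.depth (Localization.AtPrime p.asIdeal) (Localization.AtPrime p.asIdeal ⊗[A] M) = n ∧
      Module.supportDim (Localization.AtPrime p.asIdeal)
        (Localization.AtPrime p.asIdeal ⊗[A] M) = dM ∧
      j ≤ tdeg ω hω p.asIdeal - n ∧ tdeg ω hω p.asIdeal - dM ≤ j := by
  have hN : IsNoetherianRing (Localization.AtPrime p.asIdeal) :=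
    IsLocalization.isNoetherianRing p.asIdeal.primeCompl _ inferInstance
  rw [Module.mem_support_iff] at hp
  have hnt : Nontrivial (Localization.AtPrime p.asIdeal ⊗[A] M) := by
    by_contra hcon
    rw [not_nontrivial_iff_subsingleton] at hcon
    have hz : IsZero (Dual.inD (Localization.AtPrime p.asIdeal)
        (Localization.AtPrime p.asIdeal ⊗[A] M)) :=
      (DerivedCategory.singleFunctor _ 0).map_isZero (ModuleCat.isZero_of_subsingleton _)
    have : Subsingleton (LocalizedModule p.asIdeal.primeCompl (Dual.inD A M ⟶ ω⟦j⟧)) := by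
      rw [subsingleton_loc_iff ω hω p.asIdeal M j]
      exact ⟨fun f g => hz.eq_of_src f g⟩
    exact not_subsingleton _ this
  obtain ⟨n, dM, hn', hdM⟩ := exists_depth_dim (Localization.AtPrime p.asIdeal)
    (Localization.AtPrime p.asIdeal ⊗[A] M)
  obtain ⟨h1, -, h3, -⟩ := gen_loc_ext ω hω p.asIdeal M n dM hn' hdM
  refine ⟨hnt, n, dM, hn', hdM, ?_, ?_⟩
  · by_contra hlt
    push Not at hlt
    exact not_subsingleton _ (h1 j hlt)
  · by_contra hlt
    push Not at hlt
    exact not_subsingleton _ (h3 j hlt)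

theorem finite_ext (ω : Dual.D A) (hω : Dual.IsDualizing A ω) (M : Type u) [AddCommGroup M]
    [Module A M] [Module.Finite A M] (i : ℤ) : Module.Finite A (Dual.inD A M ⟶ ω⟦i⟧) := by
  obtain ⟨a₀, b₀, hab⟩ := hω.finite_injective_dimension
  have hz := DualizingBC.isZero_HF_of_finite_injective_dimension ω a₀ b₀ hab
  have hlow : ∀ j : ℤ, j < a₀ → IsZero ((HF A j).obj ω) := fun j hj => hz j (Or.inl hj)
  exact HomFinite.finite_hom _ (ω⟦i⟧) (DualizingBC.isPseudoCoherent'_inD M) (a₀ - i)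
    (fun j hj => isZero_HF_shift ω _ j (hlow _ (by omega)))
    (fun j => HomFinite.finite_HF_shift ω _ j (hω.finite_cohomology _))

theorem main1715 (ω : Dual.D A) (hω : Dual.IsDualizing A ω) (M : Type u) [AddCommGroup M]
    [Module A M] [Module.Finite A M] (k : ℕ) (hM : LocCoh.HasSk k A M) :
    Set.Finite {p : PrimeSpectrum A |
      LocCoh.depth (Localization.AtPrime p.asIdeal) (LocalizedModule p.asIdeal.primeCompl M) = k ∧
      (k : WithBot ℕ∞) < Module.supportDim (Localization.AtPrime p.asIdeal)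
        (LocalizedModule p.asIdeal.primeCompl M)} := by
  have hNp : ∀ p : Ideal A, ∀ [p.IsPrime], IsNoetherianRing (Localization.AtPrime p) :=
    fun p _ => IsLocalization.isNoetherianRing p.primeCompl _ inferInstance
  obtain ⟨a₀, b₀, hab⟩ := hω.finite_injective_dimension
  let I : ℤ → ℤ → Ideal A := fun j i =>
    Module.annihilator A (Dual.inD A M ⟶ ω⟦i⟧) ⊔ Module.annihilator A (Dual.inD A M ⟶ ω⟦j⟧)
  let T : Set (PrimeSpectrum A) := ⋃ i ∈ Finset.Icc a₀ b₀, ⋃ j ∈ Finset.Icc a₀ b₀,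
    {x : PrimeSpectrum A | x.asIdeal ∈ (I j i).minimalPrimes}
  have hT : T.Finite := by
    refine Set.Finite.biUnion (Finset.finite_toSet _) (fun i _ => ?_)
    refine Set.Finite.biUnion (Finset.finite_toSet _) (fun j _ => ?_)
    refine Set.Finite.preimage ?_ ((I j i).finite_minimalPrimes_of_isNoetherianRing A)
    intro x _ y _ hxy
    exact PrimeSpectrum.ext hxy
  refine hT.subset ?_
  rintro p ⟨hdep, hdim⟩
  haveI := hNp p.asIdeal
  obtain ⟨hc1, hc2⟩ := loc_congr p.asIdeal M
  rw [hc1] at hdep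
  rw [hc2] at hdim
  have hnt : Nontrivial (Localization.AtPrime p.asIdeal ⊗[A] M) := by
    by_contra hcon
    rw [not_nontrivial_iff_subsingleton] at hcon
    rw [Groth.Agent.Lib.Helper29.DepthLoc.depth_eq_top_of_subsingleton] at hdep
    exact ENat.top_ne_natCast k hdep
  obtain ⟨n, dM, hn', hdM⟩ := exists_depth_dim (Localization.AtPrime p.asIdeal)
    (Localization.AtPrime p.asIdeal ⊗[A] M)
  rw [hn'] at hdep
  rw [hdM] at hdim
  have hnk : n = k := by exact_mod_cast hdep
  have hkd : k < dM := by exact_mod_cast hdim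
  subst hnk
  obtain ⟨-, h2, -, h4⟩ := gen_loc_ext ω hω p.asIdeal M n dM hn' hdM
  set t := tdeg ω hω p.asIdeal with ht
  have hmem_i : p ∈ Module.support A (Dual.inD A M ⟶ ω⟦t - n⟧) := Module.mem_support_iff.2 h2
  have hmem_j : p ∈ Module.support A (Dual.inD A M ⟶ ω⟦t - dM⟧) := Module.mem_support_iff.2 h4
  have hrange : ∀ i : ℤ, p ∈ Module.support A (Dual.inD A M ⟶ ω⟦i⟧) → i ∈ Finset.Icc a₀ b₀ := by
    intro i hi
    rw [Finset.mem_Icc]
    by_contra hcon
    have hsub : Subsingleton (Dual.inD A M ⟶ ω⟦i⟧) := hab M i (by omega)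
    rw [Module.mem_support_iff] at hi
    have : Subsingleton (LocalizedModule p.asIdeal.primeCompl (Dual.inD A M ⟶ ω⟦i⟧)) := by
      rw [LocalizedModule.subsingleton_iff]
      intro m
      exact ⟨1, Submonoid.one_mem _, by rw [hsub.elim m 0, smul_zero]⟩
    exact not_subsingleton _ this
  haveI := finite_ext ω hω M
  simp only [T, Set.mem_iUnion]
  refine ⟨t - n, hrange _ hmem_i, t - dM, hrange _ hmem_j, ?_⟩
  show p.asIdeal ∈ (I (t - dM) (t - n)).minimalPrimes
  refine ⟨⟨p.2, sup_le (Module.mem_support_iff_of_finite.1 hmem_i)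
    (Module.mem_support_iff_of_finite.1 hmem_j)⟩, ?_⟩
  rintro q ⟨hq, hIq⟩ hqp
  by_contra hnle
  have hlt : (⟨q, hq⟩ : PrimeSpectrum A) < p := lt_of_le_of_ne hqp (fun h => hnle (h ▸ le_rfl))
  have hqi : (⟨q, hq⟩ : PrimeSpectrum A) ∈ Module.support A (Dual.inD A M ⟶ ω⟦t - n⟧) :=
    Module.mem_support_iff_of_finite.2 (le_sup_left.trans hIq)
  have hqj : (⟨q, hq⟩ : PrimeSpectrum A) ∈ Module.support A (Dual.inD A M ⟶ ω⟦t - dM⟧) :=
    Module.mem_support_iff_of_finite.2 (le_sup_right.trans hIq)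
  obtain ⟨hntq, nq, dq, hnq, hdq, hi1, -⟩ := supp_ext_data ω hω M ⟨q, hq⟩ _ hqi
  obtain ⟨-, nq', dq', hnq', hdq', -, hj2⟩ := supp_ext_data ω hω M ⟨q, hq⟩ _ hqj
  have e1 : nq' = nq := by
    have := hnq'.symm.trans hnq
    exact_mod_cast this
  have e2 : dq' = dq := by
    have := hdq'.symm.trans hdq
    exact_mod_cast this
  subst e1 e2
  have htq := tdeg_lt ω hω ⟨q, hq⟩ p hlt
  have hlt' : nq' < dq' := by omega
  haveI := hNp q
  obtain ⟨hc1q, hc2q⟩ := loc_congr q M
  have hSq := hM q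
  rw [hc1q, hc2q, hnq, hdq] at hSq
  have hkn : n ≤ nq' := by
    have h5 : min ((n : ℕ) : WithBot ℕ∞) ((dq' : ℕ) : WithBot ℕ∞) ≤ ((nq' : ℕ) : WithBot ℕ∞) :=
      hSq
    rcases le_total n dq' with h | h
    · have h8 : ((n : ℕ) : WithBot ℕ∞) ≤ ((dq' : ℕ) : WithBot ℕ∞) := by exact_mod_cast h
      rw [min_eq_left h8] at h5
      exact_mod_cast h5
    · have h8 : ((dq' : ℕ) : WithBot ℕ∞) ≤ ((n : ℕ) : WithBot ℕ∞) := by exact_mod_cast h
      rw [min_eq_right h8] at h5
      have : dq' ≤ nq' := by exact_mod_cast h5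
      omega
  simp only at htq hi1
  omega

end Groth.Agent.Lib.Helper14.DualSkFinite
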