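import Mathlib

/-!
# Finite length from support in maximal ideals

`isFiniteLength_of_support`: a finite module over a Noetherian ring whose support consists of maximal
ideals has finite length.
`isFiniteLength_of_associatedPrimes`: same with associated primes.
-/

set_option autoImplicit false
universe u v

namespace Groth.Agent.Lib.Helper14.FinLenSupp

variable {A : Type u} [CommRing A] [IsNoetherianRing A]

theorem isFiniteLength_of_support (M : Type v) [AddCommGroup M] [Module A M] [Module.Finite A M]
    (h : ∀ p ∈ Module.support A M, p.asIdeal.IsMaximal) : IsFiniteLength A M := by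
  refine IsNoetherianRing.induction_on_isQuotientEquivQuotientPrime A (M := M) inferInstance
    (motive := fun N _ _ _ => (∀ p ∈ Module.support A N, p.asIdeal.IsMaximal) →
      IsFiniteLength A N) ?_ ?_ ?_ h
  · intro N _ _ _ _ _
    exact IsFiniteLength.of_subsingleton
  · intro N _ _ _ p e hN
    have hp : p ∈ Module.support A N := by
      rw [e.support_eq, Module.mem_support_iff_of_finite, Ideal.annihilator_quotient]
    have hmax : p.asIdeal.IsMaximal := hN p hp
    have : IsSimpleModule A N := isSimpleModule_iff_quot_maximal.2 ⟨p.asIdeal, hmax, ⟨e⟩⟩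
    exact ((IsSemisimpleModule.finite_tfae (R := A) (M := N)).out 0 3).1 ‹Module.Finite A N›
  · intro N₁ _ _ _ N₂ _ _ _ N₃ _ _ _ f g hf hg hex ih1 ih3 hN
    have hsupp := Module.support_of_exact hex hf hg
    have h1 := ih1 (fun p hp => hN p (by rw [hsupp]; exact Or.inl hp))
    have h3 := ih3 (fun p hp => hN p (by rw [hsupp]; exact Or.inr hp))
    rw [← Module.length_ne_top_iff] at h1 h3 ⊢
    rw [Module.length_eq_add_of_exact f g hf hg hex]
    exact WithTop.add_ne_top.2 ⟨h1, h3⟩

theorem isFiniteLength_of_associatedPrimes (M : Type v) [AddCommGroup M] [Module A M]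
    [Module.Finite A M] (h : ∀ p ∈ associatedPrimes A M, p.IsMaximal) : IsFiniteLength A M := by
  apply isFiniteLength_of_support
  intro p hp
  rw [Module.mem_support_iff_of_finite] at hp
  obtain ⟨q, hq, hqp⟩ := Ideal.exists_minimalPrimes_le hp
  have hqa : q ∈ associatedPrimes A M :=
    Module.associatedPrimes.minimalPrimes_annihilator_subset_associatedPrimes A M hq
  have hqm := h q hqa
  have : q = p.asIdeal := hqm.eq_of_le p.2.ne_top hqp
  rw [← this]
  exact hqm

end Groth.Agent.Lib.Helper14.FinLenSupp
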