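import Mathlib
import Groth.Agent.Lib.Helper14.DualOrdinary
import Groth.Agent.Lib.Helper14.DualSkFinite
import Groth.Agent.Lib.Helper12.FiniteLengthDual
import Groth.Agent.Lib.Helper33.DualizingSelf
import Groth.Agent.Lib.Helper2.InjHull
import Groth.Agent.Lib.Helper14.FinLenSupp
import Groth.Agent.S0341
import Groth.Agent.Lib.Helper87.SamuelFn
import Groth.Agent.Lib.Helper2.GorHull

/-!
# Gorenstein locus of a ring with a dualizing complex (helper14)

* `Cyc`: cyclic modules; `cyc_iff_of_surj` (Nakayama lifting of cyclicity).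
* `conn`: connecting map `Ext^i(C, K) → Ext^{i+1}(C/xC, K)` for `x` regular on `C`, surjective with
  kernel `x Ext^i(C, K)` when `Ext^{i+1}(C, K) = 0`.
* `key`: for two normalized dualizing complexes and a CM module `C` of dimension `n`, the top Ext
  modules are simultaneously cyclic (induction on `n`, base case helper12 `finiteLength_duality`).
* `gor_single`: over a Gorenstein local ring a dualizing complex has a single cohomology module, free
  of rank one.  `gor_of_single`: the converse.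
* `isOpen_rankOne`, `main0373`: openness of the Gorenstein locus.
-/

set_option autoImplicit false
universe u
open CategoryTheory
attribute [local instance] HasDerivedCategory.standard

namespace Groth.Agent.Lib.Helper14.DualGor
open CategoryTheory CategoryTheory.Limits
open Groth.Agent.Lib.Helper12 Groth.Agent.Lib.Helper12.FlatHomBC DRing Pretriangulated
open Groth.Agent.Lib.Helper12.Bass Groth.Agent.Lib.Helper36.InjAmp
open Groth.Agent.Lib.Helper12.DualDim Groth.Agent.Lib.Helper12.Shriek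
open IsLocalRing Groth.Agent.Lib.Helper29 Groth.Agent.Lib.Helper29.DepthLib Pointwise TensorProduct
open Groth.Agent.S0370.D370 Groth.Agent.Lib.Helper14.DualCM Groth.Agent.Lib.Helper14.DualDepth
open Groth.Agent.Lib.Helper14.DualDelta Groth.Agent.Lib.Helper14.DualCoheight
open Groth.Agent.Lib.Helper14.DualLower Groth.Agent.Lib.Helper14.DualExtRange
open Groth.Agent.Lib.Helper14.DualLoc Groth.Agent.Lib.Helper14.DualPointwise
open Groth.Agent.Lib.Helper14.DualCanon Groth.Agent.Lib.Helper14.DualSk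
set_option linter.style.haveILetI false

/-- cyclic module -/
def Cyc (R : Type*) [Semiring R] (M : Type*) [AddCommMonoid M] [Module R M] : Prop :=
  ∃ t : M, ∀ f : M, ∃ b : R, f = b • t

theorem Cyc.of_surjective {R : Type*} [Semiring R] {M N : Type*} [AddCommMonoid M] [Module R M]
    [AddCommMonoid N] [Module R N] (φ : M →ₗ[R] N) (hφ : Function.Surjective φ) (h : Cyc R M) :
    Cyc R N := by
  obtain ⟨t, ht⟩ := h
  refine ⟨φ t, fun g => ?_⟩
  obtain ⟨f, rfl⟩ := hφ g
  obtain ⟨b, rfl⟩ := ht f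
  exact ⟨b, map_smul φ b t⟩

theorem cyc_congr {R : Type*} [Semiring R] {M N : Type*} [AddCommMonoid M] [Module R M]
    [AddCommMonoid N] [Module R N] (e : M ≃ₗ[R] N) : Cyc R M ↔ Cyc R N :=
  ⟨Cyc.of_surjective e.toLinearMap e.surjective, Cyc.of_surjective e.symm.toLinearMap e.symm.surjective⟩

section Local
variable {B : Type u} [CommRing B] [IsLocalRing B]

theorem cyc_iff_of_surj {N N' : Type*} [AddCommGroup N] [Module B N] [Module.Finite B N]
    [AddCommGroup N'] [Module B N'] (φ : N →ₗ[B] N') (hφ : Function.Surjective φ) (x : B)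
    (hx : x ∈ maximalIdeal B) (hk : ∀ f : N, φ f = 0 → ∃ f' : N, f = x • f') :
    Cyc B N ↔ Cyc B N' := by
  refine ⟨Cyc.of_surjective φ hφ, ?_⟩
  rintro ⟨t', ht'⟩
  obtain ⟨t, rfl⟩ := hφ t'
  have hxJ : Ideal.span {x} ≤ (⊥ : Ideal B).jacobson := by
    rw [IsLocalRing.jacobson_eq_maximalIdeal ⊥ bot_ne_top]
    exact (Ideal.span_singleton_le_iff_mem _).mpr hx
  have hle : (⊤ : Submodule B N) ≤ Submodule.span B {t} :=
    Submodule.le_of_le_smul_of_le_jacobson_bot (Module.Finite.fg_top) hxJ (by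
      intro f _
      obtain ⟨b, hb⟩ := ht' (φ f)
      have h0 : φ (f - b • t) = 0 := by rw [map_sub, map_smul, hb, sub_self]
      obtain ⟨f', hf'⟩ := hk _ h0
      have : f = b • t + x • f' := by rw [← hf']; abel
      rw [this]
      exact Submodule.add_mem_sup (Submodule.smul_mem _ _ (Submodule.mem_span_singleton_self t))
        (Submodule.smul_mem_smul (Ideal.mem_span_singleton_self x) trivial))
  refine ⟨t, fun f => ?_⟩
  have := hle (Submodule.mem_top (x := f))
  rw [Submodule.mem_span_singleton] at this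
  obtain ⟨b, hb⟩ := this
  exact ⟨b, hb.symm⟩

end Local

section Conn
variable {A : Type u} [CommRing A]

theorem single_lsmul (C : Type u) [AddCommGroup C] [Module A C] (x : A) :
    (DerivedCategory.singleFunctor (ModuleCat.{u} A) 0).map
      (ModuleCat.ofHom (LinearMap.lsmul A C x)) = x • 𝟙 (Dual.inD A C) := by
  have h1 : ModuleCat.ofHom (LinearMap.lsmul A C x) = x • 𝟙 (ModuleCat.of A C) := by
    refine ModuleCat.hom_ext (LinearMap.ext fun y => ?_)
    rfl
  rw [h1, Functor.map_smul, CategoryTheory.Functor.map_id]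

theorem conn (K : Dual.D A) (C : Type u) [AddCommGroup C] [Module A C] (x : A)
    (hreg : IsSMulRegular C x) (i i' : ℤ) (hi : i + 1 = i')
    (h0 : Subsingleton (Dual.inD A C ⟶ K⟦i'⟧)) :
    ∃ φ : (Dual.inD A C ⟶ K⟦i⟧) →ₗ[A] (Dual.inD A (QuotSMulTop x C) ⟶ K⟦i'⟧),
      Function.Surjective φ ∧ ∀ f, φ f = 0 → ∃ f', f = x • f' := by
  subst hi
  have hex : Function.Exact (LinearMap.lsmul A C x) (x • (⊤ : Submodule A C)).mkQ := by
    rw [LinearMap.exact_iff, Submodule.ker_mkQ]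
    ext y
    rw [Submodule.mem_smul_pointwise_iff_exists, LinearMap.mem_range]
    constructor
    · rintro ⟨z, -, rfl⟩
      exact ⟨z, rfl⟩
    · rintro ⟨z, rfl⟩
      exact ⟨z, trivial, rfl⟩
  obtain ⟨δ, hT⟩ := exists_triangle (LinearMap.lsmul A C x) (x • (⊤ : Submodule A C)).mkQ hreg
    (Submodule.mkQ_surjective _) hex
  have hT1 := rot_of_distTriang _ hT
  have hT2 := rot_of_distTriang _ hT1
  let ι := (shiftFunctorAdd' (Dual.D A) i 1 (i + 1) rfl).app K
  let φ : (Dual.inD A C ⟶ K⟦i⟧) →ₗ[A] (Dual.inD A (QuotSMulTop x C) ⟶ K⟦i + 1⟧) :=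
    { toFun := fun f => δ ≫ (shiftFunctor (Dual.D A) (1 : ℤ)).map f ≫ ι.inv
      map_add' := fun f g => by
        rw [Functor.map_add, Preadditive.add_comp, Preadditive.comp_add]
      map_smul' := fun b f => by
        rw [Functor.map_smul, Linear.smul_comp, Linear.comp_smul]
        rfl }
  refine ⟨φ, ?_, ?_⟩
  · intro g
    obtain ⟨z, hz⟩ : ∃ z : (Dual.inD A C)⟦(1 : ℤ)⟧ ⟶ K⟦i + 1⟧, g = δ ≫ z :=
      Triangle.yoneda_exact₂ _ hT1 g (h0.elim _ _)
    refine ⟨(shiftFunctor (Dual.D A) (1 : ℤ)).preimage (z ≫ ι.hom), ?_⟩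
    change δ ≫ (shiftFunctor (Dual.D A) (1 : ℤ)).map _ ≫ ι.inv = g
    rw [Functor.map_preimage]
    have h3 : (z ≫ ι.hom) ≫ ι.inv = z := by
      rw [Category.assoc, Iso.hom_inv_id, Category.comp_id]
    rw [h3]
    exact hz.symm
  · intro f hf
    change δ ≫ (shiftFunctor (Dual.D A) (1 : ℤ)).map f ≫ ι.inv = 0 at hf
    obtain ⟨z', hz'⟩ : ∃ z' : (Dual.inD A C)⟦(1 : ℤ)⟧ ⟶ K⟦i + 1⟧,
        (shiftFunctor (Dual.D A) (1 : ℤ)).map f ≫ ι.inv =
          (-(shiftFunctor (Dual.D A) (1 : ℤ)).map ((DerivedCategory.singleFunctor (ModuleCat.{u} A) 0).map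
            (ModuleCat.ofHom (LinearMap.lsmul A C x)))) ≫ z' :=
      Triangle.yoneda_exact₂ _ hT2
        ((shiftFunctor (Dual.D A) (1 : ℤ)).map f ≫ ι.inv) hf
    refine ⟨-((shiftFunctor (Dual.D A) (1 : ℤ)).preimage (z' ≫ ι.hom)), ?_⟩
    apply (shiftFunctor (Dual.D A) (1 : ℤ)).map_injective
    rw [Functor.map_smul, Functor.map_neg, Functor.map_preimage]
    have h2 : (shiftFunctor (Dual.D A) (1 : ℤ)).map f = ((shiftFunctor (Dual.D A) (1 : ℤ)).map f ≫ ι.inv) ≫ ι.hom := by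
      rw [Category.assoc, Iso.inv_hom_id, Category.comp_id]
    rw [h2, hz']
    rw [single_lsmul, Functor.map_smul, CategoryTheory.Functor.map_id, Preadditive.neg_comp,
      Linear.smul_comp, Category.id_comp, Preadditive.neg_comp, Linear.smul_comp, smul_neg]

end Conn

section Key
variable {B : Type u} [CommRing B] [IsLocalRing B] [IsNoetherianRing B]

theorem step (ω : Dual.D B) (hω : Dual.IsDualizing B ω) (hn : Dual.IsNormalized B ω) (n : ℕ)
    (C : Type u) [AddCommGroup C] [Module B C] [Module.Finite B C] [Nontrivial C]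
    (hV : ∀ j : ℤ, j ≠ -((n : ℤ) + 1) → Subsingleton (Dual.inD B C ⟶ ω⟦j⟧))
    (x : B) (hx : x ∈ maximalIdeal B) (hreg : IsSMulRegular C x)
    (hd' : Module.supportDim B (QuotSMulTop x C) = (n : WithBot ℕ∞)) :
    (∀ j : ℤ, j ≠ -(n : ℤ) → Subsingleton (Dual.inD B (QuotSMulTop x C) ⟶ ω⟦j⟧)) ∧
    (Cyc B (Dual.inD B C ⟶ ω⟦-((n : ℤ) + 1)⟧) ↔
      Cyc B (Dual.inD B (QuotSMulTop x C) ⟶ ω⟦-(n : ℤ)⟧)) := by
  have hex : Function.Exact (LinearMap.lsmul B C x) (x • (⊤ : Submodule B C)).mkQ := by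
    rw [LinearMap.exact_iff, Submodule.ker_mkQ]
    ext y
    rw [Submodule.mem_smul_pointwise_iff_exists, LinearMap.mem_range]
    constructor
    · rintro ⟨z, -, rfl⟩
      exact ⟨z, rfl⟩
    · rintro ⟨z, rfl⟩
      exact ⟨z, trivial, rfl⟩
  constructor
  · intro j hj
    by_cases hj' : j = -((n : ℤ) + 1)
    · subst hj'
      by_contra hcon
      rw [not_subsingleton_iff_nontrivial] at hcon
      have := ((main366 B ω hω hn (QuotSMulTop x C) n hd' _).1 hcon).1
      omega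
    · exact ext_right (LinearMap.lsmul B C x) (x • (⊤ : Submodule B C)).mkQ ω hreg
        (Submodule.mkQ_surjective _) hex j (hV _ (by omega)) (hV _ hj')
  · obtain ⟨φ, hφ, hk⟩ := conn ω C x hreg (-((n : ℤ) + 1)) (-(n : ℤ)) (by ring)
      (hV _ (by omega))
    haveI := Groth.Agent.Lib.Helper14.DualSkFinite.finite_ext ω hω C (-((n : ℤ) + 1))
    exact cyc_iff_of_surj φ hφ x hx hk

end Key

section Key2
variable {B : Type u} [CommRing B]

theorem cyc_hom_congr {X Y Y' : Dual.D B} (e : Y ≅ Y') : Cyc B (X ⟶ Y) ↔ Cyc B (X ⟶ Y') := by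
  let φ : (X ⟶ Y) ≃ₗ[B] (X ⟶ Y') :=
    { toFun := fun f => f ≫ e.hom
      invFun := fun f => f ≫ e.inv
      map_add' := fun f g => Preadditive.add_comp _ _ _ _ _ _
      map_smul' := fun b f => Linear.smul_comp _ _ _ _ _ _
      left_inv := fun f => by simp
      right_inv := fun f => by simp }
  exact cyc_congr φ

theorem cyc_of_addEquiv {M N : Type*} [AddCommGroup M] [Module B M] [AddCommGroup N] [Module B N]
    (e : M ≃+ N) (he : ∀ (b : B) (m : M), e (b • m) = b • e m) : Cyc B M ↔ Cyc B N :=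
  cyc_congr { e with map_smul' := he }

variable [IsLocalRing B] [IsNoetherianRing B]

theorem key (ω₁ ω₂ : Dual.D B) (hω₁ : Dual.IsDualizing B ω₁) (hn₁ : Dual.IsNormalized B ω₁)
    (hω₂ : Dual.IsDualizing B ω₂) (hn₂ : Dual.IsNormalized B ω₂) :
    ∀ (n : ℕ) (C : Type u) [AddCommGroup C] [Module B C] [Module.Finite B C] [Nontrivial C],
      Module.supportDim B C = (n : WithBot ℕ∞) →
      (∀ j : ℤ, j ≠ -(n : ℤ) → Subsingleton (Dual.inD B C ⟶ ω₁⟦j⟧)) →
      (∀ j : ℤ, j ≠ -(n : ℤ) → Subsingleton (Dual.inD B C ⟶ ω₂⟦j⟧)) →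
      (Cyc B (Dual.inD B C ⟶ ω₁⟦-(n : ℤ)⟧) ↔ Cyc B (Dual.inD B C ⟶ ω₂⟦-(n : ℤ)⟧)) := by
  intro n
  induction n with
  | zero =>
    intro C _ _ _ _ hd hV1 hV2
    have hfl := Groth.Agent.Lib.Helper87.SamuelFn.isFiniteLength_of_supportDim_le_zero C
      (by rw [hd]; exact le_of_eq (by simp))
    obtain ⟨k, hk⟩ := Groth.Agent.Lib.Helper12.FLDual.exists_pow_maximalIdeal_smul_eq_zero C hfl
    obtain ⟨E, _, _, f, hf⟩ := Groth.Agent.Lib.Helper2.exists_injectiveHull B (ResidueField B)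
    obtain ⟨-, ⟨e1⟩⟩ := Groth.Agent.Lib.Helper12.FLDual.finiteLength_duality ω₁ hω₁ hn₁ E f hf k C hk
    obtain ⟨-, ⟨e2⟩⟩ := Groth.Agent.Lib.Helper12.FLDual.finiteLength_duality ω₂ hω₂ hn₂ E f hf k C hk
    have z1 : ω₁⟦-((0 : ℕ) : ℤ)⟧ ≅ ω₁ := (shiftFunctorZero' (Dual.D B) (-((0 : ℕ) : ℤ)) (by simp)).app ω₁
    have z2 : ω₂⟦-((0 : ℕ) : ℤ)⟧ ≅ ω₂ := (shiftFunctorZero' (Dual.D B) (-((0 : ℕ) : ℤ)) (by simp)).app ω₂
    rw [cyc_hom_congr z1, cyc_hom_congr z2]
    have c1 : Cyc B (Dual.inD B C ⟶ ω₁) ↔ Cyc B (C →ₗ[B] E) :=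
      cyc_of_addEquiv e1.toAddEquiv (fun b m => e1.map_smul b m)
    have c2 : Cyc B (Dual.inD B C ⟶ ω₂) ↔ Cyc B (C →ₗ[B] E) :=
      cyc_of_addEquiv e2.toAddEquiv (fun b m => e2.map_smul b m)
    rw [c1, c2]
  | succ n ih =>
    intro C _ _ _ _ hd hV1 hV2
    obtain ⟨m, hm⟩ := ENat.ne_top_iff_exists.1 (depth_ne_top B C)
    have hkey := (depth_iff ω₁ hω₁ hn₁ C m).1 hm.symm
    have hm1 : m = n + 1 := by
      by_contra hne
      have hs := hV1 (-(m : ℤ)) (by push_cast; omega)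
      haveI := hkey.2
      exact not_subsingleton _ hs
    have hne : LocCoh.depth B C ≠ 0 := by
      rw [← hm, hm1]
      exact_mod_cast Nat.succ_ne_zero n
    have h1 := (depth_eq_zero_iff_forall_not_isSMulRegular B C
      (maximalIdeal_smul_top_ne_top B C)).not.1 hne
    push Not at h1
    obtain ⟨x, hxm, hreg⟩ := h1
    haveI hnt' : Nontrivial (QuotSMulTop x C) := nontrivial_quotSMulTop B C hxm
    have hd' : Module.supportDim B (QuotSMulTop x C) = (n : WithBot ℕ∞) := by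
      apply Groth.Agent.Lib.Helper2.withBot_enat_succ_inj
      rw [Module.supportDim_quotSMulTop_succ_eq_supportDim hreg hxm, hd]
    have e0 : -((n + 1 : ℕ) : ℤ) = -((n : ℤ) + 1) := by push_cast; ring
    rw [e0] at hV1 hV2 ⊢
    obtain ⟨hV1', hc1⟩ := step ω₁ hω₁ hn₁ n C hV1 x hxm hreg hd'
    obtain ⟨hV2', hc2⟩ := step ω₂ hω₂ hn₂ n C hV2 x hxm hreg hd'
    rw [hc1, hc2]
    exact ih (QuotSMulTop x C) hd' hV1' hV2'

end Key2

section Gor
variable {B : Type u} [CommRing B]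

theorem exists_single_iso (K : Dual.D B) (h : ∀ j : ℤ, j ≠ 0 → IsZero ((HF B j).obj K)) :
    ∃ W : ModuleCat.{u} B,
      Nonempty (K ≅ (DerivedCategory.singleFunctor (ModuleCat.{u} B) 0).obj W) := by
  haveI : K.IsLE 0 := isLE_of_isZero_HF K 0 (fun i hi => h i (by omega))
  haveI : K.IsGE 0 := by
    rw [DerivedCategory.isGE_iff]
    exact fun i hi => h i (by omega)
  exact DerivedCategory.exists_iso_singleFunctor_obj_of_isGE_of_isLE K 0

/-- cyclicity of `Hom(B, W[0])` gives cyclicity of `W` -/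
theorem cyc_single (W : ModuleCat.{u} B)
    (h : Cyc B (Dual.inD B B ⟶ (DerivedCategory.singleFunctor (ModuleCat.{u} B) 0).obj W)) :
    Cyc B W := by
  let F := DerivedCategory.singleFunctor (ModuleCat.{u} B) 0
  obtain ⟨t, ht⟩ := h
  obtain ⟨g₀, rfl⟩ := F.map_surjective t
  refine ⟨g₀.hom (1 : B), fun w => ?_⟩
  obtain ⟨b, hb⟩ := ht (F.map (ModuleCat.ofHom (LinearMap.toSpanSingleton B W w)))
  refine ⟨b, ?_⟩
  have h1 : F.map (ModuleCat.ofHom (LinearMap.toSpanSingleton B W w)) = F.map (b • g₀) := by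
    rw [hb, Functor.map_smul]
  have h2 := F.map_injective h1
  have h3 := congrArg (fun f => f.hom (1 : B)) h2
  simpa using h3

theorem single_smul_id_eq_zero (W : ModuleCat.{u} B) (b : B) (hb : ∀ w : W, b • w = 0) :
    b • 𝟙 ((DerivedCategory.singleFunctor (ModuleCat.{u} B) 0).obj W) = 0 := by
  have h1 : b • 𝟙 W = 0 := by
    refine ModuleCat.hom_ext (LinearMap.ext fun y => ?_)
    exact hb y
  rw [← CategoryTheory.Functor.map_id, ← Functor.map_smul, h1, Functor.map_zero]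

end Gor

section Gor2
open Groth.Agent.Lib.Helper33.DualizingSelf

theorem cyc_of_subsingleton {R : Type*} [Semiring R] {M : Type*} [AddCommMonoid M] [Module R M]
    [Subsingleton M] : Cyc R M := ⟨0, fun _ => ⟨0, Subsingleton.elim _ _⟩⟩

theorem gor_single (B : Type u) [CommRing B] [hG : LocCoh.IsGorensteinLocalRing B] (ω : Dual.D B)
    (hω : Dual.IsDualizing B ω) :
    ∃ a : ℤ, (∀ j : ℤ, j ≠ a → Subsingleton (Dual.HD B ω j)) ∧
      Nonempty (Dual.HD B ω a ≃ₗ[B] B) := by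
  obtain ⟨d, hd⟩ := exists_nat_ringKrullDim B
  have hCM : LocCoh.IsCohenMacaulayLocalRing B := Groth.Agent.S0341.result B
  obtain ⟨n₀, hn₀⟩ := hG.exists_hasInjectiveDimensionLT
  have hB : Dual.IsDualizing B (Dual.inD B B) :=
    isDualizing_inD_self B (n₀ : ℤ) (fun M _ _ i hi => by
      have := (hasInjectiveDimensionLT_iff_hom B (ModuleCat.of B B) n₀).1 hn₀ i.toNat (by omega)
        (ModuleCat.of B M)
      rw [Int.toNat_of_nonneg (by omega)] at this
      exact this)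
  obtain ⟨t₁, -, hω₁, hn₁⟩ := local_data B ω hω
  obtain ⟨t₂, -, hω₂, hn₂⟩ := local_data B (Dual.inD B B) hB
  have hsd : Module.supportDim B B = (d : WithBot ℕ∞) := by
    rw [Module.supportDim_self_eq_ringKrullDim, hd]
  have hcmB : LocCoh.IsCohenMacaulayModule B B := hCM.supportDim_eq_depth
  have hV1 := (main368 B (ω⟦t₁⟧) hω₁ hn₁ B d hsd).1 hcmB
  have hV2 := (main368 B ((Dual.inD B B)⟦t₂⟧) hω₂ hn₂ B d hsd).1 hcmB
  have hkey := key (ω⟦t₁⟧) ((Dual.inD B B)⟦t₂⟧) hω₁ hn₁ hω₂ hn₂ d B hsd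
    (fun j hj => by
      have := hV1 (-j) (by omega)
      rwa [neg_neg] at this)
    (fun j hj => by
      have := hV2 (-j) (by omega)
      rwa [neg_neg] at this)
  -- cyclicity on the `B` side
  have hc2 : Cyc B (Dual.inD B B ⟶ ((Dual.inD B B)⟦t₂⟧)⟦-(d : ℤ)⟧) := by
    have ι : ((Dual.inD B B)⟦t₂⟧)⟦-(d : ℤ)⟧ ≅ (Dual.inD B B)⟦t₂ - (d : ℤ)⟧ :=
      ((shiftFunctorAdd' (Dual.D B) t₂ (-(d : ℤ)) (t₂ - d) (by ring)).app (Dual.inD B B)).symm
    refine (cyc_hom_congr ι).2 ?_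
    by_cases hs : t₂ - (d : ℤ) = 0
    · rw [hs, cyc_hom_congr ((shiftFunctorZero (Dual.D B) ℤ).app (Dual.inD B B))]
      refine ⟨𝟙 _, fun f => ?_⟩
      obtain ⟨b, hb⟩ := (toEnd_bijective B).2 f
      exact ⟨b, hb.symm⟩
    · rcases lt_or_gt_of_ne hs with h | h
      · haveI := subsingleton_hom_inD_shift_of_neg B B B _ h
        exact cyc_of_subsingleton
      · haveI := subsingleton_hom_inD_shift_of_projective B B B _ h
        exact cyc_of_subsingleton
  have hc1 := hkey.2 hc2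
  set s : ℤ := t₁ - d with hs
  have ι₁ : (ω⟦t₁⟧)⟦-(d : ℤ)⟧ ≅ ω⟦s⟧ :=
    ((shiftFunctorAdd' (Dual.D B) t₁ (-(d : ℤ)) s (by rw [hs]; ring)).app ω).symm
  replace hc1 := (cyc_hom_congr ι₁).1 hc1
  have hvan : ∀ j : ℤ, j ≠ s → Subsingleton (Dual.inD B B ⟶ ω⟦j⟧) := by
    intro j hj
    have := hV1 (t₁ - j) (by omega)
    exact (subsingleton_shift_shift_iff _ _ _ _ _ (by ring)).1 this
  have hHD : ∀ j : ℤ, j ≠ s → Subsingleton (Dual.HD B ω j) := fun j hj =>
    (Groth.Agent.Lib.Helper14.DualSkGlobal.subsingleton_HD_iff ω j).2 (hvan j hj)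
  refine ⟨s, hHD, ?_⟩
  -- structure of `ω⟦s⟧`
  obtain ⟨W, ⟨e⟩⟩ := exists_single_iso (ω⟦s⟧) (fun j hj => by
    apply isZero_HF_shift
    have := hHD (s + j) (by omega)
    exact ModuleCat.isZero_of_subsingleton _)
  rw [cyc_hom_congr e] at hc1
  obtain ⟨w₀, hw₀⟩ := cyc_single W hc1
  have hinj : Function.Injective (LinearMap.toSpanSingleton B W w₀) := by
    rw [injective_iff_map_eq_zero]
    intro b hb
    have hb' : b • w₀ = 0 := by
      rw [LinearMap.toSpanSingleton_apply] at hb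
      exact hb
    have hkill : ∀ w : W, b • w = 0 := by
      intro w
      obtain ⟨c, rfl⟩ := hw₀ w
      rw [smul_smul, mul_comm, ← smul_smul, hb', smul_zero]
    have h1 := single_smul_id_eq_zero W b hkill
    have h2 : b • 𝟙 (ω⟦s⟧) = 0 := by
      have : 𝟙 (ω⟦s⟧) = e.hom ≫ 𝟙 _ ≫ e.inv := by simp
      rw [this, ← Linear.comp_smul, ← Linear.smul_comp, h1, zero_comp, comp_zero]
    have h3 : b • 𝟙 ω = 0 := by
      apply (shiftFunctor (Dual.D B) s).map_injective
      rw [Functor.map_smul, CategoryTheory.Functor.map_id, Functor.map_zero]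
      exact h2
    have h4 : (0 : B) • 𝟙 ω = 0 := zero_smul _ _
    exact hω.toEnd_bijective.1 (h3.trans h4.symm)
  have hsurj : Function.Surjective (LinearMap.toSpanSingleton B W w₀) := by
    intro w
    obtain ⟨c, rfl⟩ := hw₀ w
    exact ⟨c, LinearMap.toSpanSingleton_apply _ _ _ _⟩
  have eW : B ≃ₗ[B] W := LinearEquiv.ofBijective _ ⟨hinj, hsurj⟩
  have i1 : (HF B s).obj ω ≅ (HF B 0).obj (ω⟦s⟧) :=
    ((HFShiftIso (A := B) s 0 s (by ring)).app ω).symm
  have i2 : (HF B 0).obj (ω⟦s⟧) ≅ W :=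
    (HF B 0).mapIso e ≪≫ (HFSingleNatIso (A := B) 0).app W
  exact ⟨(i1 ≪≫ i2).toLinearEquiv ≪≫ₗ eW.symm⟩

end Gor2

section Gor3
open Groth.Agent.Lib.Helper33.DualizingSelf

theorem gor_of_single (B : Type u) [CommRing B] [IsLocalRing B] [IsNoetherianRing B]
    (ω : Dual.D B) (hω : Dual.IsDualizing B ω) (a : ℤ)
    (h1 : ∀ j : ℤ, j ≠ a → Subsingleton (Dual.HD B ω j))
    (h2 : Nonempty (Dual.HD B ω a ≃ₗ[B] B)) : LocCoh.IsGorensteinLocalRing B := by
  obtain ⟨e2⟩ := h2
  obtain ⟨W, ⟨e⟩⟩ := exists_single_iso (ω⟦a⟧) (fun j hj => by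
    apply isZero_HF_shift
    have := h1 (a + j) (by omega)
    exact ModuleCat.isZero_of_subsingleton _)
  have i1 : (HF B a).obj ω ≅ (HF B 0).obj (ω⟦a⟧) :=
    ((HFShiftIso (A := B) a 0 a (by ring)).app ω).symm
  have i2 : (HF B 0).obj (ω⟦a⟧) ≅ W :=
    (HF B 0).mapIso e ≪≫ (HFSingleNatIso (A := B) 0).app W
  have i3 : W ≅ ModuleCat.of B B := (i1 ≪≫ i2).symm ≪≫ e2.toModuleIso
  have eK : ω⟦a⟧ ≅ Dual.inD B B :=
    e ≪≫ (DerivedCategory.singleFunctor (ModuleCat.{u} B) 0).mapIso i3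
  obtain ⟨a0, b0, hab⟩ := hω.finite_injective_dimension
  refine { exists_hasInjectiveDimensionLT := ⟨(b0 - a + 1).toNat, ?_⟩ }
  rw [hasInjectiveDimensionLT_iff_hom]
  intro i hi Y
  have h3 : Subsingleton (Dual.inD B Y ⟶ ω⟦a + (i : ℤ)⟧) := hab Y _ (Or.inr (by omega))
  have h4 : Subsingleton (Dual.inD B Y ⟶ (ω⟦a⟧)⟦(i : ℤ)⟧) :=
    (subsingleton_shift_shift_iff _ _ _ _ _ rfl).2 h3
  exact (Iso.homCongr (Iso.refl (Dual.inD B Y))
    ((shiftFunctor (Dual.D B) (i : ℤ)).mapIso eK)).subsingleton_congr.1 h4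

end Gor3

section Global
variable {A : Type u} [CommRing A] [IsNoetherianRing A]

theorem isOpen_rankOne (M : Type u) [AddCommGroup M] [Module A M] [Module.Finite A M] :
    IsOpen {q : PrimeSpectrum A | Nonempty (LocalizedModule q.asIdeal.primeCompl M
      ≃ₗ[Localization.AtPrime q.asIdeal] Localization.AtPrime q.asIdeal)} := by
  haveI : Module.FinitePresentation A M := Module.finitePresentation_of_finite A M
  have hopen := Module.isOpen_freeLocus (R := A) (M := M)
  have hlc := Module.isLocallyConstant_rankAtStalk_freeLocus (R := A) (M := M)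
  have h1 : IsOpen {x : Module.freeLocus A M | Module.rankAtStalk M x.1 = 1} := hlc.isOpen_fiber 1
  have h2 := hopen.isOpenMap_subtype_val _ h1
  convert h2 using 1
  ext q
  simp only [Set.mem_ofPred_eq, Set.mem_image, Subtype.exists, exists_and_right, exists_eq_right]
  constructor
  · rintro ⟨e⟩
    have hfree : Module.Free (Localization.AtPrime q.asIdeal)
        (LocalizedModule q.asIdeal.primeCompl M) := Module.Free.of_equiv e.symm
    refine ⟨hfree, ?_⟩
    unfold Module.rankAtStalk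
    rw [e.finrank_eq, Module.finrank_self]
  · rintro ⟨hfree, hr⟩
    haveI : Module.Free (Localization.AtPrime q.asIdeal)
        (LocalizedModule q.asIdeal.primeCompl M) := hfree
    obtain ⟨e⟩ := Module.nonempty_linearEquiv_of_finrank_eq_one hr
    exact ⟨e.symm⟩

theorem main0373 (ω : Dual.D A) (hω : Dual.IsDualizing A ω) :
    IsOpen {p : PrimeSpectrum A |
      LocCoh.IsGorensteinLocalRing (Localization.AtPrime p.asIdeal)} := by
  obtain ⟨a0, b0, hab⟩ := hω.finite_injective_dimension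
  have hz := DualizingBC.isZero_HF_of_finite_injective_dimension ω a0 b0 hab
  haveI hfin : ∀ j : ℤ, Module.Finite A (Dual.HD A ω j) := hω.finite_cohomology
  rw [isOpen_iff_forall_mem_open]
  intro p hp
  have hp' : LocCoh.IsGorensteinLocalRing (Localization.AtPrime p.asIdeal) := hp
  have hN : ∀ q : PrimeSpectrum A, IsNoetherianRing (Localization.AtPrime q.asIdeal) := fun q =>
    IsLocalization.isNoetherianRing q.asIdeal.primeCompl _ inferInstance
  obtain ⟨a, h1, ⟨e2⟩⟩ := gor_single (Localization.AtPrime p.asIdeal) _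
    (isDualizing_localization ω hω p.asIdeal)
  let V1 : Set (PrimeSpectrum A) :=
    ⋂ j ∈ (Finset.Icc a0 b0).filter (fun j => j ≠ a), (Module.support A (Dual.HD A ω j))ᶜ
  let V2 : Set (PrimeSpectrum A) :=
    {q : PrimeSpectrum A | Nonempty (LocalizedModule q.asIdeal.primeCompl (Dual.HD A ω a)
      ≃ₗ[Localization.AtPrime q.asIdeal] Localization.AtPrime q.asIdeal)}
  have hV1 : IsOpen V1 := by
    apply isOpen_biInter_finset
    intro j _
    rw [isOpen_compl_iff, Module.support_eq_zeroLocus]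
    exact PrimeSpectrum.isClosed_zeroLocus _
  have hV2 : IsOpen V2 := isOpen_rankOne (Dual.HD A ω a)
  refine ⟨V1 ∩ V2, ?_, hV1.inter hV2, ⟨?_, ?_⟩⟩
  · rintro q ⟨hq1, ⟨e⟩⟩
    have hns : ∀ j : ℤ, j ≠ a → q ∉ Module.support A (Dual.HD A ω j) := by
      intro j hj
      by_cases hjm : a0 ≤ j ∧ j ≤ b0
      · have := Set.mem_iInter₂.1 hq1 j (by
          rw [Finset.mem_filter, Finset.mem_Icc]
          exact ⟨hjm, hj⟩)
        exact this
      · have hzj : IsZero ((HF A j).obj ω) := hz j (by omega)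
        haveI : Subsingleton (Dual.HD A ω j) := ModuleCat.subsingleton_of_isZero hzj
        rw [Module.support_eq_empty]
        exact Set.notMem_empty q
    change LocCoh.IsGorensteinLocalRing (Localization.AtPrime q.asIdeal)
    refine gor_of_single (Localization.AtPrime q.asIdeal) _
      (isDualizing_localization ω hω q.asIdeal) a (fun j hj => ?_)
      ⟨(locHDEquiv ω q.asIdeal a).symm ≪≫ₗ e⟩
    have := Module.notMem_support_iff.1 (hns j hj)
    exact (locHDEquiv ω q.asIdeal j).symm.toEquiv.subsingleton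
  · apply Set.mem_iInter₂.2
    intro j hj
    rw [Finset.mem_filter] at hj
    rw [Set.mem_compl_iff, Module.notMem_support_iff]
    haveI := h1 j hj.2
    exact (locHDEquiv ω p.asIdeal j).toEquiv.subsingleton
  · exact ⟨(locHDEquiv ω p.asIdeal a) ≪≫ₗ e2⟩

end Global

end Groth.Agent.Lib.Helper14.DualGor
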