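import Mathlib
import Groth.Agent.Lib.Helper14.DualCM

set_option autoImplicit false
universe u
open CategoryTheory
attribute [local instance] HasDerivedCategory.standard

namespace Groth.Agent.Lib.Helper14.DualCMLoci
open Groth.Agent.S4699.S4699P Groth.Agent.S2710.S2710P Groth.Agent.S2698.S2698P
open Groth.Agent.Lib.Helper14.DualCM Groth.Agent.Lib.Helper29 Groth.Agent.Lib.Helper29.DepthLib
set_option linter.style.haveILetI false

variable {A : Type u} [CommRing A] [IsNoetherianRing A]

/-- the locus `dim M_p ≤ depth M_p` is open -/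
theorem isOpen_cm (ω : Dual.D A) (hω : Dual.IsDualizing A ω) (M : Type u) [AddCommGroup M]
    [Module A M] [Module.Finite A M] :
    IsOpen {p : PrimeSpectrum A | dm p.asIdeal M ≤ ((dp p.asIdeal M : ℕ∞) : WithBot ℕ∞)} := by
  have h := isOpen_codepth 0 (fun b _ => exists_open_cm_quot ω hω b) M
  simpa using h

theorem cm_iff (M : Type u) [AddCommGroup M] [Module A M] [Module.Finite A M] (p : Ideal A)
    [p.IsPrime] [Nontrivial (LocalizedModule p.primeCompl M)] :
    dm p M ≤ ((dp p M : ℕ∞) : WithBot ℕ∞) ↔ dm p M = ((dp p M : ℕ∞) : WithBot ℕ∞) := by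
  constructor
  · intro h
    exact le_antisymm h (depth_le_supportDim _ _)
  · intro h
    exact h.le

/-- at a minimal prime of the support the localization is Cohen–Macaulay -/
theorem cm_of_minimal (M : Type u) [AddCommGroup M] [Module A M] [Module.Finite A M] (p : Ideal A)
    [p.IsPrime] (hp : p ∈ (Module.annihilator A M).minimalPrimes) :
    dm p M = ((dp p M : ℕ∞) : WithBot ℕ∞) := by
  have hle : Module.annihilator A M ≤ p := hp.1.2
  have hmem : (⟨p, inferInstance⟩ : PrimeSpectrum A) ∈ Module.support A M := by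
    rw [Module.mem_support_iff_of_finite]
    exact hle
  haveI : Nontrivial (LocalizedModule p.primeCompl M) := Module.mem_support_iff.1 hmem
  have h0 : dm p M = 0 := by
    unfold dm
    rw [FiniteRestrict.supportDim_localizedModule_eq_height A M p hle]
    have hmin : p.map (Ideal.Quotient.mk (Module.annihilator A M)) ∈
        minimalPrimes (A ⧸ Module.annihilator A M) := by
      have h1 := Ideal.comap_minimalPrimes_eq_of_surjective
        (f := Ideal.Quotient.mk (Module.annihilator A M)) Ideal.Quotient.mk_surjective ⊥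
      rw [← RingHom.ker_eq_comap_bot, Ideal.mk_ker] at h1
      rw [h1] at hp
      obtain ⟨P, hP, rfl⟩ := hp
      rw [Ideal.map_comap_of_surjective _ Ideal.Quotient.mk_surjective]
      exact hP
    have hprime : (p.map (Ideal.Quotient.mk (Module.annihilator A M))).IsPrime := hmin.1.1
    rw [Ideal.height_eq_zero_iff.2 hmin]
    rfl
  rw [← cm_iff, h0]
  exact_mod_cast (zero_le : (0 : ℕ∞) ≤ dp p M)

theorem main372 (A : Type u) [CommRing A] [IsNoetherianRing A] (ω : Dual.D A)
    (hω : Dual.IsDualizing A ω) :
    IsOpen {p : PrimeSpectrum A |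
      LocCoh.IsCohenMacaulayLocalRing (Localization.AtPrime p.asIdeal)} ∧
    Dense {p : PrimeSpectrum A |
      LocCoh.IsCohenMacaulayLocalRing (Localization.AtPrime p.asIdeal)} := by
  have hset : {p : PrimeSpectrum A |
      LocCoh.IsCohenMacaulayLocalRing (Localization.AtPrime p.asIdeal)} =
      {p : PrimeSpectrum A | dm p.asIdeal A ≤ ((dp p.asIdeal A : ℕ∞) : WithBot ℕ∞)} := by
    ext p
    haveI hnt : Nontrivial (LocalizedModule p.asIdeal.primeCompl A) :=
      (selfEquiv p.asIdeal).toEquiv.nontrivial
    rw [Set.mem_ofPred_eq, Set.mem_ofPred_eq, cm_iff]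
    unfold dm dp
    rw [Module.supportDim_eq_of_equiv (selfEquiv p.asIdeal),
      CMLib.depth_congr (selfEquiv p.asIdeal)]
    constructor
    · intro h
      exact h.supportDim_eq_depth
    · intro h
      haveI := IsLocalization.isNoetherianRing p.asIdeal.primeCompl
        (Localization.AtPrime p.asIdeal) inferInstance
      exact { supportDim_eq_depth := h }
  rw [hset]
  refine ⟨isOpen_cm ω hω A, ?_⟩
  rw [dense_iff_inter_open]
  rintro U hU ⟨x, hx⟩
  obtain ⟨p, hpmin, hpx⟩ := Ideal.exists_minimalPrimes_le (bot_le : (⊥ : Ideal A) ≤ x.asIdeal)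
  haveI : p.IsPrime := hpmin.1.1
  refine ⟨⟨p, inferInstance⟩, ?_, ?_⟩
  · exact ((PrimeSpectrum.le_iff_specializes ⟨p, inferInstance⟩ x).1 hpx).mem_open hU hx
  · have hann : Module.annihilator A A = ⊥ := Module.annihilator_eq_bot.2 inferInstance
    have hp' : p ∈ (Module.annihilator A A).minimalPrimes := by
      rw [hann]
      exact hpmin
    exact (cm_of_minimal A p hp').le

theorem main1716 (A : Type u) [CommRing A] [IsNoetherianRing A]
    (hA : ∃ ω : Dual.D A, Dual.IsDualizing A ω) (M : Type u) [AddCommGroup M] [Module A M]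
    [Module.Finite A M] :
    IsOpen {p : PrimeSpectrum A | Subsingleton (LocalizedModule p.asIdeal.primeCompl M) ∨
      LocCoh.IsCohenMacaulayModule (Localization.AtPrime p.asIdeal)
        (LocalizedModule p.asIdeal.primeCompl M)} ∧
    Module.support A M ⊆ closure ({p : PrimeSpectrum A |
      LocCoh.IsCohenMacaulayModule (Localization.AtPrime p.asIdeal)
        (LocalizedModule p.asIdeal.primeCompl M)} ∩ Module.support A M) := by
  obtain ⟨ω, hω⟩ := hA
  have hset : {p : PrimeSpectrum A | Subsingleton (LocalizedModule p.asIdeal.primeCompl M) ∨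
      LocCoh.IsCohenMacaulayModule (Localization.AtPrime p.asIdeal)
        (LocalizedModule p.asIdeal.primeCompl M)} =
      {p : PrimeSpectrum A | dm p.asIdeal M ≤ ((dp p.asIdeal M : ℕ∞) : WithBot ℕ∞)} := by
    ext p
    rw [Set.mem_ofPred_eq, Set.mem_ofPred_eq]
    constructor
    · rintro (h | h)
      · unfold dm
        rw [Module.supportDim_eq_bot_of_subsingleton]
        exact bot_le
      · exact le_of_eq h
    · intro h
      rcases subsingleton_or_nontrivial (LocalizedModule p.asIdeal.primeCompl M) with hs | hs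
      · exact Or.inl hs
      · exact Or.inr ((cm_iff M p.asIdeal).1 h)
  rw [hset]
  refine ⟨isOpen_cm ω hω M, ?_⟩
  intro x hx
  rw [Module.mem_support_iff_of_finite] at hx
  obtain ⟨p, hpmin, hpx⟩ := Ideal.exists_minimalPrimes_le hx
  haveI : p.IsPrime := hpmin.1.1
  have hy : (⟨p, inferInstance⟩ : PrimeSpectrum A) ∈
      {p : PrimeSpectrum A | LocCoh.IsCohenMacaulayModule (Localization.AtPrime p.asIdeal)
        (LocalizedModule p.asIdeal.primeCompl M)} ∩ Module.support A M := by
    refine ⟨cm_of_minimal M p hpmin, ?_⟩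
    rw [Module.mem_support_iff_of_finite]
    exact hpmin.1.2
  have hspec := (PrimeSpectrum.le_iff_specializes ⟨p, inferInstance⟩ x).1 hpx
  exact closure_mono (Set.singleton_subset_iff.2 hy) hspec.mem_closure

end Groth.Agent.Lib.Helper14.DualCMLoci
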