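import Mathlib
import Groth.Agent.Lib.Helper14.DualGor
import Groth.Agent.S0368
import Groth.Agent.S0372
import Groth.Agent.Lib.Helper49.Serre4

set_option autoImplicit false
universe u
open CategoryTheory
attribute [local instance] HasDerivedCategory.standard

namespace Groth.Agent.Lib.Helper14.DualCMUnique
open CategoryTheory CategoryTheory.Limits
open Groth.Agent.Lib.Helper12 Groth.Agent.Lib.Helper12.FlatHomBC DRing Pretriangulated
open Groth.Agent.Lib.Helper12.Bass Groth.Agent.Lib.Helper36.InjAmp
open Groth.Agent.Lib.Helper12.DualDim Groth.Agent.Lib.Helper12.Shriek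
open IsLocalRing Groth.Agent.Lib.Helper29 Groth.Agent.Lib.Helper29.DepthLib Pointwise TensorProduct
open Groth.Agent.S0370.D370 Groth.Agent.Lib.Helper14.DualCM Groth.Agent.Lib.Helper14.DualDepth
open Groth.Agent.Lib.Helper14.DualDelta Groth.Agent.Lib.Helper14.DualCoheight
open Groth.Agent.Lib.Helper14.DualLower Groth.Agent.Lib.Helper14.DualExtRange
open Groth.Agent.Lib.Helper14.DualLoc Groth.Agent.Lib.Helper14.DualPointwise
open Groth.Agent.Lib.Helper14.DualCanon Groth.Agent.Lib.Helper14.DualSk
set_option linter.style.haveILetI false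

section Local
variable {B : Type u} [CommRing B] [IsLocalRing B] [IsNoetherianRing B]

omit [IsLocalRing B] [IsNoetherianRing B] in
theorem hbridge (ω : Dual.D B) (i : ℤ) :
    Subsingleton (Dual.HD B ω i) ↔ Subsingleton (Dual.inD B B ⟶ ω⟦i⟧) := by
  constructor
  · intro h
    have hz : IsZero ((HF B i).obj ω) := ModuleCat.isZero_of_subsingleton _
    exact ⟨fun f g => (hom_ring_eq_zero ω i hz f).trans (hom_ring_eq_zero ω i hz g).symm⟩
  · intro h
    exact ModuleCat.subsingleton_of_isZero
      (isZero_HF_of_hom_ring_eq_zero ω i (fun f => Subsingleton.elim _ _))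

/-- over a Noetherian local ring with a dualizing complex: CM iff exactly one nonzero cohomology -/
theorem cm_iff_unique (ω : Dual.D B) (hω : Dual.IsDualizing B ω) :
    LocCoh.IsCohenMacaulayLocalRing B ↔ ∃! i : ℤ, Nontrivial (Dual.HD B ω i) := by
  constructor
  · intro hCM
    obtain ⟨t, h1, ⟨e⟩⟩ := Groth.Agent.S0364.result B ω hω (maximalIdeal B)
    have hω' : Dual.IsDualizing B (ω⟦t⟧) := isDualizing_shift ω hω t
    have hn' : Dual.IsNormalized B (ω⟦t⟧) := by
      intro i hi
      exact (subsingleton_shift_shift_iff _ _ t i (t + i) rfl).2 (h1 (t + i) (by omega))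
    obtain ⟨n, hn⟩ := ENat.ne_top_iff_exists.1 (depth_ne_top B B)
    have hd : Module.supportDim B B = (n : ℕ) := by
      rw [hCM.supportDim_eq_depth, ← hn]
      rfl
    have hcm : LocCoh.IsCohenMacaulayModule B B := hCM.supportDim_eq_depth
    have hvan := (Groth.Agent.S0368.result B (ω⟦t⟧) hω' hn' B n hd).1 hcm
    have hnt := ((depth_self_iff (ω⟦t⟧) hω' hn' n).1 hn.symm).2
    -- transfer to ω
    have hiso : ∀ j : ℤ, (HF B j).obj (ω⟦t⟧) ≅ (HF B (t + j)).obj ω := fun j =>
      (HFShiftIso (A := B) t j (t + j) rfl).app ω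
    refine ⟨t + (-(n : ℤ)), ?_, ?_⟩
    · exact (hiso (-(n : ℤ))).toLinearEquiv.symm.toEquiv.nontrivial
    · intro j hj
      by_contra hne
      have h2 : Subsingleton (Dual.HD B (ω⟦t⟧) (j - t)) := by
        rw [hbridge]
        have := hvan (-(j - t)) (by
          intro h
          apply hne
          have : (n : ℤ) = -(j - t) := h.symm
          omega)
        simpa using this
      have h3 : Subsingleton (Dual.HD B ω j) := by
        have e1 := (hiso (j - t)).toLinearEquiv
        have : t + (j - t) = j := by ring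
        rw [this] at e1
        exact e1.symm.toEquiv.subsingleton
      exact not_subsingleton _ h3
  · rintro ⟨c, hc, huniq⟩
    have hsub : ∀ i : ℤ, i ≠ c → Subsingleton (Dual.inD B B ⟶ ω⟦i⟧) := by
      intro i hi
      rw [← hbridge]
      by_contra h
      rw [not_subsingleton_iff_nontrivial] at h
      exact hi (huniq i h)
    exact { supportDim_eq_depth := cm_of_ext_single ω hω B c hsub }

end Local

section Global
variable {A : Type u} [CommRing A] [IsNoetherianRing A]

theorem cm_loc_iff_unique (ω : Dual.D A) (hω : Dual.IsDualizing A ω) (p : Ideal A) [p.IsPrime] :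
    LocCoh.IsCohenMacaulayLocalRing (Localization.AtPrime p) ↔
      ∃! i : ℤ, Nontrivial (LocalizedModule p.primeCompl (Dual.HD A ω i)) := by
  haveI : IsNoetherianRing (Localization.AtPrime p) :=
    IsLocalization.isNoetherianRing p.primeCompl _ inferInstance
  rw [cm_iff_unique _ (isDualizing_localization ω hω p)]
  have h : ∀ i : ℤ, Nontrivial (Dual.HD (Localization.AtPrime p)
      ((extScD A (Localization.AtPrime p)).obj ω) i) ↔
      Nontrivial (LocalizedModule p.primeCompl (Dual.HD A ω i)) := fun i =>
    (locHDEquiv ω p i).symm.toEquiv.nontrivial_congr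
  simp only [h]

end Global

theorem cm_of_ringEquiv {A B : Type u} [CommRing A] [CommRing B] (e : A ≃+* B)
    [hA : LocCoh.IsCohenMacaulayLocalRing A] : LocCoh.IsCohenMacaulayLocalRing B := by
  haveI : IsNoetherianRing B := isNoetherianRing_of_ringEquiv A e
  haveI : IsLocalRing B := e.isLocalRing
  refine { supportDim_eq_depth := ?_ }
  have h1 := hA.supportDim_eq_depth
  rw [Module.supportDim_self_eq_ringKrullDim] at h1 ⊢
  rw [← ringKrullDim_eq_of_ringEquiv e, h1,
    Groth.Agent.Lib.Helper49.Serre.depth_eq_of_ringEquiv e]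

end Groth.Agent.Lib.Helper14.DualCMUnique
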