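import Mathlib
import Groth.Prelude.Def_DualSch
import Groth.Prelude.Def_FlatMod2
import Groth.Agent.Lib.Helper14.DualCMUnique
import Groth.Agent.Lib.Helper99.SPerf10
import Groth.Agent.Lib.QCoh.Helper18_Stalk

set_option autoImplicit false
universe u
open CategoryTheory AlgebraicGeometry
attribute [local instance] HasDerivedCategory.standard

namespace Groth.Agent.Lib.Helper14.CMSch
open CategoryTheory.Limits
open Groth.Agent.Lib.Helper99.SPerf Groth.Agent.Lib.QCoh
open Groth.Agent.Lib.Helper14.DualCMUnique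
set_option linter.style.haveILetI false

/-- stalks of the cohomology sheaves of `K` in an affine chart -/
theorem nontrivial_stalk_iff' (X : Scheme.{u})
    [∀ (U : Scheme.{u}) (j : U ⟶ X) [IsOpenImmersion j], PreservesFiniteLimits (Scheme.Modules.restrictFunctor j)]
    [∀ (R : CommRingCat.{u}), PreservesFiniteLimits (tilde.functor R)]
    (K : DCoh.D X) (R : CommRingCat.{u}) (j : Spec R ⟶ X) [IsOpenImmersion j]
    (ω : DerivedCategory (ModuleCat.{u} R))
    (e : (DCoh.restrictD j).obj K ≅ (tilde.functor R).mapDerivedCategory.obj ω)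
    (y : PrimeSpectrum.Top R) [hy : y.asIdeal.IsPrime] (i : ℤ) :
    Nontrivial ((DCoh.HD K i).presheaf.stalk (j y)) ↔
      Nontrivial (LocalizedModule y.asIdeal.primeCompl
        ((DerivedCategory.homologyFunctor (ModuleCat.{u} R) i).obj ω)) := by
  let s2 : (DerivedCategory.homologyFunctor (Spec R).Modules i).obj ((DCoh.restrictD j).obj K) ≅
      (DCoh.HD K i).restrict j := homologyRestrictDIso j K i
  let s3 : (DerivedCategory.homologyFunctor (Spec R).Modules i).obj ((DCoh.restrictD j).obj K) ≅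
      (DerivedCategory.homologyFunctor (Spec R).Modules i).obj
        ((tilde.functor R).mapDerivedCategory.obj ω) :=
    (DerivedCategory.homologyFunctor (Spec R).Modules i).mapIso e
  let s4 : (DerivedCategory.homologyFunctor (Spec R).Modules i).obj
        ((tilde.functor R).mapDerivedCategory.obj ω) ≅
      (tilde.functor R).obj ((DerivedCategory.homologyFunctor (ModuleCat.{u} R) i).obj ω) :=
    (homologyMapDCIso (tilde.functor R) i).app ω
  let t : (DCoh.HD K i).restrict j ≅
      (tilde.functor R).obj ((DerivedCategory.homologyFunctor (ModuleCat.{u} R) i).obj ω) :=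
    s2.symm ≪≫ s3 ≪≫ s4
  let t' := (stalkFunctor (Spec R) y).mapIso t
  let s1 := (Scheme.Modules.restrictStalkNatIso j y).app (DCoh.HD K i)
  let M : ModuleCat.{u} R := (DerivedCategory.homologyFunctor (ModuleCat.{u} R) i).obj ω
  have E2 : LocalizedModule y.asIdeal.primeCompl M ≃ ((tilde M).presheaf.stalk y) :=
    (IsLocalizedModule.iso y.asIdeal.primeCompl (tilde.toStalk M y).hom).toEquiv
  have E1 : ((DCoh.HD K i).presheaf.stalk (j y)) ≃ ((tilde M).presheaf.stalk y) :=
    (s1.symm ≪≫ t').addCommGroupIsoToAddEquiv.toEquiv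
  exact (E1.trans E2.symm).nontrivial_congr


theorem main1809 (X : Scheme.{u}) [IsLocallyNoetherian X] [∀ (U : Scheme.{u}) (j : U ⟶ X) [IsOpenImmersion j], PreservesFiniteLimits (Scheme.Modules.restrictFunctor j)] [∀ (R : CommRingCat.{u}), PreservesFiniteLimits (tilde.functor R)] (ω : DCoh.D X) (hω : Dual2.IsDualizingSch X ω) : (∀ x : X, LocCoh.IsCohenMacaulayLocalRing (X.presheaf.stalk x) ↔ ∃! i : ℤ, Nontrivial ((DCoh.HD ω i).presheaf.stalk x)) ∧ IsOpen {x : X | LocCoh.IsCohenMacaulayLocalRing (X.presheaf.stalk x)} := by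
  -- chart data
  have chart : ∀ x : X, ∃ (U : X.Opens) (hU : IsAffineOpen U), x ∈ U := by
    intro x
    obtain ⟨_, ⟨U, hU : IsAffineOpen U, rfl⟩, hxU, -⟩ :=
      X.isBasis_affineOpens.exists_subset_of_mem_open (Set.mem_univ x) isOpen_univ
    exact ⟨U, hU, hxU⟩
  have key : ∀ (U : X.Opens) (hU : IsAffineOpen U) (p : PrimeSpectrum Γ(X, U)),
      (LocCoh.IsCohenMacaulayLocalRing (Localization.AtPrime p.asIdeal) ↔
        LocCoh.IsCohenMacaulayLocalRing (X.presheaf.stalk (hU.fromSpec p))) := by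
    intro U hU p
    haveI : p.asIdeal.IsPrime := p.2
    have hmem : hU.fromSpec p ∈ U := by
      have := hU.range_fromSpec
      rw [← SetLike.mem_coe, ← this]
      exact ⟨p, rfl⟩
    letI := TopCat.Presheaf.algebra_section_stalk X.presheaf ⟨hU.fromSpec p, hmem⟩
    haveI : IsLocalization p.asIdeal.primeCompl (X.presheaf.stalk (hU.fromSpec p)) :=
      hU.isLocalization_stalk' p hmem
    let e := (IsLocalization.algEquiv p.asIdeal.primeCompl (Localization.AtPrime p.asIdeal)
      (X.presheaf.stalk (hU.fromSpec p))).toRingEquiv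
    exact ⟨fun h => cm_of_ringEquiv e, fun h => cm_of_ringEquiv e.symm⟩
  constructor
  · intro x
    obtain ⟨U, hU, hxU⟩ := chart x
    haveI : IsNoetherianRing Γ(X, U) := IsLocallyNoetherian.component_noetherian ⟨U, hU⟩
    obtain ⟨ωA, hωA, ⟨e⟩⟩ := hω Γ(X, U) hU.fromSpec
    have main : ∀ p : PrimeSpectrum Γ(X, U),
        (LocCoh.IsCohenMacaulayLocalRing (X.presheaf.stalk (hU.fromSpec p)) ↔
          ∃! i : ℤ, Nontrivial ((DCoh.HD ω i).presheaf.stalk (hU.fromSpec p))) := by
      intro p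
      haveI : p.asIdeal.IsPrime := p.2
      rw [← key U hU p, cm_loc_iff_unique ωA hωA p.asIdeal]
      have h : ∀ i : ℤ, Nontrivial ((DCoh.HD ω i).presheaf.stalk (hU.fromSpec p)) ↔
          Nontrivial (LocalizedModule p.asIdeal.primeCompl (Dual.HD Γ(X, U) ωA i)) := fun i =>
        nontrivial_stalk_iff' X ω Γ(X, U) hU.fromSpec ωA e p i
      simp only [h]
    have := main (hU.primeIdealOf ⟨x, hxU⟩)
    rw [hU.fromSpec_primeIdealOf ⟨x, hxU⟩] at this
    exact this
  · rw [isOpen_iff_forall_mem_open]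
    intro x hx
    obtain ⟨U, hU, hxU⟩ := chart x
    haveI : IsNoetherianRing Γ(X, U) := IsLocallyNoetherian.component_noetherian ⟨U, hU⟩
    obtain ⟨ωA, hωA, -⟩ := hω Γ(X, U) hU.fromSpec
    have hG := (Groth.Agent.S0372.result Γ(X, U) ωA hωA).1
    refine ⟨hU.fromSpec '' {p : PrimeSpectrum Γ(X, U) |
        LocCoh.IsCohenMacaulayLocalRing (Localization.AtPrime p.asIdeal)}, ?_,
      hU.fromSpec.isOpenEmbedding.isOpenMap _ hG, ?_⟩
    · rintro _ ⟨p, hp, rfl⟩
      exact (key U hU p).1 hp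
    · refine ⟨hU.primeIdealOf ⟨x, hxU⟩, ?_, hU.fromSpec_primeIdealOf ⟨x, hxU⟩⟩
      apply (key U hU _).2
      rw [hU.fromSpec_primeIdealOf ⟨x, hxU⟩]
      exact hx

end Groth.Agent.Lib.Helper14.CMSch
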