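import Mathlib

/-!
# A concrete model of the divided power algebra of `k × k` (helper14)

For a commutative ring `k` we build a commutative `k`-algebra `R k` (generated by Hasse derivatives
acting on `k[X] ⊗ k[X]`) with two "exponential" families `ξ i`, `η j`
(`ξ i * ξ j = (i+j).choose i • ξ (i+j)`), an algebra map
`Phi : DividedPowerAlgebra k (k × k) →ₐ[k] R k` with
`Phi (dp n (a,b)) = ∑_{i+j=n} a^i b^j ξ_i η_j`, and coefficient functionals `coeffFun a b : R k →ₗ[k] k`
with `coeffFun a b (ξ i * η j) = [i = a ∧ j = b]`.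
-/

set_option autoImplicit false
set_option linter.unusedSectionVars false
universe u

namespace Groth.Agent.Lib.Helper14.DPModel

open Finset

section Fam

variable {k : Type*} [CommRing k] {R' : Type*} [CommRing R'] [Algebra k R']
  (ξ η : ℕ → R')

/-- the two-variable family `∑_{i+j=n} a^i b^j ξ_i η_j` -/
noncomputable def fam (nv : ℕ × (k × k)) : R' :=
  ∑ x ∈ antidiagonal nv.1, (nv.2.1 ^ x.1 * nv.2.2 ^ x.2) • (ξ x.1 * η x.2)

/-- the one-variable generating series -/
noncomputable def ser (ζ : ℕ → R') (a : k) : PowerSeries R' := PowerSeries.mk fun i => a ^ i • ζ i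

theorem ser_add (ζ : ℕ → R') (hζ : ∀ i j, ζ i * ζ j = (i + j).choose i • ζ (i + j)) (a a' : k) :
    ser ζ (a + a') = ser ζ a * ser ζ a' := by
  ext n
  rw [PowerSeries.coeff_mul]
  simp only [ser, PowerSeries.coeff_mk]
  rw [(Commute.all a a').add_pow', Finset.sum_smul]
  apply Finset.sum_congr rfl
  intro x hx
  rw [HasAntidiagonal.mem_antidiagonal] at hx
  rw [smul_mul_smul_comm, hζ, hx, smul_assoc, smul_comm]

theorem fam_eq_coeff (n : ℕ) (a b : k) :
    fam ξ η (n, (a, b)) = PowerSeries.coeff n (ser ξ a * ser η b) := by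
  rw [PowerSeries.coeff_mul]
  simp only [ser, PowerSeries.coeff_mk, fam]
  apply Finset.sum_congr rfl
  intro x _
  rw [smul_mul_smul_comm]

theorem fam_zero (hξ0 : ξ 0 = 1) (hη0 : η 0 = 1) (v : k × k) : fam ξ η (0, v) = 1 := by
  simp [fam, hξ0, hη0]

theorem fam_smul (n : ℕ) (r : k) (v : k × k) : fam ξ η (n, r • v) = r ^ n • fam ξ η (n, v) := by
  simp only [fam, Prod.smul_fst, Prod.smul_snd, smul_eq_mul, Finset.smul_sum]
  apply Finset.sum_congr rfl
  intro x hx
  rw [HasAntidiagonal.mem_antidiagonal] at hx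
  rw [smul_smul, ← hx]
  congr 1
  ring

theorem fam_add (hξ : ∀ i j, ξ i * ξ j = (i + j).choose i • ξ (i + j))
    (hη : ∀ i j, η i * η j = (i + j).choose i • η (i + j)) (n : ℕ) (u v : k × k) :
    fam ξ η (n, u + v) = (antidiagonal n).sum fun (i, j) => fam ξ η (i, u) * fam ξ η (j, v) := by
  obtain ⟨a, b⟩ := u
  obtain ⟨a', b'⟩ := v
  rw [Prod.mk_add_mk, fam_eq_coeff, ser_add ξ hξ, ser_add η hη]
  have : ser ξ a * ser ξ a' * (ser η b * ser η b') = (ser ξ a * ser η b) * (ser ξ a' * ser η b') := by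
    ring
  rw [this, PowerSeries.coeff_mul]
  apply Finset.sum_congr rfl
  rintro ⟨i, j⟩ _
  simp only
  rw [fam_eq_coeff, fam_eq_coeff]

theorem fam_mul (hξ : ∀ i j, ξ i * ξ j = (i + j).choose i • ξ (i + j))
    (hη : ∀ i j, η i * η j = (i + j).choose i • η (i + j)) (n p : ℕ) (v : k × k) :
    fam ξ η (n, v) * fam ξ η (p, v) = (n + p).choose n • fam ξ η (n + p, v) := by
  obtain ⟨a, b⟩ := v
  simp only [fam]
  rw [Finset.sum_mul_sum, Finset.smul_sum]
  -- RHS via Vandermonde
  have hR : ∀ s ∈ antidiagonal (n + p), (n + p).choose n • ((a ^ s.1 * b ^ s.2) • (ξ s.1 * η s.2)) =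
      ∑ x ∈ antidiagonal n, (s.1.choose x.1 * s.2.choose x.2) • ((a ^ s.1 * b ^ s.2) • (ξ s.1 * η s.2)) := by
    intro s hs
    rw [HasAntidiagonal.mem_antidiagonal] at hs
    rw [← Finset.sum_smul, ← hs, Nat.add_choose_eq]
  rw [Finset.sum_congr rfl hR]
  conv_rhs => rw [Finset.sum_comm]
  apply Finset.sum_congr rfl
  intro x hx
  rw [HasAntidiagonal.mem_antidiagonal] at hx
  refine Finset.sum_of_injOn (fun y => x + y) ?_ ?_ ?_ ?_
  · intro y _ y' _ h
    exact add_left_cancel h
  · intro y hy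
    rw [Finset.mem_coe, HasAntidiagonal.mem_antidiagonal] at hy ⊢
    simp only [Prod.fst_add, Prod.snd_add]
    omega
  · intro s hs hsn
    rw [HasAntidiagonal.mem_antidiagonal] at hs
    by_cases h1 : x.1 ≤ s.1 ∧ x.2 ≤ s.2
    · exfalso
      apply hsn
      refine ⟨(s.1 - x.1, s.2 - x.2), ?_, ?_⟩
      · rw [Finset.mem_coe, HasAntidiagonal.mem_antidiagonal]
        simp only
        omega
      · ext <;> simp only [Prod.fst_add, Prod.snd_add] <;> omega
    · have h2 : s.1.choose x.1 * s.2.choose x.2 = 0 := by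
        rcases not_and_or.1 h1 with h | h
        · rw [Nat.choose_eq_zero_of_lt (not_le.1 h), zero_mul]
        · rw [Nat.choose_eq_zero_of_lt (not_le.1 h), mul_zero]
      rw [h2, zero_smul]
  · intro y _
    simp only [Prod.fst_add, Prod.snd_add]
    rw [smul_mul_smul_comm, mul_mul_mul_comm (ξ x.1), hξ, hη, smul_mul_smul_comm, smul_comm]
    have hc : a ^ x.1 * b ^ x.2 * (a ^ y.1 * b ^ y.2) = a ^ (x.1 + y.1) * b ^ (x.2 + y.2) := by
      rw [pow_add, pow_add]; ring
    rw [hc]

theorem fam_left (hη0 : η 0 = 1) (n : ℕ) (a : k) : fam ξ η (n, (a, 0)) = a ^ n • ξ n := by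
  classical
  rw [fam]
  simp only
  rw [Finset.sum_eq_single (n, 0)]
  · simp [hη0]
  · rintro ⟨i, j⟩ hx hne
    rw [HasAntidiagonal.mem_antidiagonal] at hx
    simp only at hx
    have hj : j ≠ 0 := by
      rintro rfl
      apply hne
      simp only [add_zero] at hx
      rw [hx]
    simp [zero_pow hj]
  · intro h
    exact absurd (HasAntidiagonal.mem_antidiagonal.2 (by simp)) h

theorem fam_right (hξ0 : ξ 0 = 1) (n : ℕ) (b : k) : fam ξ η (n, (0, b)) = b ^ n • η n := by
  classical
  rw [fam]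
  simp only
  rw [Finset.sum_eq_single (0, n)]
  · simp [hξ0]
  · rintro ⟨i, j⟩ hx hne
    rw [HasAntidiagonal.mem_antidiagonal] at hx
    simp only at hx
    have hi : i ≠ 0 := by
      rintro rfl
      apply hne
      simp only [zero_add] at hx
      rw [hx]
    simp [zero_pow hi]
  · intro h
    exact absurd (HasAntidiagonal.mem_antidiagonal.2 (by simp)) h

/-- the algebra map out of the divided power algebra of `k × k` -/
noncomputable def Phi (hξ0 : ξ 0 = 1) (hη0 : η 0 = 1)
    (hξ : ∀ i j, ξ i * ξ j = (i + j).choose i • ξ (i + j))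
    (hη : ∀ i j, η i * η j = (i + j).choose i • η (i + j)) :
    DividedPowerAlgebra k (k × k) →ₐ[k] R' :=
  DividedPowerAlgebra.lift' (f := fam ξ η) (fam_zero ξ η hξ0 hη0) (fam_smul ξ η)
    (fam_mul ξ η hξ hη) (fam_add ξ η hξ hη)

theorem Phi_dp (hξ0 : ξ 0 = 1) (hη0 : η 0 = 1)
    (hξ : ∀ i j, ξ i * ξ j = (i + j).choose i • ξ (i + j))
    (hη : ∀ i j, η i * η j = (i + j).choose i • η (i + j)) (n : ℕ) (v : k × k) :
    Phi ξ η hξ0 hη0 hξ hη (DividedPowerAlgebra.dp k n v) = fam ξ η (n, v) :=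
  DividedPowerAlgebra.lift'_apply_dp _ _ _ _ n v

end Fam

section Model

open Polynomial TensorProduct

variable (k : Type u) [CommRing k]

/-- the space on which the model acts -/
abbrev V : Type u := k[X] ⊗[k] k[X]

/-- Hasse derivative in the first variable -/
noncomputable def Dx (i : ℕ) : Module.End k (V k) :=
  TensorProduct.map (hasseDeriv i) LinearMap.id

/-- Hasse derivative in the second variable -/
noncomputable def Dy (j : ℕ) : Module.End k (V k) :=
  TensorProduct.map LinearMap.id (hasseDeriv j)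

theorem Dx_zero : Dx k 0 = 1 := by
  rw [Dx, hasseDeriv_zero, TensorProduct.map_id]
  rfl

theorem Dy_zero : Dy k 0 = 1 := by
  rw [Dy, hasseDeriv_zero, TensorProduct.map_id]
  rfl

theorem Dx_mul (i j : ℕ) : Dx k i * Dx k j = (i + j).choose i • Dx k (i + j) := by
  rw [Dx, Dx, Dx, Module.End.mul_eq_comp, ← TensorProduct.map_comp, hasseDeriv_comp,
    LinearMap.comp_id]
  refine TensorProduct.ext' fun p q => ?_
  rw [TensorProduct.map_tmul, LinearMap.smul_apply, LinearMap.smul_apply, TensorProduct.map_tmul,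
    TensorProduct.smul_tmul']

theorem Dy_mul (i j : ℕ) : Dy k i * Dy k j = (i + j).choose i • Dy k (i + j) := by
  rw [Dy, Dy, Dy, Module.End.mul_eq_comp, ← TensorProduct.map_comp, hasseDeriv_comp,
    LinearMap.comp_id]
  refine TensorProduct.ext' fun p q => ?_
  rw [TensorProduct.map_tmul, LinearMap.smul_apply, LinearMap.smul_apply, TensorProduct.map_tmul,
    TensorProduct.tmul_smul]

theorem Dx_mul_Dy (i j : ℕ) : Dx k i * Dy k j = TensorProduct.map (hasseDeriv i) (hasseDeriv j) := by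
  rw [Dx, Dy, Module.End.mul_eq_comp, ← TensorProduct.map_comp, LinearMap.comp_id,
    LinearMap.id_comp]

theorem Dy_mul_Dx (i j : ℕ) : Dy k j * Dx k i = TensorProduct.map (hasseDeriv i) (hasseDeriv j) := by
  rw [Dx, Dy, Module.End.mul_eq_comp, ← TensorProduct.map_comp, LinearMap.comp_id,
    LinearMap.id_comp]

/-- the endomorphism ring, wrapped -/
def E : Type u := Module.End k (V k)

noncomputable instance : Ring (E k) := inferInstanceAs (Ring (Module.End k (V k)))

noncomputable instance : Algebra k (E k) := inferInstanceAs (Algebra k (Module.End k (V k)))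

/-- the identity map `End → E` -/
def toE (T : Module.End k (V k)) : E k := T

/-- the identity map `E → End` -/
def ofE (T : E k) : Module.End k (V k) := T

/-- the generators -/
def gens : Set (E k) := Set.range (fun i => toE k (Dx k i)) ∪ Set.range (fun j => toE k (Dy k j))

theorem gens_comm : ∀ a ∈ gens k, ∀ b ∈ gens k, a * b = b * a := by
  rintro _ (⟨i, rfl⟩ | ⟨i, rfl⟩) _ (⟨j, rfl⟩ | ⟨j, rfl⟩)
  · change Dx k i * Dx k j = Dx k j * Dx k i
    rw [Dx_mul, Dx_mul, add_comm j i, Nat.choose_symm_add]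
  · change Dx k i * Dy k j = Dy k j * Dx k i
    rw [Dx_mul_Dy, Dy_mul_Dx]
  · change Dy k i * Dx k j = Dx k j * Dy k i
    rw [Dx_mul_Dy, Dy_mul_Dx]
  · change Dy k i * Dy k j = Dy k j * Dy k i
    rw [Dy_mul, Dy_mul, add_comm j i, Nat.choose_symm_add]

/-- the model ring -/
abbrev R : Type u := Algebra.adjoin k (gens k)

open scoped IsMulCommutative in
noncomputable instance instCommRingR : CommRing (R k) :=
  have : IsMulCommutative (R k) := Algebra.isMulCommutative_adjoin k (gens_comm k)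
  inferInstance

/-- first exponential family -/
noncomputable def xi (i : ℕ) : R k := ⟨toE k (Dx k i), Algebra.subset_adjoin (Or.inl ⟨i, rfl⟩)⟩

/-- second exponential family -/
noncomputable def eta (j : ℕ) : R k := ⟨toE k (Dy k j), Algebra.subset_adjoin (Or.inr ⟨j, rfl⟩)⟩

theorem xi_zero : xi k 0 = 1 := Subtype.ext (Dx_zero k)

theorem eta_zero : eta k 0 = 1 := Subtype.ext (Dy_zero k)

theorem xi_mul (i j : ℕ) : xi k i * xi k j = (i + j).choose i • xi k (i + j) :=
  Subtype.ext (by
    rw [Subalgebra.coe_mul, SetLike.val_smul_of_tower]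
    exact Dx_mul k i j)

theorem eta_mul (i j : ℕ) : eta k i * eta k j = (i + j).choose i • eta k (i + j) :=
  Subtype.ext (by
    rw [Subalgebra.coe_mul, SetLike.val_smul_of_tower]
    exact Dy_mul k i j)

/-- the canonical map `Γ_k(k × k) → R k` -/
noncomputable def PhiR : DividedPowerAlgebra k (k × k) →ₐ[k] R k :=
  Phi (xi k) (eta k) (xi_zero k) (eta_zero k) (xi_mul k) (eta_mul k)

theorem PhiR_dp (n : ℕ) (v : k × k) :
    PhiR k (DividedPowerAlgebra.dp k n v) = fam (xi k) (eta k) (n, v) :=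
  Phi_dp _ _ _ _ _ _ n v

/-- evaluation at `(0,0)` on `k[X] ⊗ k[X]` -/
noncomputable def ev00 : V k →ₗ[k] k :=
  (TensorProduct.lid k k).toLinearMap ∘ₗ TensorProduct.map (Polynomial.lcoeff k 0) (Polynomial.lcoeff k 0)

/-- coefficient functional: `T ↦ (T (X^a ⊗ X^b))(0,0)` -/
noncomputable def coeffFun (a b : ℕ) : R k →ₗ[k] k where
  toFun T := ev00 k (ofE k (T : E k) (((X : k[X]) ^ a) ⊗ₜ[k] ((X : k[X]) ^ b)))
  map_add' S T := by
    rw [Subalgebra.coe_add]
    change ev00 k ((ofE k (S : E k) + ofE k (T : E k)) _) = _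
    rw [LinearMap.add_apply, map_add]
  map_smul' c T := by
    rw [Subalgebra.coe_smul]
    change ev00 k ((c • ofE k (T : E k)) _) = _
    rw [LinearMap.smul_apply, map_smul, RingHom.id_apply]

theorem coeff_zero_hasseDeriv_X_pow (a i : ℕ) :
    (hasseDeriv i ((X : k[X]) ^ a)).coeff 0 = if i = a then 1 else 0 := by
  rw [← monomial_one_right_eq_X_pow, hasseDeriv_monomial, coeff_monomial]
  by_cases h : i = a
  · subst h
    simp
  · rw [if_neg h]
    split_ifs with h2
    · have : a < i := by omega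
      rw [Nat.choose_eq_zero_of_lt this]
      simp
    · rfl

theorem coeffFun_xi_eta (a b i j : ℕ) :
    coeffFun k a b (xi k i * eta k j) = if i = a ∧ j = b then 1 else 0 := by
  change ev00 k ((Dx k i * Dy k j) (((X : k[X]) ^ a) ⊗ₜ[k] ((X : k[X]) ^ b))) = _
  rw [Dx_mul_Dy, TensorProduct.map_tmul, ev00, LinearMap.comp_apply, TensorProduct.map_tmul]
  simp only [lcoeff_apply, LinearEquiv.coe_coe, TensorProduct.lid_tmul, smul_eq_mul]
  rw [coeff_zero_hasseDeriv_X_pow, coeff_zero_hasseDeriv_X_pow]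
  by_cases h1 : i = a <;> by_cases h2 : j = b <;> simp [h1, h2]

theorem coeffFun_fam (a b n : ℕ) (hab : a + b = n) (v : k × k) :
    coeffFun k a b (fam (xi k) (eta k) (n, v)) = v.1 ^ a * v.2 ^ b := by
  classical
  rw [fam, map_sum]
  simp only [map_smul, coeffFun_xi_eta, smul_eq_mul]
  rw [Finset.sum_eq_single (a, b)]
  · simp
  · intro x _ hx
    rw [if_neg, mul_zero]
    rintro ⟨h1, h2⟩
    exact hx (Prod.ext h1 h2)
  · intro h
    exact absurd (HasAntidiagonal.mem_antidiagonal.2 hab) h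

end Model

section Finite

variable (k : Type u) [Field k] [Fintype k]

/-- Over a finite field with fewer than `d` elements there is a functional on `Γ_k(k²)` killing
all `γ_d(v)` but not `γ_1(e₁) γ_{d-1}(e₂)`. -/
theorem exists_functional (d : ℕ) (hd : Fintype.card k < d) :
    ∃ Λ : DividedPowerAlgebra k (k × k) →ₗ[k] k,
      (∀ v, Λ (DividedPowerAlgebra.dp k d v) = 0) ∧
      Λ (DividedPowerAlgebra.dp k 1 ((1 : k), (0 : k)) *
        DividedPowerAlgebra.dp k (d - 1) ((0 : k), (1 : k))) = 1 := by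
  set q := Fintype.card k with hq
  have hq2 : 2 ≤ q := by
    have := Fintype.one_lt_card (α := k)
    omega
  refine ⟨(coeffFun k 1 (d - 1) - coeffFun k q (d - q)) ∘ₗ (PhiR k).toLinearMap, ?_, ?_⟩
  · intro v
    rw [LinearMap.comp_apply, AlgHom.toLinearMap_apply, PhiR_dp, LinearMap.sub_apply,
      coeffFun_fam k 1 (d - 1) d (by omega), coeffFun_fam k q (d - q) d (by omega)]
    have h1 : v.1 ^ q = v.1 := FiniteField.pow_card v.1
    have h2 : v.2 ^ q = v.2 := FiniteField.pow_card v.2
    obtain ⟨e, he⟩ : ∃ e, d - q = e + 1 := ⟨d - q - 1, by omega⟩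
    have h3 : d - 1 = e + q := by omega
    rw [h1, he, h3, pow_add, h2, pow_one, pow_succ, sub_self]
  · rw [LinearMap.comp_apply, AlgHom.toLinearMap_apply, map_mul, PhiR_dp, PhiR_dp,
      fam_left _ _ (eta_zero k), fam_right _ _ (xi_zero k), one_pow, one_pow, one_smul, one_smul,
      LinearMap.sub_apply, coeffFun_xi_eta, coeffFun_xi_eta, if_pos ⟨rfl, rfl⟩, if_neg, sub_zero]
    rintro ⟨h, -⟩
    omega

end Finite

end Groth.Agent.Lib.Helper14.DPModel
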