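import Groth.Agent.Lib.Helper14.DiffOp
import Mathlib.RingTheory.Etale.Basic
import Mathlib.RingTheory.Unramified.Basic

/-!
Differential operators and formally unramified / formally étale base change: uniqueness part.
-/

set_option autoImplicit false
universe u v

namespace Groth.Agent.Lib.Helper14.DiffEtale

open Diff16 Groth.Agent.Lib.Helper14
open scoped TensorProduct

section Unram

variable {R S S' : Type u} [CommRing R] [CommRing S] [CommRing S'] [Algebra R S] [Algebra R S']
  [Algebra S S'] [IsScalarTower R S S'] [Algebra.FormallyUnramified S S']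
variable {M' N' : Type v} [AddCommGroup M'] [Module S' M'] [Module R M'] [IsScalarTower R S' M']
  [AddCommGroup N'] [Module S' N'] [Module R N'] [IsScalarTower R S' N']

/-- A derivation-like map out of a formally unramified algebra vanishes. -/
theorem derivation_like_eq_zero (δ : S' → N') (hadd : ∀ a b, δ (a + b) = δ a + δ b)
    (hS : ∀ (s : S) (a : S'), δ (algebraMap S S' s * a) = algebraMap S S' s • δ a)
    (hmul : ∀ a b, δ (a * b) = a • δ b + b • δ a) (a : S') : δ a = 0 := by
  let _ : Module S N' := Module.compHom N' (algebraMap S S')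
  have : IsScalarTower S S' N' := ⟨fun s a n => by
    change (s • a) • n = algebraMap S S' s • (a • n)
    rw [Algebra.smul_def, mul_smul]⟩
  have h1 : δ 1 = 0 := by
    have := hmul 1 1
    simp at this
    exact this
  let d : Derivation S S' N' :=
    { toFun := δ
      map_add' := hadd
      map_smul' := fun s a => by
        change δ (s • a) = algebraMap S S' s • δ a
        rw [Algebra.smul_def, hS]
      map_one_eq_zero' := h1
      leibniz' := hmul }
  have h2 := Derivation.liftKaehlerDifferential_comp_D d a
  have h3 : KaehlerDifferential.D S S' a = 0 := Subsingleton.elim _ _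
  rw [h3, map_zero] at h2
  exact h2.symm

/-- An operator of finite order relative to `R → S'` that commutes with the scalars from `S`
is `S'`-linear when `S → S'` is formally unramified. -/
theorem isDiffOpLE_zero_of_commutes (n : ℕ) (D' : M' →ₗ[R] N')
    (h : IsDiffOpLE R S' M' N' n D')
    (hS : ∀ (s : S) (x : M'), D' (algebraMap S S' s • x) = algebraMap S S' s • D' x) :
    IsDiffOpLE R S' M' N' 0 D' := by
  induction n generalizing D' with
  | zero => exact h
  | succ n ih =>
    have hlin : ∀ a : S', IsDiffOpLE R S' M' N' 0 (commutator R S' M' N' D' a) := by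
      intro a
      refine ih _ (h a) ?_
      intro s x
      simp only [commutator_apply]
      rw [smul_comm a (algebraMap S S' s) x, hS, hS, smul_sub, smul_comm a (algebraMap S S' s)]
    intro b x
    have key := derivation_like_eq_zero (S := S) (S' := S') (N' := N')
      (fun a => commutator R S' M' N' D' a x) ?_ ?_ ?_ b
    · simp only [commutator_apply] at key
      exact sub_eq_zero.mp key
    · intro a b
      simp only [commutator_apply, add_smul, map_add]
      abel
    · intro s a
      simp only [commutator_apply]
      rw [mul_smul, hS, mul_smul, smul_sub]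
    · intro a b
      simp only [commutator_apply]
      have h1 := hlin a b x
      simp only [commutator_apply] at h1
      -- D'(a b x) - a D'(b x) = b (D'(a x) - a D' x)
      have : D' ((a * b) • x) = a • D' (b • x) + b • (D' (a • x) - a • D' x) := by
        rw [← h1, mul_smul]; abel
      rw [this, mul_smul, smul_sub, smul_sub, smul_comm b a (D' x)]
      abel

end Unram

section Uniq

variable {R S S' : Type u} [CommRing R] [CommRing S] [CommRing S'] [Algebra R S] [Algebra R S']
  [Algebra S S'] [IsScalarTower R S S'] [Algebra.FormallyUnramified S S']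
variable {M : Type u} [AddCommGroup M] [Module S M] [Module R M] [IsScalarTower R S M]
variable {N' : Type u} [AddCommGroup N'] [Module S' N'] [Module R N'] [IsScalarTower R S' N']

theorem eq_zero_of_linear (D' : S' ⊗[S] M →ₗ[R] N')
    (h : IsDiffOpLE R S' (S' ⊗[S] M) N' 0 D') (h0 : ∀ m : M, D' (1 ⊗ₜ[S] m) = 0) : D' = 0 := by
  ext x
  induction x using TensorProduct.induction_on with
  | zero => simp
  | tmul a m =>
    have : a ⊗ₜ[S] m = a • ((1 : S') ⊗ₜ[S] m) := by
      rw [TensorProduct.smul_tmul', smul_eq_mul, mul_one]
    rw [this, h a, h0, smul_zero, LinearMap.zero_apply]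
  | add x y hx hy => rw [map_add, hx, hy]; simp

/-- Uniqueness: an operator of order at most `k` on `S' ⊗[S] M` vanishing on the elements
`1 ⊗ m` is zero, when `S → S'` is formally unramified. -/
theorem eq_zero_of_vanish (k : ℕ) (D' : S' ⊗[S] M →ₗ[R] N')
    (h : IsDiffOpLE R S' (S' ⊗[S] M) N' k D') (h0 : ∀ m : M, D' (1 ⊗ₜ[S] m) = 0) : D' = 0 := by
  induction k generalizing D' with
  | zero => exact eq_zero_of_linear D' h h0
  | succ k ih =>
    have hcomm : ∀ s : S, commutator R S' (S' ⊗[S] M) N' D' (algebraMap S S' s) = 0 := by
      intro s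
      refine ih _ (h _) ?_
      intro m
      rw [commutator_apply, h0, smul_zero, sub_zero, TensorProduct.smul_tmul', smul_eq_mul, mul_one,
        Algebra.algebraMap_eq_smul_one, TensorProduct.smul_tmul, h0]
    have hS : ∀ (s : S) (x : S' ⊗[S] M),
        D' (algebraMap S S' s • x) = algebraMap S S' s • D' x := by
      intro s x
      have := LinearMap.congr_fun (hcomm s) x
      rw [commutator_apply] at this
      simpa [sub_eq_zero] using this
    exact eq_zero_of_linear D' (isDiffOpLE_zero_of_commutes (S := S) (k + 1) D' h hS) h0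

theorem eq_of_agree (k : ℕ) (D₁ D₂ : S' ⊗[S] M →ₗ[R] N')
    (h₁ : IsDiffOpLE R S' (S' ⊗[S] M) N' k D₁) (h₂ : IsDiffOpLE R S' (S' ⊗[S] M) N' k D₂)
    (h0 : ∀ m : M, D₁ (1 ⊗ₜ[S] m) = D₂ (1 ⊗ₜ[S] m)) : D₁ = D₂ := by
  have := eq_zero_of_vanish (S := S) k (D₁ - D₂) (IsDiffOpLE_sub h₁ h₂) (by
    intro m; simp [h0 m])
  exact sub_eq_zero.mp this

end Uniq

section Restrict

variable {R S S' : Type u} [CommRing R] [CommRing S] [CommRing S'] [Algebra R S] [Algebra R S']
  [Algebra S S'] [IsScalarTower R S S']
variable {M : Type v} [AddCommGroup M] [Module S M] [Module R M] [IsScalarTower R S M]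
variable {M' N' : Type v} [AddCommGroup M'] [Module S' M'] [Module R M'] [IsScalarTower R S' M']
  [AddCommGroup N'] [Module S' N'] [Module R N'] [IsScalarTower R S' N']
  [Module S N'] [IsScalarTower S S' N'] [IsScalarTower R S N']

/-- Restricting an operator along a semilinear map `M → M'` keeps the order. -/
theorem restrict_isDiffOpLE (k : ℕ) (D' : M' →ₗ[R] N') (j : M →ₗ[R] M')
    (hj : ∀ (s : S) (m : M), j (s • m) = algebraMap S S' s • j m)
    (h : IsDiffOpLE R S' M' N' k D') : IsDiffOpLE R S M N' k (D' ∘ₗ j) := by
  induction k generalizing D' with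
  | zero =>
    intro s m
    have h1 : D' (algebraMap S S' s • j m) = algebraMap S S' s • D' (j m) := h _ _
    rw [LinearMap.comp_apply, hj, h1, LinearMap.comp_apply]
    exact algebraMap_smul S' s (D' (j m))
  | succ k ih =>
    intro s
    have : commutator R S M N' (D' ∘ₗ j) s
        = commutator R S' M' N' D' (algebraMap S S' s) ∘ₗ j := by
      ext m
      simp only [commutator_apply, LinearMap.comp_apply]
      rw [hj, ← algebraMap_smul S' s (D' (j m))]
    rw [this]
    exact ih _ (h _)

end Restrict

end Groth.Agent.Lib.Helper14.DiffEtale
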