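import Mathlib.RingTheory.Etale.Basic
import Mathlib.RingTheory.Unramified.Basic
import Mathlib.RingTheory.Smooth.Basic
import Mathlib.RingTheory.Kaehler.Basic

/-!
Infinitesimal lifting in ring-hom form, and the ring `(S' ⊗[R] S) ⧸ I ^ (k+1)` where `I` is the
kernel of `S' ⊗[R] S → S'`, together with the lift `σ : S' → (S' ⊗[R] S) ⧸ I ^ (k+1)` of the
right structure along a formally étale map `S → S'`.
-/

set_option autoImplicit false
universe u

namespace Groth.Agent.Lib.Helper14.DiffEtaleLift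

open scoped TensorProduct

section Lift

variable {S S' : Type u} [CommRing S] [CommRing S'] [Algebra S S']

theorem lift_exists [Algebra.FormallySmooth S S'] {B : Type u} [CommRing B] (ρ : S →+* B)
    (g : B →+* S') (hg : Function.Surjective g) (hnil : IsNilpotent (RingHom.ker g))
    (hcomp : ∀ s, g (ρ s) = algebraMap S S' s) :
    ∃ σ : S' →+* B, (∀ s, σ (algebraMap S S' s) = ρ s) ∧ ∀ a, g (σ a) = a := by
  letI : Algebra S B := ρ.toAlgebra
  let gA : B →ₐ[S] S' := { g with commutes' := hcomp }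
  have hgA : Function.Surjective gA := hg
  have hnilA : IsNilpotent (RingHom.ker (gA : B →+* S')) := hnil
  let σA := Algebra.FormallySmooth.liftOfSurjective (AlgHom.id S S') gA hgA hnilA
  refine ⟨σA.toRingHom, fun s => σA.commutes s, fun a => ?_⟩
  exact Algebra.FormallySmooth.liftOfSurjective_apply (AlgHom.id S S') gA hgA hnilA a

theorem lift_unique [Algebra.FormallyUnramified S S'] {B C : Type u} [CommRing B] [CommRing C]
    (g : B →+* C) (hnil : IsNilpotent (RingHom.ker g)) (σ₁ σ₂ : S' →+* B)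
    (hS : ∀ s, σ₁ (algebraMap S S' s) = σ₂ (algebraMap S S' s))
    (hg : ∀ a, g (σ₁ a) = g (σ₂ a)) : σ₁ = σ₂ := by
  letI : Algebra S B := (σ₁.comp (algebraMap S S')).toAlgebra
  let A₁ : S' →ₐ[S] B := { σ₁ with commutes' := fun s => rfl }
  let A₂ : S' →ₐ[S] B := { σ₂ with commutes' := fun s => (hS s).symm }
  have := Algebra.FormallyUnramified.ext' g hnil A₁ A₂ hg
  ext a
  exact AlgHom.congr_fun this a

end Lift

section Q

variable (R S S' : Type u) [CommRing R] [CommRing S] [CommRing S'] [Algebra R S] [Algebra R S']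
  [Algebra S S'] [IsScalarTower R S S']

/-- The map `S' ⊗[R] S → S' ⊗[R] S'`. -/
noncomputable def φ : S' ⊗[R] S →ₐ[S'] S' ⊗[R] S' :=
  Algebra.TensorProduct.map (AlgHom.id S' S') (IsScalarTower.toAlgHom R S S')

/-- Multiplication `S' ⊗[R] S → S'`. -/
noncomputable def μ : S' ⊗[R] S →+* S' :=
  (Algebra.TensorProduct.lmul' R (S := S')).toRingHom.comp (φ R S S').toRingHom

@[simp] theorem φ_tmul (a : S') (s : S) : φ R S S' (a ⊗ₜ[R] s) = a ⊗ₜ[R] algebraMap S S' s := by
  simp [φ]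

@[simp] theorem μ_tmul (a : S') (s : S) : μ R S S' (a ⊗ₜ[R] s) = a * algebraMap S S' s := by
  simp [μ]

/-- The kernel of `S' ⊗[R] S → S'`. -/
noncomputable def I : Ideal (S' ⊗[R] S) :=
  (KaehlerDifferential.ideal R S').comap (φ R S S').toRingHom

theorem I_eq_ker : I R S S' = RingHom.ker (μ R S S') := by
  rw [I, μ, ← RingHom.comap_ker]
  rfl

theorem μ_surjective : Function.Surjective (μ R S S') := fun a => ⟨a ⊗ₜ 1, by simp⟩

/-- `(S' ⊗[R] S) ⧸ I ^ (k+1)`. -/
abbrev Qk (k : ℕ) : Type u := (S' ⊗[R] S) ⧸ (I R S S') ^ (k + 1)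

theorem pow_le_ker (k : ℕ) : (I R S S') ^ (k + 1) ≤ RingHom.ker (μ R S S') := by
  rw [← I_eq_ker]
  exact Ideal.pow_le_self (by omega)

/-- Multiplication `Qk → S'`. -/
noncomputable def μk (k : ℕ) : Qk R S S' k →+* S' :=
  Ideal.Quotient.lift _ (μ R S S') (fun x hx => pow_le_ker R S S' k hx)

@[simp] theorem μk_mk (k : ℕ) (x : S' ⊗[R] S) :
    μk R S S' k (Ideal.Quotient.mk _ x) = μ R S S' x :=
  Ideal.Quotient.lift_mk _ _ _

theorem μk_surjective (k : ℕ) : Function.Surjective (μk R S S' k) := fun a =>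
  ⟨Ideal.Quotient.mk _ (a ⊗ₜ 1), by simp⟩

theorem ker_μk (k : ℕ) :
    RingHom.ker (μk R S S' k) = (I R S S').map (Ideal.Quotient.mk ((I R S S') ^ (k + 1))) := by
  rw [μk, Ideal.ker_quotient_lift, ← I_eq_ker]

theorem ker_μk_pow (k : ℕ) : RingHom.ker (μk R S S' k) ^ (k + 1) = ⊥ := by
  rw [ker_μk, ← Ideal.map_pow, Ideal.map_quotient_self]

theorem isNilpotent_ker_μk (k : ℕ) : IsNilpotent (RingHom.ker (μk R S S' k)) :=
  ⟨k + 1, ker_μk_pow R S S' k⟩

/-- The right structure `S → Qk`. -/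
noncomputable def ρk (k : ℕ) : S →+* Qk R S S' k :=
  (Ideal.Quotient.mk _).comp
    (Algebra.TensorProduct.includeRight : S →ₐ[R] S' ⊗[R] S).toRingHom

/-- The left structure `S' → Qk`. -/
noncomputable def lk (k : ℕ) : S' →+* Qk R S S' k :=
  (Ideal.Quotient.mk _).comp
    (Algebra.TensorProduct.includeLeftRingHom : S' →+* S' ⊗[R] S)

@[simp] theorem ρk_apply (k : ℕ) (s : S) :
    ρk R S S' k s = Ideal.Quotient.mk _ ((1 : S') ⊗ₜ[R] s) := rfl

@[simp] theorem lk_apply (k : ℕ) (a : S') :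
    lk R S S' k a = Ideal.Quotient.mk _ (a ⊗ₜ[R] (1 : S)) := rfl

variable [Algebra.FormallyEtale S S']

theorem exists_σ (k : ℕ) : ∃ σ : S' →+* Qk R S S' k,
    (∀ s, σ (algebraMap S S' s) = ρk R S S' k s) ∧ ∀ a, μk R S S' k (σ a) = a :=
  lift_exists (ρk R S S' k) (μk R S S' k) (μk_surjective R S S' k) (isNilpotent_ker_μk R S S' k)
    (fun s => by simp)

/-- The lift of the right structure. -/
noncomputable def σ (k : ℕ) : S' →+* Qk R S S' k := (exists_σ R S S' k).choose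

theorem σ_algebraMap (k : ℕ) (s : S) :
    σ R S S' k (algebraMap S S' s) = Ideal.Quotient.mk _ ((1 : S') ⊗ₜ[R] s) :=
  (exists_σ R S S' k).choose_spec.1 s

theorem μk_σ (k : ℕ) (a : S') : μk R S S' k (σ R S S' k a) = a :=
  (exists_σ R S S' k).choose_spec.2 a

theorem σ_sub_mem (k : ℕ) (a : S') :
    σ R S S' k a - lk R S S' k a ∈ RingHom.ker (μk R S S' k) := by
  rw [RingHom.mem_ker, map_sub, μk_σ]
  simp

end Q

end Groth.Agent.Lib.Helper14.DiffEtaleLift
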