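import Groth.Agent.Lib.Helper14.DiffEtale
import Groth.Agent.Lib.Helper14.DiffEtaleLift

/-!
Existence of the extension of a differential operator along a formally étale map.
-/

set_option autoImplicit false
universe u

namespace Groth.Agent.Lib.Helper14.DiffEtaleExist

open Diff16 Groth.Agent.Lib.Helper14 Groth.Agent.Lib.Helper14.DiffEtaleLift
open scoped TensorProduct

section Lam

variable {R S S' : Type u} [CommRing R] [CommRing S] [CommRing S'] [Algebra R S] [Algebra R S']
  [Algebra S S'] [IsScalarTower R S S']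
variable {M N : Type u} [AddCommGroup M] [Module S M] [Module R M] [IsScalarTower R S M]
  [AddCommGroup N] [Module S N] [Module R N] [IsScalarTower R S N]

/-- `lam D (a ⊗ s) m = a ⊗ D (s • m)` -/
noncomputable def lam (D : M →ₗ[R] N) : S' ⊗[R] S →ₗ[R] (M →ₗ[R] S' ⊗[S] N) :=
  TensorProduct.lift (LinearMap.mk₂ R
    (fun (a : S') (s : S) => ((TensorProduct.mk S S' N a).restrictScalars R) ∘ₗ D ∘ₗ
      ((LinearMap.lsmul S M s).restrictScalars R))
    (by intros; ext; simp [TensorProduct.add_tmul])
    (by intros; ext; simp [TensorProduct.smul_tmul'])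
    (by intros; ext; simp [add_smul, TensorProduct.tmul_add])
    (by intros; ext; simp [TensorProduct.tmul_smul]))

@[simp] theorem lam_tmul (D : M →ₗ[R] N) (a : S') (s : S) (m : M) :
    lam (S' := S') D (a ⊗ₜ[R] s) m = a ⊗ₜ[S] D (s • m) := by
  simp [lam]

theorem lam_mul_left (D : M →ₗ[R] N) (b : S') (x : S' ⊗[R] S) (m : M) :
    lam D ((b ⊗ₜ[R] (1 : S)) * x) m = b • lam D x m := by
  induction x using TensorProduct.induction_on with
  | zero => simp
  | tmul a s =>
    rw [Algebra.TensorProduct.tmul_mul_tmul, one_mul, lam_tmul, lam_tmul, TensorProduct.smul_tmul',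
      smul_eq_mul]
  | add x y hx hy =>
    rw [mul_add, map_add, LinearMap.add_apply, hx, hy, map_add, LinearMap.add_apply, smul_add]

theorem lam_mul_right (D : M →ₗ[R] N) (s : S) (x : S' ⊗[R] S) (m : M) :
    lam D (((1 : S') ⊗ₜ[R] s) * x) m = lam D x (s • m) := by
  induction x using TensorProduct.induction_on with
  | zero => simp
  | tmul a t =>
    rw [Algebra.TensorProduct.tmul_mul_tmul, one_mul, lam_tmul, lam_tmul, mul_comm, mul_smul]
  | add x y hx hy =>
    rw [mul_add, map_add, LinearMap.add_apply, hx, hy, map_add, LinearMap.add_apply]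

theorem lam_gen (D : M →ₗ[R] N) (s : S) (x : S' ⊗[R] S) :
    lam D (((1 : S') ⊗ₜ[R] s - algebraMap S S' s ⊗ₜ[R] (1 : S)) * x)
      = lam (S' := S') (commutator R S M N D s) x := by
  ext m
  rw [sub_mul, map_sub, LinearMap.sub_apply, lam_mul_right, lam_mul_left]
  induction x using TensorProduct.induction_on with
  | zero => simp
  | tmul a t =>
    rw [lam_tmul, lam_tmul, lam_tmul, commutator_apply, TensorProduct.tmul_sub,
      smul_comm t s m, Algebra.algebraMap_eq_smul_one, smul_assoc, one_smul,
      TensorProduct.smul_tmul', TensorProduct.smul_tmul]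
  | add x y hx hy =>
    simp only [map_add, LinearMap.add_apply, smul_add] at hx hy ⊢
    rw [← hx, ← hy]; abel

/-- the standard generators of `I` -/
noncomputable def gen (R : Type u) {S : Type u} (S' : Type u) [CommRing R] [CommRing S]
    [CommRing S'] [Algebra R S] [Algebra R S'] [Algebra S S'] (s : S) : S' ⊗[R] S :=
  (1 : S') ⊗ₜ[R] s - algebraMap S S' s ⊗ₜ[R] (1 : S)

theorem I_eq_span : I R S S' = Ideal.span (Set.range (gen R S' : S → S' ⊗[R] S)) := by
  apply le_antisymm
  · intro x hx
    rw [I_eq_ker, RingHom.mem_ker] at hx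
    have key : ∀ x : S' ⊗[R] S,
        x - (μ R S S' x) ⊗ₜ[R] (1 : S) ∈ Ideal.span (Set.range (gen R S' : S → S' ⊗[R] S)) := by
      intro x
      induction x using TensorProduct.induction_on with
      | zero => simp
      | tmul a s =>
        have : a ⊗ₜ[R] s - (μ R S S' (a ⊗ₜ[R] s)) ⊗ₜ[R] (1 : S)
            = (a ⊗ₜ[R] (1 : S)) * gen R S' s := by
          rw [gen, mul_sub, Algebra.TensorProduct.tmul_mul_tmul,
            Algebra.TensorProduct.tmul_mul_tmul, μ_tmul]
          simp
        rw [this]
        exact Ideal.mul_mem_left _ _ (Ideal.subset_span ⟨s, rfl⟩)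
      | add x y hx hy =>
        have : x + y - (μ R S S' (x + y)) ⊗ₜ[R] (1 : S)
            = (x - (μ R S S' x) ⊗ₜ[R] (1 : S)) + (y - (μ R S S' y) ⊗ₜ[R] (1 : S)) := by
          rw [map_add, TensorProduct.add_tmul]; abel
        rw [this]
        exact Ideal.add_mem _ hx hy
    have := key x
    rwa [hx, TensorProduct.zero_tmul, sub_zero] at this
  · rw [Ideal.span_le]
    rintro _ ⟨s, rfl⟩
    rw [SetLike.mem_coe, I_eq_ker, RingHom.mem_ker, gen, map_sub, μ_tmul, μ_tmul]
    simp

theorem lam_vanish_step (D : M →ₗ[R] N) (J : Ideal (S' ⊗[R] S))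
    (h : ∀ (s : S), ∀ y ∈ J, lam (S' := S') (commutator R S M N D s) y = 0) :
    ∀ x ∈ I R S S' * J, lam (S' := S') D x = 0 := by
  intro x hx
  induction hx using Submodule.mul_induction_on' with
  | mem_mul_mem g hg y hy =>
    rw [I_eq_span] at hg
    induction hg using Submodule.span_induction generalizing y with
    | mem g hg =>
      obtain ⟨s, rfl⟩ := hg
      rw [gen, lam_gen]
      exact h s y hy
    | zero => simp
    | add g g' _ _ hg hg' => rw [add_mul, map_add, hg y hy, hg' y hy, add_zero]
    | smul q g _ hg =>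
      rw [smul_eq_mul, mul_comm q g, mul_assoc]
      exact hg _ (Ideal.mul_mem_left _ _ hy)
  | add x _ y _ hx hy => rw [map_add, hx, hy, add_zero]

theorem lam_zero_left (x : S' ⊗[R] S) : lam (S' := S') (0 : M →ₗ[R] N) x = 0 := by
  ext m
  induction x using TensorProduct.induction_on with
  | zero => simp
  | tmul a s => simp
  | add x y hx hy => simp only [map_add, LinearMap.add_apply, hx, hy]; simp

theorem lam_vanish (k : ℕ) (D : M →ₗ[R] N) (hD : IsDiffOpLE R S M N k D) :
    ∀ x ∈ (I R S S') ^ (k + 1), lam (S' := S') D x = 0 := by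
  induction k generalizing D with
  | zero =>
    intro x hx
    rw [zero_add, pow_one] at hx
    have hx' : x ∈ I R S S' * ⊤ := by rwa [Ideal.mul_top]
    refine lam_vanish_step D ⊤ ?_ x hx'
    intro s y _
    have : commutator R S M N D s = 0 := by
      ext m
      rw [commutator_apply, hD s m, sub_self, LinearMap.zero_apply]
    rw [this, lam_zero_left]
  | succ k ih =>
    intro x hx
    rw [pow_succ'] at hx
    exact lam_vanish_step D _ (fun s y hy => ih _ (hD s) y hy) x hx

end Lam

section Ext

variable {R S S' : Type u} [CommRing R] [CommRing S] [CommRing S'] [Algebra R S] [Algebra R S']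
  [Algebra S S'] [IsScalarTower R S S']
variable {M N : Type u} [AddCommGroup M] [Module S M] [Module R M] [IsScalarTower R S M]
  [AddCommGroup N] [Module S N] [Module R N] [IsScalarTower R S N]
variable (k : ℕ) (D : M →ₗ[R] N) (hD : IsDiffOpLE R S M N k D)

include hD in
theorem lam_eq_of_mk_eq (x x' : S' ⊗[R] S)
    (h : Ideal.Quotient.mk ((I R S S') ^ (k + 1)) x = Ideal.Quotient.mk _ x') :
    lam (S' := S') D x = lam D x' := by
  rw [Ideal.Quotient.eq] at h
  have := lam_vanish k D hD _ h
  rwa [map_sub, sub_eq_zero] at this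

/-- a set-theoretic section of the quotient map -/
noncomputable def sec (z : Qk R S S' k) : S' ⊗[R] S := (Ideal.Quotient.mk_surjective z).choose

theorem mk_sec (z : Qk R S S' k) : Ideal.Quotient.mk _ (sec k z) = z :=
  (Ideal.Quotient.mk_surjective z).choose_spec

/-- `lam` descended to `Qk`. -/
noncomputable def lamBar : Qk R S S' k →ₗ[R] (M →ₗ[R] S' ⊗[S] N) where
  toFun z := lam (S' := S') D (sec k z)
  map_add' z w := by
    rw [← map_add]
    apply lam_eq_of_mk_eq k D hD
    rw [map_add, mk_sec, mk_sec, mk_sec]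
  map_smul' r z := by
    rw [RingHom.id_apply, ← map_smul]
    apply lam_eq_of_mk_eq k D hD
    rw [mk_sec]
    conv_lhs => rw [← mk_sec k z]
    rfl

theorem lamBar_mk (x : S' ⊗[R] S) :
    lamBar k D hD (Ideal.Quotient.mk _ x) = lam (S' := S') D x := by
  change lam (S' := S') D (sec k _) = _
  apply lam_eq_of_mk_eq k D hD
  rw [mk_sec]

theorem lamBar_mul_left (b : S') (z : Qk R S S' k) (m : M) :
    lamBar k D hD (lk R S S' k b * z) m = b • lamBar k D hD z m := by
  obtain ⟨x, rfl⟩ := Ideal.Quotient.mk_surjective z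
  rw [lk_apply, ← map_mul, lamBar_mk, lamBar_mk, lam_mul_left]

theorem lamBar_mul_right (s : S) (z : Qk R S S' k) (m : M) :
    lamBar k D hD (Ideal.Quotient.mk _ ((1 : S') ⊗ₜ[R] s) * z) m = lamBar k D hD z (s • m) := by
  obtain ⟨x, rfl⟩ := Ideal.Quotient.mk_surjective z
  rw [← map_mul, lamBar_mk, lamBar_mk, lam_mul_right]

variable [Algebra.FormallyEtale S S']

/-- additive version of the operator attached to `y`. -/
noncomputable def Eadd (y : Qk R S S' k) : S' ⊗[S] M →+ S' ⊗[S] N :=
  TensorProduct.liftAddHom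
    { toFun := fun a => (lamBar k D hD (y * σ R S S' k a)).toAddMonoidHom
      map_zero' := by ext m; simp
      map_add' := fun a b => by ext m; simp [mul_add] }
    (fun s a m => by
      change lamBar k D hD (y * σ R S S' k (s • a)) m = lamBar k D hD (y * σ R S S' k a) (s • m)
      rw [Algebra.smul_def, map_mul (σ R S S' k), σ_algebraMap, ← lamBar_mul_right,
        mul_left_comm])

theorem Eadd_tmul (y : Qk R S S' k) (a : S') (m : M) :
    Eadd k D hD y (a ⊗ₜ[S] m) = lamBar k D hD (y * σ R S S' k a) m := by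
  simp [Eadd]

/-- the operator attached to `y : Qk`. -/
noncomputable def E (y : Qk R S S' k) : S' ⊗[S] M →ₗ[R] S' ⊗[S] N :=
  { Eadd k D hD y with
    map_smul' := fun r x => by
      simp only [AddMonoidHom.toFun_eq_coe, ZeroHom.toFun_eq_coe, AddMonoidHom.toZeroHom_coe,
        RingHom.id_apply]
      induction x using TensorProduct.induction_on with
      | zero => simp
      | tmul a m =>
        rw [← TensorProduct.tmul_smul, Eadd_tmul, Eadd_tmul, map_smul]
      | add x y hx hy => rw [smul_add, map_add, hx, hy, map_add, smul_add] }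

theorem E_tmul (y : Qk R S S' k) (a : S') (m : M) :
    E k D hD y (a ⊗ₜ[S] m) = lamBar k D hD (y * σ R S S' k a) m :=
  Eadd_tmul k D hD y a m

theorem E_zero : E k D hD (0 : Qk R S S' k) = 0 := by
  ext x
  induction x using TensorProduct.induction_on with
  | zero => simp
  | tmul a m => rw [E_tmul, zero_mul, map_zero]; rfl
  | add x y hx hy => rw [map_add, hx, hy]; simp

theorem E_commutator (y : Qk R S S' k) (b : S') :
    commutator R S' (S' ⊗[S] M) (S' ⊗[S] N) (E k D hD y) b
      = E k D hD (y * (σ R S S' k b - lk R S S' k b)) := by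
  ext x
  induction x using TensorProduct.induction_on with
  | zero => simp
  | tmul a m =>
    have hX : y * σ R S S' k (b * a) = y * (σ R S S' k b - lk R S S' k b) * σ R S S' k a
        + lk R S S' k b * (y * σ R S S' k a) := by
      rw [map_mul (σ R S S' k)]; ring
    rw [commutator_apply, TensorProduct.smul_tmul', smul_eq_mul, E_tmul, E_tmul, E_tmul,
      hX, map_add, LinearMap.add_apply, lamBar_mul_left, add_sub_cancel_right]
  | add x y hx hy => rw [map_add, hx, hy, map_add]

theorem E_order (n : ℕ) : ∀ (j : ℕ), k ≤ j + n → ∀ y ∈ (RingHom.ker (μk R S S' k)) ^ j,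
    IsDiffOpLE R S' (S' ⊗[S] M) (S' ⊗[S] N) n (E k D hD y) := by
  induction n with
  | zero =>
    intro j hj y hy b x
    have hmem : y * (σ R S S' k b - lk R S S' k b) ∈ (RingHom.ker (μk R S S' k)) ^ (j + 1) := by
      have := Ideal.mul_mem_mul hy (σ_sub_mem R S S' k b)
      rwa [← pow_succ (RingHom.ker (μk R S S' k)) j] at this
    have hle : (RingHom.ker (μk R S S' k)) ^ (j + 1) ≤ (RingHom.ker (μk R S S' k)) ^ (k + 1) :=
      Ideal.pow_le_pow_right (by omega)
    have hz : y * (σ R S S' k b - lk R S S' k b) = 0 := by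
      have := hle hmem
      rw [ker_μk_pow] at this
      simpa using this
    have h1 := E_commutator k D hD y b
    rw [hz, E_zero] at h1
    have h2 := LinearMap.congr_fun h1 x
    rw [commutator_apply, LinearMap.zero_apply, sub_eq_zero] at h2
    exact h2
  | succ n ih =>
    intro j hj y hy b
    rw [E_commutator]
    refine ih (j + 1) (by omega) _ ?_
    have := Ideal.mul_mem_mul hy (σ_sub_mem R S S' k b)
    rwa [← pow_succ (RingHom.ker (μk R S S' k)) j] at this

include hD in
theorem exists_extension : ∃ D' : S' ⊗[S] M →ₗ[R] S' ⊗[S] N,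
    IsDiffOpLE R S' (S' ⊗[S] M) (S' ⊗[S] N) k D' ∧ ∀ m : M, D' (1 ⊗ₜ[S] m) = 1 ⊗ₜ[S] D m := by
  refine ⟨E k D hD 1, E_order k D hD k 0 (by omega) 1 (by
    have h0 : (RingHom.ker (μk R S S' k)) ^ 0 = ⊤ := by
      rw [pow_zero (RingHom.ker (μk R S S' k)), Ideal.one_eq_top]
    rw [h0]; trivial), fun m => ?_⟩
  rw [E_tmul, map_one, mul_one]
  have : (1 : Qk R S S' k) = Ideal.Quotient.mk _ ((1 : S') ⊗ₜ[R] (1 : S)) := by
    rw [← Algebra.TensorProduct.one_def, map_one]
  rw [this, lamBar_mk, lam_tmul, one_smul]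

end Ext

end Groth.Agent.Lib.Helper14.DiffEtaleExist
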