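import Groth.Prelude.Def_DiffOp
import Mathlib.RingTheory.Kaehler.Basic
import Mathlib.Algebra.BigOperators.Group.Finset.Basic

/-!
Basic lemmas on `Diff16.IsDiffOpLE` (differential operators of bounded order).
-/

set_option autoImplicit false
universe u v

namespace Groth.Agent.Lib.Helper14

open Diff16

section

variable {A B : Type u} [CommRing A] [CommRing B] [Algebra A B]
variable {M N : Type v} [AddCommGroup M] [Module A M] [Module B M] [IsScalarTower A B M]
  [AddCommGroup N] [Module A N] [Module B N] [IsScalarTower A B N]

theorem commutator_apply (D : M →ₗ[A] N) (b : B) (m : M) :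
    commutator A B M N D b m = D (b • m) - b • D m := by
  simp [Diff16.commutator]

theorem isDiffOpLE_zero_iff (D : M →ₗ[A] N) :
    IsDiffOpLE A B M N 0 D ↔ ∀ (b : B) (m : M), D (b • m) = b • D m := Iff.rfl

theorem isDiffOpLE_succ_iff (n : ℕ) (D : M →ₗ[A] N) :
    IsDiffOpLE A B M N (n + 1) D ↔ ∀ b : B, IsDiffOpLE A B M N n (commutator A B M N D b) :=
  Iff.rfl

theorem commutator_zero_left (b : B) : commutator A B M N 0 b = 0 := by
  ext m; simp [commutator_apply]

theorem commutator_add_left (D D' : M →ₗ[A] N) (b : B) :
    commutator A B M N (D + D') b = commutator A B M N D b + commutator A B M N D' b := by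
  ext m; simp [commutator_apply]; abel

theorem commutator_neg_left (D : M →ₗ[A] N) (b : B) :
    commutator A B M N (-D) b = - commutator A B M N D b := by
  ext m; simp [commutator_apply]; abel

theorem commutator_sub_left (D D' : M →ₗ[A] N) (b : B) :
    commutator A B M N (D - D') b = commutator A B M N D b - commutator A B M N D' b := by
  ext m; simp [commutator_apply, smul_sub]; abel

theorem isDiffOpLE_zero_map (n : ℕ) : IsDiffOpLE A B M N n (0 : M →ₗ[A] N) := by
  induction n with
  | zero => intro b m; simp
  | succ n ih => intro b; rw [commutator_zero_left]; exact ih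

theorem IsDiffOpLE_add {n : ℕ} {D D' : M →ₗ[A] N} (h : IsDiffOpLE A B M N n D)
    (h' : IsDiffOpLE A B M N n D') : IsDiffOpLE A B M N n (D + D') := by
  induction n generalizing D D' with
  | zero =>
    intro b m
    have h1 := h b m
    have h2 := h' b m
    simp [h1, h2]
  | succ n ih =>
    intro b
    rw [commutator_add_left]
    exact ih (h b) (h' b)

theorem IsDiffOpLE_neg {n : ℕ} {D : M →ₗ[A] N} (h : IsDiffOpLE A B M N n D) :
    IsDiffOpLE A B M N n (-D) := by
  induction n generalizing D with
  | zero =>
    intro b m
    have h1 := h b m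
    simp [h1]
  | succ n ih =>
    intro b
    rw [commutator_neg_left]
    exact ih (h b)

theorem IsDiffOpLE_sub {n : ℕ} {D D' : M →ₗ[A] N} (h : IsDiffOpLE A B M N n D)
    (h' : IsDiffOpLE A B M N n D') : IsDiffOpLE A B M N n (D - D') := by
  rw [sub_eq_add_neg]
  exact IsDiffOpLE_add h (IsDiffOpLE_neg h')

theorem IsDiffOpLE_succ {n : ℕ} {D : M →ₗ[A] N} (h : IsDiffOpLE A B M N n D) :
    IsDiffOpLE A B M N (n + 1) D := by
  induction n generalizing D with
  | zero =>
    intro b
    have : commutator A B M N D b = 0 := by
      ext m; simp [commutator_apply, h b m]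
    rw [this]
    exact isDiffOpLE_zero_map 0
  | succ n ih =>
    intro b
    exact ih (h b)

theorem IsDiffOpLE_mono {n k : ℕ} (hnk : n ≤ k) {D : M →ₗ[A] N} (h : IsDiffOpLE A B M N n D) :
    IsDiffOpLE A B M N k D := by
  induction hnk with
  | refl => exact h
  | step _ ih => exact IsDiffOpLE_succ ih

end

section comp

variable {A B : Type u} [CommRing A] [CommRing B] [Algebra A B]
variable {M N P : Type v} [AddCommGroup M] [Module A M] [Module B M] [IsScalarTower A B M]
  [AddCommGroup N] [Module A N] [Module B N] [IsScalarTower A B N]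
  [AddCommGroup P] [Module A P] [Module B P] [IsScalarTower A B P]

theorem commutator_comp (D : M →ₗ[A] N) (D' : N →ₗ[A] P) (b : B) :
    commutator A B M P (D' ∘ₗ D) b =
      D' ∘ₗ commutator A B M N D b + commutator A B N P D' b ∘ₗ D := by
  ext m
  simp [commutator_apply]

theorem IsDiffOpLE_comp {n n' : ℕ} {D : M →ₗ[A] N} {D' : N →ₗ[A] P}
    (hD : IsDiffOpLE A B M N n D) (hD' : IsDiffOpLE A B N P n' D') :
    IsDiffOpLE A B M P (n + n') (D' ∘ₗ D) := by
  induction hk : n + n' using Nat.strong_induction_on generalizing n n' D D' with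
  | _ k ih =>
    subst hk
    rcases Nat.eq_zero_or_pos (n + n') with h0 | hpos
    · have hn : n = 0 := by omega
      have hn' : n' = 0 := by omega
      subst hn hn'
      intro b m
      have h1 := hD b m
      have h2 := hD' b (D m)
      simp [h1, h2]
    · obtain ⟨k, hk⟩ : ∃ k, n + n' = k + 1 := ⟨n + n' - 1, by omega⟩
      rw [hk]
      intro b
      rw [commutator_comp]
      apply IsDiffOpLE_add
      · -- D' ∘ [D, b]
        rcases Nat.eq_zero_or_pos n with hn | hn
        · subst hn
          have : commutator A B M N D b = 0 := by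
            ext m; simp [commutator_apply, hD b m]
          rw [this, LinearMap.comp_zero]
          exact isDiffOpLE_zero_map k
        · obtain ⟨j, rfl⟩ : ∃ j, n = j + 1 := ⟨n - 1, by omega⟩
          have hk' : k = j + n' := by omega
          have := ih (j + n') (by omega) (hD b) hD' rfl
          rw [hk']; exact this
      · rcases Nat.eq_zero_or_pos n' with hn | hn
        · subst hn
          have : commutator A B N P D' b = 0 := by
            ext m; simp [commutator_apply, hD' b m]
          rw [this, LinearMap.zero_comp]
          exact isDiffOpLE_zero_map k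
        · obtain ⟨j, rfl⟩ : ∃ j, n' = j + 1 := ⟨n' - 1, by omega⟩
          have hk' : k = n + j := by omega
          have := ih (n + j) (by omega) hD (hD' b) rfl
          rw [hk']; exact this

end comp

section generators

variable {A B : Type u} [CommRing A] [CommRing B] [Algebra A B]
variable {M N : Type v} [AddCommGroup M] [Module A M] [Module B M] [IsScalarTower A B M]
  [AddCommGroup N] [Module A N] [Module B N] [IsScalarTower A B N]

/-- multiplication by `b` as an `A`-linear map. -/
noncomputable def mulMap (A : Type u) {B : Type u} [CommRing A] [CommRing B] [Algebra A B]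
    (M : Type v) [AddCommGroup M] [Module A M] [Module B M] [IsScalarTower A B M] (b : B) :
    M →ₗ[A] M :=
  (LinearMap.lsmul B M b).restrictScalars A

@[simp] theorem mulMap_apply (b : B) (m : M) : mulMap A M b m = b • m := rfl

theorem isDiffOpLE_mulMap (b : B) : IsDiffOpLE A B M M 0 (mulMap A M b) := by
  intro c m
  simp [smul_smul, mul_comm]

theorem commutator_algebraMap (D : M →ₗ[A] N) (a : A) :
    commutator A B M N D (algebraMap A B a) = 0 := by
  ext m
  simp [commutator_apply, algebraMap_smul]

theorem commutator_add_right (D : M →ₗ[A] N) (b b' : B) :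
    commutator A B M N D (b + b') = commutator A B M N D b + commutator A B M N D b' := by
  ext m
  simp [commutator_apply, add_smul]; abel

theorem commutator_mul_right (D : M →ₗ[A] N) (b b' : B) :
    commutator A B M N D (b * b') =
      commutator A B M N D b ∘ₗ mulMap A M b' + mulMap A N b ∘ₗ commutator A B M N D b' := by
  ext m
  simp [commutator_apply, mul_smul, smul_sub]

theorem IsDiffOpLE_comp_mulMap {n : ℕ} {D : M →ₗ[A] N} (h : IsDiffOpLE A B M N n D) (b : B) :
    IsDiffOpLE A B M N n (D ∘ₗ mulMap A M b) := by
  have := IsDiffOpLE_comp (isDiffOpLE_mulMap (A := A) (M := M) b) h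
  simpa using this

theorem IsDiffOpLE_mulMap_comp {n : ℕ} {D : M →ₗ[A] N} (h : IsDiffOpLE A B M N n D) (b : B) :
    IsDiffOpLE A B M N n (mulMap A N b ∘ₗ D) := by
  have := IsDiffOpLE_comp h (isDiffOpLE_mulMap (A := A) (M := N) b)
  simpa using this

theorem IsDiffOpLE_succ_of_generators (s : Set B) (hs : Algebra.adjoin A s = ⊤) (n : ℕ)
    (D : M →ₗ[A] N)
    (hD : ∀ g ∈ s, IsDiffOpLE A B M N n (commutator A B M N D g)) :
    IsDiffOpLE A B M N (n + 1) D := by
  intro b
  have hb : b ∈ Algebra.adjoin A s := by rw [hs]; trivial
  induction hb using Algebra.adjoin_induction with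
  | mem x hx => exact hD x hx
  | algebraMap r => rw [commutator_algebraMap]; exact isDiffOpLE_zero_map n
  | add x y _ _ hx hy => rw [commutator_add_right]; exact IsDiffOpLE_add hx hy
  | mul x y _ _ hx hy =>
    rw [commutator_mul_right]
    exact IsDiffOpLE_add (IsDiffOpLE_comp_mulMap hx y) (IsDiffOpLE_mulMap_comp hy x)

end generators

end Groth.Agent.Lib.Helper14
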