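import Mathlib

/-!
# Dimension formula `dim B = dim A + dim B/m_A B` under a weak going-down hypothesis
-/

open IsLocalRing Pointwise

namespace Groth.Agent.Lib.Helper14.DimFormula

section LE

variable (A B : Type*) [CommRing A] [CommRing B] [IsLocalRing A]
  [IsLocalRing B] [Algebra A B] [IsLocalHom (algebraMap A B)]

theorem isLocalRing_quot (J : Ideal B) (hJ : J ≠ ⊤) : IsLocalRing (B ⧸ J) := by
  have : Nontrivial (B ⧸ J) := Ideal.Quotient.nontrivial_iff.mpr hJ
  exact IsLocalRing.of_surjective' (Ideal.Quotient.mk J) Ideal.Quotient.mk_surjective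

theorem map_mk_maximalIdeal (J : Ideal B) [IsLocalRing (B ⧸ J)] :
    (maximalIdeal B).map (Ideal.Quotient.mk J) = maximalIdeal (B ⧸ J) := by
  have hJ : J ≠ ⊤ := by
    intro h
    have : Subsingleton (B ⧸ J) := Ideal.Quotient.subsingleton_iff.mpr h
    exact not_subsingleton (B ⧸ J) this
  rcases Ideal.map_eq_top_or_isMaximal_of_surjective (Ideal.Quotient.mk J)
    Ideal.Quotient.mk_surjective (maximalIdeal.isMaximal B) with h | h
  · exfalso
    have h1 : (1 : B ⧸ J) ∈ (maximalIdeal B).map (Ideal.Quotient.mk J) := by rw [h]; trivial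
    rw [Ideal.mem_map_iff_of_surjective _ Ideal.Quotient.mk_surjective] at h1
    obtain ⟨x, hx, hx1⟩ := h1
    have h2 : x - 1 ∈ J := by
      rw [← Ideal.Quotient.eq_zero_iff_mem, map_sub, hx1, map_one, sub_self]
    have h3 : x - 1 ∈ maximalIdeal B := le_maximalIdeal hJ h2
    have h4 : (1 : B) ∈ maximalIdeal B := by
      have := (maximalIdeal B).sub_mem hx h3
      simp at this
    exact (maximalIdeal.isMaximal B).ne_top ((Ideal.eq_top_iff_one _).mpr h4)
  · exact eq_maximalIdeal h

theorem dim_le [IsNoetherianRing A] [IsNoetherianRing B] [IsLocalRing (B ⧸ (maximalIdeal A).map (algebraMap A B))] :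
    ringKrullDim B ≤
      ringKrullDim A + ringKrullDim (B ⧸ (maximalIdeal A).map (algebraMap A B)) := by
  have h := Ideal.height_le_height_add_of_liesOver (maximalIdeal A) (maximalIdeal B)
  rw [map_mk_maximalIdeal] at h
  rw [← maximalIdeal_height_eq_ringKrullDim, ← maximalIdeal_height_eq_ringKrullDim,
    ← maximalIdeal_height_eq_ringKrullDim]
  exact_mod_cast h

end LE

section GE

/-- The weak going-down hypothesis. -/
def H (A B : Type*) [CommRing A] [CommRing B] [IsLocalRing A] [Algebra A B] : Prop :=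
  ∀ p : Ideal A, p.IsPrime → p ≠ maximalIdeal A →
    ∀ q ∈ (p.map (algebraMap A B)).minimalPrimes, q.comap (algebraMap A B) ≠ maximalIdeal A

theorem dim_quot_succ_le (R : Type*) [CommRing R] [IsNoetherianRing R] (y : R)
    (hy : ∀ p ∈ minimalPrimes R, y ∉ p) :
    ringKrullDim (R ⧸ Ideal.span {y}) + 1 ≤ ringKrullDim R := by
  have h : Ideal.span {y} = y • (⊤ : Ideal R) := by simp [← Submodule.ideal_span_singleton_smul]
  rw [ringKrullDim_eq_of_ringEquiv (Ideal.quotientEquivAlgOfEq R h).toRingEquiv,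
    ← Module.supportDim_quotient_eq_ringKrullDim, ← Module.supportDim_self_eq_ringKrullDim]
  apply Module.supportDim_quotSMulTop_succ_le_of_notMem_minimalPrimes
  have : Module.annihilator R R = ⊥ := Module.annihilator_eq_bot.mpr inferInstance
  rw [this]
  exact hy

theorem dim_quot_succ_eq (R : Type*) [CommRing R] [IsNoetherianRing R] [IsLocalRing R] (y : R)
    (hy : ∀ p ∈ minimalPrimes R, y ∉ p) (hym : y ∈ maximalIdeal R) :
    ringKrullDim (R ⧸ Ideal.span {y}) + 1 = ringKrullDim R := by
  have h : Ideal.span {y} = y • (⊤ : Ideal R) := by simp [← Submodule.ideal_span_singleton_smul]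
  rw [ringKrullDim_eq_of_ringEquiv (Ideal.quotientEquivAlgOfEq R h).toRingEquiv,
    ← Module.supportDim_quotient_eq_ringKrullDim, ← Module.supportDim_self_eq_ringKrullDim]
  apply Module.supportDim_quotSMulTop_succ_eq_of_notMem_minimalPrimes_of_mem_maximalIdeal _ hym
  have : Module.annihilator R R = ⊥ := Module.annihilator_eq_bot.mpr inferInstance
  rw [this]
  exact hy

theorem exists_avoid (A B : Type*) [CommRing A] [CommRing B] [IsNoetherianRing A]
    [IsNoetherianRing B] [IsLocalRing A] [IsLocalRing B] [Algebra A B]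
    [IsLocalHom (algebraMap A B)] (h : H A B) (hd : maximalIdeal A ∉ minimalPrimes A) :
    ∃ x ∈ maximalIdeal A, (∀ p ∈ minimalPrimes A, x ∉ p) ∧
      (∀ P ∈ minimalPrimes B, algebraMap A B x ∉ P) := by
  classical
  have hA := minimalPrimes.finite_of_isNoetherianRing A
  have hB := minimalPrimes.finite_of_isNoetherianRing B
  let s : Finset (Ideal A) := hA.toFinset ∪ hB.toFinset.image (Ideal.comap (algebraMap A B))
  have hprime : ∀ i ∈ s, i.IsPrime := by
    intro i hi
    rcases Finset.mem_union.mp hi with hi | hi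
    · exact ((Set.Finite.mem_toFinset hA).mp hi).1.1
    · obtain ⟨P, hP, rfl⟩ := Finset.mem_image.mp hi
      have : P.IsPrime := ((Set.Finite.mem_toFinset hB).mp hP).1.1
      exact Ideal.IsPrime.comap _
  by_contra hcon
  push Not at hcon
  have hsub : ((maximalIdeal A : Ideal A) : Set A) ⊆ ⋃ i ∈ (↑s : Set (Ideal A)), (i : Set A) := by
    intro x hx
    by_cases h1 : ∀ p ∈ minimalPrimes A, x ∉ p
    · obtain ⟨P, hP, hxP⟩ := hcon x hx h1
      refine Set.mem_biUnion (x := P.comap (algebraMap A B)) ?_ hxP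
      exact Finset.mem_coe.mpr (Finset.mem_union_right _
        (Finset.mem_image_of_mem _ ((Set.Finite.mem_toFinset hB).mpr hP)))
    · push Not at h1
      obtain ⟨p, hp, hxp⟩ := h1
      exact Set.mem_biUnion (x := p)
        (Finset.mem_coe.mpr (Finset.mem_union_left _ ((Set.Finite.mem_toFinset hA).mpr hp))) hxp
  obtain ⟨i, his, hi⟩ := (Ideal.subset_union_prime (f := fun i : Ideal A => i) ⊥ ⊥
    (fun i hi _ _ => hprime i hi)).mp hsub
  have hip := hprime i his
  have hieq : i = maximalIdeal A := le_antisymm (le_maximalIdeal hip.ne_top) hi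
  rcases Finset.mem_union.mp his with hi' | hi'
  · exact hd (hieq ▸ (Set.Finite.mem_toFinset hA).mp hi')
  · obtain ⟨P, hP, hPi⟩ := Finset.mem_image.mp hi'
    have hPmin : P ∈ minimalPrimes B := (Set.Finite.mem_toFinset hB).mp hP
    have hPprime : P.IsPrime := hPmin.1.1
    obtain ⟨p₀, hp₀, hp₀le⟩ := Ideal.exists_minimalPrimes_le
      (I := (⊥ : Ideal A)) (J := P.comap (algebraMap A B)) bot_le
    have hp₀ne : p₀ ≠ maximalIdeal A := fun e => hd (e ▸ hp₀)
    have hPmin' : P ∈ (p₀.map (algebraMap A B)).minimalPrimes := by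
      refine ⟨⟨hPprime, Ideal.map_le_iff_le_comap.mpr hp₀le⟩, ?_⟩
      intro Q hQ hQP
      exact hPmin.2 ⟨hQ.1, bot_le⟩ hQP
    exact h p₀ hp₀.1.1 hp₀ne P hPmin' (hPi.trans hieq)

end GE

section Induct

universe u

theorem isUnit_mk_iff {B : Type*} [CommRing B] [IsLocalRing B] (J : Ideal B) (hJ : J ≠ ⊤) (b : B) :
    IsUnit (Ideal.Quotient.mk J b) ↔ IsUnit b := by
  refine ⟨fun h => ?_, fun h => h.map _⟩
  by_contra hb
  have hbm : b ∈ maximalIdeal B := (mem_maximalIdeal b).mpr hb
  have := isLocalRing_quot B J hJ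
  have : Ideal.Quotient.mk J b ∈ maximalIdeal (B ⧸ J) := by
    rw [← map_mk_maximalIdeal]
    exact Ideal.mem_map_of_mem _ hbm
  exact (mem_maximalIdeal _).mp this h

theorem H_quot (A B : Type*) [CommRing A] [CommRing B] [IsLocalRing A] [IsLocalRing B]
    [Algebra A B] [IsLocalHom (algebraMap A B)] (h : H A B) (I : Ideal A) (hI : I ≠ ⊤)
    [IsLocalRing (A ⧸ I)] :
    H (A ⧸ I) (B ⧸ I.map (algebraMap A B)) := by
  intro p' hp' hp'ne q' hq' hcon
  have hsurjA : Function.Surjective (Ideal.Quotient.mk I) := Ideal.Quotient.mk_surjective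
  have hsurjB : Function.Surjective (Ideal.Quotient.mk (I.map (algebraMap A B))) :=
    Ideal.Quotient.mk_surjective
  have hcomm : (algebraMap (A ⧸ I) (B ⧸ I.map (algebraMap A B))).comp (Ideal.Quotient.mk I) =
      (Ideal.Quotient.mk (I.map (algebraMap A B))).comp (algebraMap A B) := rfl
  set p := p'.comap (Ideal.Quotient.mk I) with hp
  have hpprime : p.IsPrime := Ideal.IsPrime.comap _
  have hp'eq : p' = p.map (Ideal.Quotient.mk I) := (Ideal.map_comap_of_surjective _ hsurjA p').symm
  have hIp : I ≤ p := by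
    intro x hx
    rw [hp, Ideal.mem_comap, Ideal.Quotient.eq_zero_iff_mem.mpr hx]
    exact zero_mem _
  have hpne : p ≠ maximalIdeal A := by
    intro e
    apply hp'ne
    rw [hp'eq, e, map_mk_maximalIdeal]
  set q := q'.comap (Ideal.Quotient.mk (I.map (algebraMap A B))) with hq
  have hmapeq : p'.map (algebraMap (A ⧸ I) (B ⧸ I.map (algebraMap A B))) =
      (p.map (algebraMap A B)).map (Ideal.Quotient.mk (I.map (algebraMap A B))) := by
    rw [hp'eq, Ideal.map_map, Ideal.map_map, hcomm]
  have hcomapeq : (p'.map (algebraMap (A ⧸ I) (B ⧸ I.map (algebraMap A B)))).comap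
      (Ideal.Quotient.mk (I.map (algebraMap A B))) = p.map (algebraMap A B) := by
    rw [hmapeq, Ideal.comap_map_of_surjective _ hsurjB, ← RingHom.ker_eq_comap_bot,
      Ideal.mk_ker, sup_eq_left]
    exact Ideal.map_mono hIp
  have hqmin : q ∈ (p.map (algebraMap A B)).minimalPrimes := by
    rw [← hcomapeq]
    exact Ideal.minimalPrimes_comap_of_surjective hsurjB hq'
  apply h p hpprime hpne q hqmin
  have h1 : q.comap (algebraMap A B) = (q'.comap (algebraMap (A ⧸ I) (B ⧸ I.map (algebraMap A B)))).comap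
      (Ideal.Quotient.mk I) := by
    rw [hq, Ideal.comap_comap, Ideal.comap_comap, hcomm]
  rw [h1, hcon]
  have hmax : ((maximalIdeal (A ⧸ I)).comap (Ideal.Quotient.mk I)).IsMaximal :=
    Ideal.comap_isMaximal_of_surjective _ hsurjA
  exact eq_maximalIdeal hmax

theorem dim_ge : ∀ (d : ℕ) (A B : Type u) [CommRing A] [CommRing B] [IsNoetherianRing A]
    [IsNoetherianRing B] [IsLocalRing A] [IsLocalRing B] [Algebra A B]
    [IsLocalHom (algebraMap A B)], H A B → ringKrullDim A = d →
    ringKrullDim A + ringKrullDim (B ⧸ (maximalIdeal A).map (algebraMap A B)) ≤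
      ringKrullDim B := by
  intro d
  induction d with
  | zero =>
    intro A B _ _ _ _ _ _ _ _ _ hd
    rw [hd, Nat.cast_zero, zero_add]
    exact ringKrullDim_quotient_le _
  | succ d ih =>
    intro A B _ _ _ _ _ _ _ _ h hd
    have hmin : maximalIdeal A ∉ minimalPrimes A := by
      intro hm
      rw [← Ideal.height_eq_zero_iff] at hm
      have h1 := maximalIdeal_height_eq_ringKrullDim (R := A)
      rw [hm, hd] at h1
      have : ((0 : ℕ∞) : WithBot ℕ∞) = ((d + 1 : ℕ) : WithBot ℕ∞) := h1
      have h2 : (0 : ℕ∞) = ((d + 1 : ℕ) : ℕ∞) := WithBot.coe_injective this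
      exact absurd (ENat.natCast_inj.mp h2) (by omega)
    obtain ⟨x, hxm, hxA, hxB⟩ := exists_avoid A B h hmin
    set I : Ideal A := Ideal.span {x} with hI
    have hIm : I ≤ maximalIdeal A := (Ideal.span_singleton_le_iff_mem _).mpr hxm
    have hItop : I ≠ ⊤ := fun e => (maximalIdeal.isMaximal A).ne_top (top_le_iff.mp (e ▸ hIm))
    have hIBm : I.map (algebraMap A B) ≤ maximalIdeal B :=
      (Ideal.map_mono hIm).trans (map_maximalIdeal_le (algebraMap A B))
    have hIBtop : I.map (algebraMap A B) ≠ ⊤ :=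
      fun e => (maximalIdeal.isMaximal B).ne_top (top_le_iff.mp (e ▸ hIBm))
    have : IsLocalRing (A ⧸ I) := isLocalRing_quot A I hItop
    have : IsLocalRing (B ⧸ I.map (algebraMap A B)) := isLocalRing_quot B _ hIBtop
    have : IsLocalHom (algebraMap (A ⧸ I) (B ⧸ I.map (algebraMap A B))) := by
      constructor
      intro a' ha'
      obtain ⟨a, rfl⟩ := Ideal.Quotient.mk_surjective a'
      rw [Ideal.Quotient.algebraMap_quotient_map_quotient, isUnit_mk_iff _ hIBtop] at ha'
      exact (isUnit_of_map_unit (algebraMap A B) a ha').map _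
    have hH' := H_quot A B h I hItop
    have hdA : ringKrullDim (A ⧸ I) + 1 = ringKrullDim A := dim_quot_succ_eq A x hxA hxm
    have hdA' : ringKrullDim (A ⧸ I) = d := by
      rw [hd] at hdA
      induction hr : ringKrullDim (A ⧸ I) with
      | bot =>
        rw [hr, WithBot.bot_add] at hdA
        exact absurd hdA.symm (WithBot.natCast_ne_bot _)
      | coe n =>
        rw [hr] at hdA
        have h2 : n + 1 = ((d + 1 : ℕ) : ℕ∞) := by exact_mod_cast hdA
        have h3 : n = (d : ℕ∞) := by
          have : n + 1 = (d : ℕ∞) + 1 := by rw [h2]; push_cast; rfl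
          exact (ENat.add_left_injective_of_ne_top (by simp) ) this
        rw [h3]; rfl
    have hIH := ih (A ⧸ I) (B ⧸ I.map (algebraMap A B)) hH' hdA'
    have hIB : I.map (algebraMap A B) = Ideal.span {algebraMap A B x} := by
      rw [hI, Ideal.map_span, Set.image_singleton]
    have hdB : ringKrullDim (B ⧸ I.map (algebraMap A B)) + 1 ≤ ringKrullDim B := by
      rw [hIB]; exact dim_quot_succ_le B _ hxB
    -- fibre rings agree
    have hfib : ringKrullDim ((B ⧸ I.map (algebraMap A B)) ⧸
        (maximalIdeal (A ⧸ I)).map (algebraMap (A ⧸ I) (B ⧸ I.map (algebraMap A B)))) =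
        ringKrullDim (B ⧸ (maximalIdeal A).map (algebraMap A B)) := by
      have hcomm : (algebraMap (A ⧸ I) (B ⧸ I.map (algebraMap A B))).comp (Ideal.Quotient.mk I) =
        (Ideal.Quotient.mk (I.map (algebraMap A B))).comp (algebraMap A B) := rfl
      have e1 : (maximalIdeal (A ⧸ I)).map (algebraMap (A ⧸ I) (B ⧸ I.map (algebraMap A B))) =
          ((maximalIdeal A).map (algebraMap A B)).map
            (Ideal.Quotient.mk (I.map (algebraMap A B))) := by
        rw [← map_mk_maximalIdeal, Ideal.map_map, Ideal.map_map, hcomm]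
      have e2 : I.map (algebraMap A B) ⊔ (maximalIdeal A).map (algebraMap A B) =
          (maximalIdeal A).map (algebraMap A B) := sup_eq_right.mpr (Ideal.map_mono hIm)
      rw [ringKrullDim_eq_of_ringEquiv (Ideal.quotEquivOfEq e1),
        ringKrullDim_eq_of_ringEquiv (DoubleQuot.quotQuotEquivQuotSup _ _),
        ringKrullDim_eq_of_ringEquiv (Ideal.quotEquivOfEq e2)]
    rw [hfib] at hIH
    calc ringKrullDim A + ringKrullDim (B ⧸ (maximalIdeal A).map (algebraMap A B))
        = (ringKrullDim (A ⧸ I) + ringKrullDim (B ⧸ (maximalIdeal A).map (algebraMap A B))) + 1 := by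
          rw [← hdA]; abel
      _ ≤ ringKrullDim (B ⧸ I.map (algebraMap A B)) + 1 := by gcongr
      _ ≤ ringKrullDim B := hdB

end Induct

end Groth.Agent.Lib.Helper14.DimFormula
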