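import Mathlib
import Groth.Agent.Lib.Helper14.DualSkGlobal
import Groth.Agent.Lib.Helper12.BidualDevissage
import Groth.Agent.Lib.Helper49.Serre2
import Groth.Agent.S5154
import Groth.Agent.S1721

/-!
# Endomorphisms and `Ext^1` of the dualizing module under `(S_2)`, `(S_3)` (helper14)
-/

set_option autoImplicit false
universe u
open CategoryTheory
attribute [local instance] HasDerivedCategory.standard

namespace Groth.Agent.Lib.Helper14.DualEnd
open CategoryTheory CategoryTheory.Limits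
open Groth.Agent.Lib.Helper12 Groth.Agent.Lib.Helper12.FlatHomBC DRing Pretriangulated
open Groth.Agent.Lib.Helper12.Bass Groth.Agent.Lib.Helper36.InjAmp
open Groth.Agent.Lib.Helper12.DualDim Groth.Agent.Lib.Helper12.Shriek
open IsLocalRing Groth.Agent.Lib.Helper29 Groth.Agent.Lib.Helper29.DepthLib Pointwise TensorProduct
open Groth.Agent.S0370.D370 Groth.Agent.Lib.Helper14.DualCM Groth.Agent.Lib.Helper14.DualDepth
open Groth.Agent.Lib.Helper14.DualDelta Groth.Agent.Lib.Helper14.DualCoheight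
open Groth.Agent.Lib.Helper14.DualLower Groth.Agent.Lib.Helper14.DualExtRange
open Groth.Agent.Lib.Helper14.DualLoc Groth.Agent.Lib.Helper14.DualPointwise
open Groth.Agent.Lib.Helper14.DualCanon Groth.Agent.Lib.Helper14.DualSk
open Groth.Agent.Lib.Helper14.DualSkGlobal
set_option linter.style.haveILetI false

section General
variable {B : Type u} [CommRing B]

/-- if `H^j(ω) = 0` for `j < a`, the truncation `τ_{<a+1} ω` is `H^a(ω)[-a]` -/
theorem exists_truncLT_iso (ω : Dual.D B) (a : ℤ)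
    (hlow : ∀ j : ℤ, j < a → IsZero ((HF B j).obj ω)) :
    Nonempty ((truncTriangle ω (a + 1)).obj₁ ≅ (Dual.inD B (Dual.HD B ω a))⟦-a⟧) := by
  set X₁ := (truncTriangle ω (a + 1)).obj₁ with hX₁
  have hGE : X₁.IsGE a := by
    rw [DerivedCategory.isGE_iff]
    intro j hj
    exact IsZero.of_iso (hlow j hj) (HFTruncLTIso ω (a + 1) j (by omega))
  have hLE : X₁.IsLE a := by
    rw [DerivedCategory.isLE_iff]
    intro j hj
    exact isZero_HF_truncLT ω (a + 1) j (by omega)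
  obtain ⟨Y, ⟨e⟩⟩ := DerivedCategory.exists_iso_singleFunctor_obj_of_isGE_of_isLE X₁ a
  have eY : (HF B a).obj ω ≅ Y :=
    (HFTruncLTIso ω (a + 1) a (by omega)).symm ≪≫ (HF B a).mapIso e ≪≫ HFSingleIso a Y
  exact ⟨e ≪≫ singleFunctorShiftIso a Y ≪≫
      (shiftFunctor (Dual.D B) (-a)).mapIso
        ((DerivedCategory.singleFunctor (ModuleCat.{u} B) 0).mapIso eY.symm)⟩

end General

variable {A : Type u} [CommRing A] [IsNoetherianRing A] [IsLocalRing A]

/-- cohomology of a normalized dualizing complex vanishes outside `[-dim A, 0]` -/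
theorem isZero_HF_of_not_mem (ω : Dual.D A) (hω : Dual.IsDualizing A ω)
    (hn : Dual.IsNormalized A ω) (n : ℕ) (hd : ringKrullDim A = n) (j : ℤ)
    (hj : j < -(n : ℤ) ∨ 0 < j) : IsZero ((HF A j).obj ω) := by
  have hsd : Module.supportDim A A = n := by
    rw [Module.supportDim_self_eq_ringKrullDim, hd]
  apply isZero_HF_of_hom_ring_eq_zero
  intro f
  by_contra hf
  have hnt' : Nontrivial (Dual.inD A A ⟶ ω⟦j⟧) := ⟨⟨f, 0, hf⟩⟩
  have := (main366 A ω hω hn A n hsd j).1 hnt'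
  omega

/-- `(S_2)` implies equidimensionality in the presence of a dualizing complex -/
theorem isEquidimModule_of_S2 (ω : Dual.D A) (hω : Dual.IsDualizing A ω)
    (hS : LocCoh.HasSk 2 A A) : EGA4.IsEquidimModule A A := by
  have hc : CAlg.IsCatenary A :=
    Groth.Agent.S1721.D1721.isCatenary_of_dimFun A (fun x => tdeg ω hω x.asIdeal)
      (fun x y h => tdeg_covBy' ω hω x y h) (lt_top_iff_ne_top.2 ringKrullDim_ne_top)
  have h : ∀ p : PrimeSpectrum A, (2 : ℕ∞) ≤ p.asIdeal.height →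
      (2 : ℕ∞) ≤ LocCoh.depth (Localization.AtPrime p.asIdeal)
        (Localization.AtPrime p.asIdeal) := by
    intro p hp
    have h1 := (Groth.Agent.Lib.Helper49.Serre.hasSk_self_iff A 2).1 hS p.asIdeal
    have h2 : ((2 : ℕ) : WithBot ℕ∞) ≤ ((p.asIdeal.height : ℕ∞) : WithBot ℕ∞) :=
      WithBot.coe_le_coe.2 hp
    rw [min_eq_left h2] at h1
    have h3 : (((2 : ℕ) : ℕ∞) : WithBot ℕ∞) ≤ ((LocCoh.depth (Localization.AtPrime p.asIdeal)
        (Localization.AtPrime p.asIdeal) : ℕ∞) : WithBot ℕ∞) := h1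
    exact WithBot.coe_le_coe.1 h3
  intro q hq
  have hann : Module.annihilator A A = ⊥ := by
    rw [eq_bot_iff]
    intro r hr
    have := Module.mem_annihilator.1 hr (1 : A)
    simpa using this
  rw [hann] at hq
  rw [Module.supportDim_self_eq_ringKrullDim]
  exact Groth.Agent.S5154.result A hc h q hq

omit [IsNoetherianRing A] [IsLocalRing A] in
theorem hasSk_mono (k k' : ℕ) (hkk : k' ≤ k) (M : Type u) [AddCommGroup M] [Module A M]
    (hS : LocCoh.HasSk k A M) : LocCoh.HasSk k' A M := by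
  intro p _
  refine le_trans (min_le_min ?_ le_rfl) (hS p)
  exact_mod_cast hkk

/-- key vanishing under `(S_k)` -/
theorem hom_HD_eq_zero (ω : Dual.D A) (hω : Dual.IsDualizing A ω) (hn : Dual.IsNormalized A ω)
    (n : ℕ) (hd : ringKrullDim A = n) (k : ℕ) (hk : 2 ≤ k) (hS : LocCoh.HasSk k A A) (j : ℤ)
    (hj : j ≠ -(n : ℤ)) (l : ℤ) (hl : l < k) (f : Dual.inD A (Dual.HD A ω j) ⟶ ω⟦l + j⟧) :
    f = 0 := by
  have hM := isEquidimModule_of_S2 ω hω (hasSk_mono k 2 hk A hS)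
  have hsd : Module.supportDim A A = n := by
    rw [Module.supportDim_self_eq_ringKrullDim, hd]
  obtain ⟨h1, h2⟩ := (main17 ω hω hn A hM n hsd k (by omega)).1 hS j hj
  have hfin : Module.Finite A (Dual.HD A ω j) := hω.finite_cohomology j
  rcases subsingleton_or_nontrivial (Dual.HD A ω j) with hs | hnt
  · have hz : IsZero (Dual.inD A (Dual.HD A ω j)) :=
      (DerivedCategory.singleFunctor _ 0).map_isZero (ModuleCat.isZero_of_subsingleton _)
    exact hz.eq_of_src _ _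
  · have hpos : 0 ≤ -j - (k : ℤ) := by
      by_contra hneg
      push Not at hneg
      have := (subsingleton_HD_iff ω j).2 (h1 hneg)
      exact not_subsingleton _ this
    have h3 := h2 hpos
    rw [← supportDim_HD_eq ω hω j] at h3
    obtain ⟨-, dN, -, hdN⟩ := exists_depth_dim A (Dual.HD A ω j)
    rw [hdN] at h3
    have h4 : dN ≤ (-j - (k : ℤ)).toNat := by exact_mod_cast h3
    by_contra hf
    have hnt' : Nontrivial (Dual.inD A (Dual.HD A ω j) ⟶ ω⟦l + j⟧) := ⟨⟨f, 0, hf⟩⟩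
    have := ((main366 A ω hω hn (Dual.HD A ω j) dN hdN (l + j)).1 hnt').1
    omega

/-- maps from the upper truncation into low shifts of `ω` vanish under `(S_k)` -/
theorem hom_truncGE_eq_zero (ω : Dual.D A) (hω : Dual.IsDualizing A ω)
    (hn : Dual.IsNormalized A ω)
    (n : ℕ) (hd : ringKrullDim A = n) (k : ℕ) (hk : 2 ≤ k) (hS : LocCoh.HasSk k A A)
    (l : ℤ) (hl : l < k) (g : (truncTriangle ω (-(n : ℤ) + 1)).obj₃ ⟶ ω⟦l⟧) : g = 0 := by
  refine hom_eq_zero_of_cohomology (K := ω) l (-(n : ℤ) + 1) n 0 (by omega) _ ?_ ?_ g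
  · intro j hj
    rcases hj with hj | hj
    · exact isZero_HF_truncGE ω (-(n : ℤ) + 1) j hj
    · by_cases hj' : -(n : ℤ) + 1 ≤ j
      · exact IsZero.of_iso (isZero_HF_of_not_mem ω hω hn n hd j (Or.inr hj))
          (HFTruncGEIso ω (-(n : ℤ) + 1) j hj').symm
      · exact isZero_HF_truncGE ω (-(n : ℤ) + 1) j (by omega)
  · intro j f
    by_cases hj' : -(n : ℤ) + 1 ≤ j
    · have e := HFTruncGEIso ω (-(n : ℤ) + 1) j hj'
      have h1 := hom_HD_eq_zero ω hω hn n hd k hk hS j (by omega) l hl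
        ((inDMapIso e).hom ≫ f)
      rw [← cancel_epi (inDMapIso e).hom, comp_zero]
      exact h1
    · have hz : IsZero (Dual.inD A ((HF A j).obj (truncTriangle ω (-(n : ℤ) + 1)).obj₃)) :=
        (DerivedCategory.singleFunctor _ 0).map_isZero
          (isZero_HF_truncGE ω (-(n : ℤ) + 1) j (by omega))
      exact hz.eq_of_src _ _


/-- endomorphisms of `τ_{≤ -n} ω` are scalars, under `(S_2)` -/
theorem end_truncLT (ω : Dual.D A) (hω : Dual.IsDualizing A ω) (hn : Dual.IsNormalized A ω)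
    (n : ℕ) (hd : ringKrullDim A = n) (hS : LocCoh.HasSk 2 A A) :
    (∀ φ : (truncTriangle ω (-(n : ℤ) + 1)).obj₁ ⟶ (truncTriangle ω (-(n : ℤ) + 1)).obj₁,
      ∃ r : A, φ = r • 𝟙 _) ∧
    (∀ r : A, r • 𝟙 (truncTriangle ω (-(n : ℤ) + 1)).obj₁ = 0 → r = 0) := by
  set T := truncTriangle ω (-(n : ℤ) + 1) with hTdef
  have hT : T ∈ distTriang (Dual.D A) := truncTriangle_distinguished ω (-(n : ℤ) + 1)
  have hT' := inv_rot_of_distTriang _ hT
  have hL : ∀ l : ℤ, l < 2 → ∀ g : T.obj₃ ⟶ ω⟦l⟧, g = 0 := fun l hl g =>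
    hom_truncGE_eq_zero ω hω hn n hd 2 le_rfl hS l (by exact_mod_cast hl) g
  have hL0 : ∀ g : T.obj₃ ⟶ ω, g = 0 := by
    intro g
    have := hL 0 (by norm_num) (g ≫ ((shiftFunctorZero (Dual.D A) ℤ).app ω).inv)
    rw [← cancel_mono ((shiftFunctorZero (Dual.D A) ℤ).app ω).inv, this, zero_comp]
  have hL1 : ∀ g : T.obj₃⟦(-1 : ℤ)⟧ ⟶ ω, g = 0 :=
    (hom_shift_eq_zero_iff T.obj₃ ω 1).mp (hL 1 (by norm_num))
  have hLE : T.obj₁.IsLE (-(n : ℤ)) := by
    rw [DerivedCategory.isLE_iff]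
    intro j hj
    exact isZero_HF_truncLT ω _ j (by omega)
  have hGE : (T.obj₃⟦(-1 : ℤ)⟧).IsGE (-(n : ℤ) + 1) := by
    rw [DerivedCategory.isGE_iff]
    intro j hj
    exact isZero_HF_shift _ (-1) j (isZero_HF_truncGE ω _ _ (by omega))
  let ι : T.obj₁ ⟶ ω := T.mor₁
  have yon1 : ∀ f : T.obj₁ ⟶ ω, ∃ g : ω ⟶ ω, f = ι ≫ g := fun f =>
    Triangle.yoneda_exact₂ _ hT' f (hL1 _)
  have yon2 : ∀ f : ω ⟶ ω, ι ≫ f = 0 → f = 0 := by
    intro f hf
    obtain ⟨g, hg⟩ := Triangle.yoneda_exact₂ _ hT f hf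
    have : g = 0 := hL0 g
    subst this
    exact hg.trans comp_zero
  have coy : ∀ f : T.obj₁ ⟶ T.obj₁, f ≫ ι = 0 → f = 0 := by
    intro f hf
    obtain ⟨g, hg⟩ := Triangle.coyoneda_exact₂ _ hT' f hf
    have : g = 0 := DerivedCategory.TStructure.t.zero_of_isLE_of_isGE g (-(n : ℤ))
      (-(n : ℤ) + 1) (by omega) hLE hGE
    subst this
    exact hg.trans zero_comp
  constructor
  · intro φ
    obtain ⟨g, hg⟩ := yon1 (φ ≫ ι)
    obtain ⟨r, hr⟩ := hω.toEnd_bijective.surjective g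
    have hr' : r • 𝟙 ω = g := hr
    refine ⟨r, ?_⟩
    have h1 : (φ - r • 𝟙 T.obj₁) ≫ ι = 0 := by
      rw [Preadditive.sub_comp, Linear.smul_comp, Category.id_comp, hg, ← hr',
        Linear.comp_smul, Category.comp_id]
      exact sub_self _
    exact sub_eq_zero.1 (coy (φ - r • 𝟙 T.obj₁) h1)
  · intro r hr
    have h1 : ι ≫ (r • 𝟙 ω) = 0 := by
      rw [Linear.comp_smul, Category.comp_id]
      have : r • ι = (r • 𝟙 T.obj₁) ≫ ι := by rw [Linear.smul_comp, Category.id_comp]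
      rw [this, hr, zero_comp]
    have hg := yon2 (r • 𝟙 ω) h1
    apply hω.toEnd_bijective.injective
    show r • 𝟙 ω = (0 : A) • 𝟙 ω
    rw [hg, zero_smul]

theorem toEnd_bijective (ω : Dual.D A) (hω : Dual.IsDualizing A ω) (hn : Dual.IsNormalized A ω)
    (n : ℕ) (hd : ringKrullDim A = n) (hS : LocCoh.HasSk 2 A A) :
    Function.Bijective (fun r : A => r • (LinearMap.id :
      Dual.HD A ω (-(n : ℤ)) →ₗ[A] Dual.HD A ω (-(n : ℤ)))) := by
  have hlow : ∀ j : ℤ, j < -(n : ℤ) → IsZero ((HF A j).obj ω) := fun j hj =>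
    isZero_HF_of_not_mem ω hω hn n hd j (Or.inl hj)
  obtain ⟨e2⟩ := exists_truncLT_iso ω (-(n : ℤ)) hlow
  obtain ⟨hA1, hA2⟩ := end_truncLT ω hω hn n hd hS
  set K := Dual.HD A ω (-(n : ℤ)) with hK
  set S := shiftFunctor (Dual.D A) (-(-(n : ℤ))) with hSdef
  set I := DerivedCategory.singleFunctor (ModuleCat.{u} A) 0 with hI
  have conj_smul : ∀ r : A, e2.hom ≫ S.map (I.map (ModuleCat.ofHom
      (r • (LinearMap.id : K →ₗ[A] K)))) ≫ e2.inv = r • 𝟙 _ := by
    intro r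
    have h1 : ModuleCat.ofHom (r • (LinearMap.id : K →ₗ[A] K)) = r • 𝟙 (ModuleCat.of A K) := by
      refine ModuleCat.hom_ext (LinearMap.ext fun y => ?_)
      rfl
    rw [h1, Functor.map_smul, Functor.map_smul, CategoryTheory.Functor.map_id,
      CategoryTheory.Functor.map_id, Linear.smul_comp, Linear.comp_smul, Category.id_comp,
      e2.hom_inv_id]
  constructor
  · intro r s hrs
    have hrs' : r • (LinearMap.id : K →ₗ[A] K) = s • LinearMap.id := hrs
    have h1 := conj_smul r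
    rw [hrs', conj_smul s] at h1
    have h2 : (r - s) • 𝟙 (truncTriangle ω (-(n : ℤ) + 1)).obj₁ = 0 := by
      rw [sub_smul, ← h1, sub_self]
    exact sub_eq_zero.1 (hA2 _ h2)
  · intro f
    obtain ⟨r, hr⟩ := hA1 (e2.hom ≫ S.map (I.map (ModuleCat.ofHom f)) ≫ e2.inv)
    refine ⟨r, ?_⟩
    rw [← conj_smul r] at hr
    rw [cancel_epi, cancel_mono] at hr
    have h3 := I.map_injective (S.map_injective hr)
    have h4 := congrArg ModuleCat.Hom.hom h3
    exact h4.symm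

theorem ext_one_subsingleton (ω : Dual.D A) (hω : Dual.IsDualizing A ω)
    (hn : Dual.IsNormalized A ω) (n : ℕ) (hd : ringKrullDim A = n) (hS : LocCoh.HasSk 3 A A) :
    Subsingleton (Dual.inD A (Dual.HD A ω (-(n : ℤ))) ⟶
      (Dual.inD A (Dual.HD A ω (-(n : ℤ))))⟦(1 : ℤ)⟧) := by
  have hlow : ∀ j : ℤ, j < -(n : ℤ) → IsZero ((HF A j).obj ω) := fun j hj =>
    isZero_HF_of_not_mem ω hω hn n hd j (Or.inl hj)
  obtain ⟨e2⟩ := exists_truncLT_iso ω (-(n : ℤ)) hlow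
  set T := truncTriangle ω (-(n : ℤ) + 1) with hTdef
  have hT : T ∈ distTriang (Dual.D A) := truncTriangle_distinguished ω (-(n : ℤ) + 1)
  have hT' := inv_rot_of_distTriang _ hT
  have hL : ∀ l : ℤ, l < 3 → ∀ g : T.obj₃ ⟶ ω⟦l⟧, g = 0 := fun l hl g =>
    hom_truncGE_eq_zero ω hω hn n hd 3 (by norm_num) hS l (by exact_mod_cast hl) g
  have hLE : T.obj₁.IsLE (-(n : ℤ)) := by
    rw [DerivedCategory.isLE_iff]
    intro j hj
    exact isZero_HF_truncLT ω _ j (by omega)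
  have hGE : T.obj₃.IsGE (-(n : ℤ) + 1) := by
    rw [DerivedCategory.isGE_iff]
    intro j hj
    exact isZero_HF_truncGE ω _ _ hj
  -- step 1
  have h1 : ∀ f : T.obj₁ ⟶ ω⟦(1 : ℤ)⟧, f = 0 := by
    intro f
    obtain ⟨g, hg⟩ := Triangle.yoneda_exact₂ _ hT' f
      (hom_shift_neg_one_eq_zero T.obj₃ ω 1 (fun g => hL (1 + 1) (by norm_num) g) _)
    have hg0 : g = 0 := (hω.ext_self_subsingleton 1 one_ne_zero).elim _ _
    subst hg0
    exact hg.trans comp_zero
  -- step 2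
  have h2 : ∀ ψ : T.obj₁ ⟶ T.obj₁⟦(1 : ℤ)⟧, ψ = 0 := by
    intro ψ
    obtain ⟨g, hg⟩ := Triangle.coyoneda_exact₁ T hT ψ (h1 _)
    have : g = 0 := DerivedCategory.TStructure.t.zero_of_isLE_of_isGE g (-(n : ℤ))
      (-(n : ℤ) + 1) (by omega) hLE hGE
    subst this
    exact hg.trans zero_comp
  -- step 3
  set Y := Dual.inD A (Dual.HD A ω (-(n : ℤ))) with hY
  set s : ℤ := -(-(n : ℤ)) with hs
  have c : (Y⟦(1 : ℤ)⟧)⟦s⟧ ≅ (Y⟦s⟧)⟦(1 : ℤ)⟧ := (shiftFunctorComm (Dual.D A) 1 s).app Y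
  refine ⟨fun f g => ?_⟩
  have h0 : ∀ h : Y ⟶ Y⟦(1 : ℤ)⟧, h = 0 := by
    intro h
    apply (shiftFunctor (Dual.D A) s).map_injective
    rw [CategoryTheory.Functor.map_zero]
    have h3 := h2 (e2.hom ≫ (shiftFunctor (Dual.D A) s).map h ≫ c.hom ≫
      (shiftFunctor (Dual.D A) (1 : ℤ)).map e2.inv)
    rw [← cancel_epi e2.hom, comp_zero,
      ← cancel_mono (c.hom ≫ (shiftFunctor (Dual.D A) (1 : ℤ)).map e2.inv), zero_comp]
    simpa using h3
  rw [h0 f, h0 g]

theorem main18719 (ω : Dual.D A) (hω : Dual.IsDualizing A ω) (hn : Dual.IsNormalized A ω)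
    (n : ℕ) (hd : ringKrullDim A = n) :
    (LocCoh.HasSk 2 A A →
      Function.Bijective (fun r : A => r • (LinearMap.id :
        Dual.HD A ω (-(n : ℤ)) →ₗ[A] Dual.HD A ω (-(n : ℤ))))) ∧
    (LocCoh.HasSk 3 A A →
      Subsingleton (Dual.inD A (Dual.HD A ω (-(n : ℤ))) ⟶
        (Dual.inD A (Dual.HD A ω (-(n : ℤ))))⟦(1 : ℤ)⟧)) :=
  ⟨toEnd_bijective ω hω hn n hd, ext_one_subsingleton ω hω hn n hd⟩

end Groth.Agent.Lib.Helper14.DualEnd
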