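import Mathlib
import Groth.Agent.Lib.Helper14.DualGor
import Groth.Agent.Lib.Helper33.GorTransfer
import Groth.Agent.Lib.Helper83.FlatLocalDim
import Groth.Agent.Lib.Helper12.DualizingAscent
import Groth.Agent.Lib.Helper12.CoextDualizing

/-!
# Formal fibres of a local ring with a dualizing complex are Gorenstein (helper14)

* `cyc_tensor`, `cyc_localizedModule`: cyclicity under base change / localization.
* `free_of_cyc`, `gorRing_of_cyc`: a dualizing complex with one cyclic cohomology module forces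
  `H^a(ω) ≃ B`, and the ring is then Gorenstein.
* `isGorensteinRing_of_ringEquiv`.
* `hdExtEquiv`: `B ⊗ H^i(K) ≃ H^i(K ⊗ B)` for flat `A → B`.
* `gorRing_tensor_fractionField`: `C` Noetherian with dualizing `ω_C`, `κ` a field which is a
  localization of `C`, `T` flat Noetherian over `C` with `ω_C ⊗ T` dualizing: `T ⊗_C κ` Gorenstein.
* `isDualizing_quot_tensor_completion`: ascent along `A/p → (A/p) ⊗ Â`.
* `main1723`.
-/

set_option autoImplicit false
universe u
open CategoryTheory
attribute [local instance] HasDerivedCategory.standard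

namespace Groth.Agent.Lib.Helper14.DualFormalFibre
open CategoryTheory CategoryTheory.Limits
open Groth.Agent.Lib.Helper12 Groth.Agent.Lib.Helper12.FlatHomBC DRing Pretriangulated
open Groth.Agent.Lib.Helper12.Bass Groth.Agent.Lib.Helper36.InjAmp
open Groth.Agent.Lib.Helper12.DualDim Groth.Agent.Lib.Helper12.Shriek
open IsLocalRing Groth.Agent.Lib.Helper29 Groth.Agent.Lib.Helper29.DepthLib Pointwise TensorProduct
open Groth.Agent.S0370.D370 Groth.Agent.Lib.Helper14.DualCM Groth.Agent.Lib.Helper14.DualDepth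
open Groth.Agent.Lib.Helper14.DualDelta Groth.Agent.Lib.Helper14.DualCoheight
open Groth.Agent.Lib.Helper14.DualLower Groth.Agent.Lib.Helper14.DualExtRange
open Groth.Agent.Lib.Helper14.DualLoc Groth.Agent.Lib.Helper14.DualPointwise
open Groth.Agent.Lib.Helper14.DualCanon Groth.Agent.Lib.Helper14.DualSk
open Groth.Agent.Lib.Helper14.DualGor
set_option linter.style.haveILetI false

section Alg

theorem cyc_tensor {R G N : Type*} [CommRing R] [CommRing G] [Algebra R G] [AddCommGroup N]
    [Module R N] (h : Cyc R N) : Cyc G (G ⊗[R] N) := by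
  obtain ⟨n₀, hn₀⟩ := h
  refine ⟨1 ⊗ₜ n₀, fun x => ?_⟩
  induction x using TensorProduct.induction_on with
  | zero => exact ⟨0, by simp⟩
  | tmul g n =>
    obtain ⟨k, rfl⟩ := hn₀ n
    refine ⟨g * algebraMap R G k, ?_⟩
    rw [TensorProduct.smul_tmul', smul_eq_mul, mul_one, TensorProduct.tmul_smul,
      TensorProduct.smul_tmul', Algebra.smul_def, mul_comm]
  | add x y hx hy =>
    obtain ⟨a, rfl⟩ := hx
    obtain ⟨b, rfl⟩ := hy
    exact ⟨a + b, (add_smul _ _ _).symm⟩

theorem cyc_localizedModule {R M : Type*} [CommRing R] [AddCommGroup M] [Module R M]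
    (S : Submonoid R) (h : Cyc R M) : Cyc (Localization S) (LocalizedModule S M) := by
  obtain ⟨m₀, hm₀⟩ := h
  refine ⟨LocalizedModule.mk m₀ 1, fun x => ?_⟩
  induction x using LocalizedModule.induction_on with
  | h m s =>
    obtain ⟨k, rfl⟩ := hm₀ m
    refine ⟨Localization.mk k s, ?_⟩
    rw [LocalizedModule.mk_smul_mk, mul_one]

end Alg

section Free
variable {B : Type u} [CommRing B]

/-- vanishing outside degree `a` plus cyclicity in degree `a` forces `H^a(ω) ≃ B` -/
theorem free_of_cyc (ω : Dual.D B) (hω : Dual.IsDualizing B ω) (a : ℤ)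
    (h1 : ∀ j : ℤ, j ≠ a → Subsingleton (Dual.HD B ω j)) (h2 : Cyc B (Dual.HD B ω a)) :
    Nonempty (Dual.HD B ω a ≃ₗ[B] B) := by
  obtain ⟨W, ⟨e⟩⟩ := exists_single_iso (ω⟦a⟧) (fun j hj => by
    apply isZero_HF_shift
    have := h1 (a + j) (by omega)
    exact ModuleCat.isZero_of_subsingleton _)
  have i1 : (HF B a).obj ω ≅ (HF B 0).obj (ω⟦a⟧) :=
    ((HFShiftIso (A := B) a 0 a (by ring)).app ω).symm
  have i2 : (HF B 0).obj (ω⟦a⟧) ≅ W :=
    (HF B 0).mapIso e ≪≫ (HFSingleNatIso (A := B) 0).app W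
  have hW : Cyc B W := (cyc_congr (i1 ≪≫ i2).toLinearEquiv).1 h2
  obtain ⟨w₀, hw₀⟩ := hW
  have hinj : Function.Injective (LinearMap.toSpanSingleton B W w₀) := by
    rw [injective_iff_map_eq_zero]
    intro b hb
    have hb' : b • w₀ = 0 := by
      rw [LinearMap.toSpanSingleton_apply] at hb
      exact hb
    have hkill : ∀ w : W, b • w = 0 := by
      intro w
      obtain ⟨c, rfl⟩ := hw₀ w
      rw [smul_smul, mul_comm, ← smul_smul, hb', smul_zero]
    have h1 := single_smul_id_eq_zero W b hkill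
    have h2 : b • 𝟙 (ω⟦a⟧) = 0 := by
      have : 𝟙 (ω⟦a⟧) = e.hom ≫ 𝟙 _ ≫ e.inv := by simp
      rw [this, ← Linear.comp_smul, ← Linear.smul_comp, h1, zero_comp, comp_zero]
    have h3 : b • 𝟙 ω = 0 := by
      apply (shiftFunctor (Dual.D B) a).map_injective
      rw [Functor.map_smul, CategoryTheory.Functor.map_id, Functor.map_zero]
      exact h2
    have h4 : (0 : B) • 𝟙 ω = 0 := zero_smul _ _
    exact hω.toEnd_bijective.1 (h3.trans h4.symm)
  have hsurj : Function.Surjective (LinearMap.toSpanSingleton B W w₀) := by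
    intro w
    obtain ⟨c, rfl⟩ := hw₀ w
    exact ⟨c, LinearMap.toSpanSingleton_apply _ _ _ _⟩
  have eW : B ≃ₗ[B] W := LinearEquiv.ofBijective _ ⟨hinj, hsurj⟩
  exact ⟨(i1 ≪≫ i2).toLinearEquiv ≪≫ₗ eW.symm⟩

/-- a Noetherian ring with a dualizing complex concentrated in one degree with cyclic cohomology
is a Gorenstein ring -/
theorem gorRing_of_cyc [IsNoetherianRing B] (ω : Dual.D B) (hω : Dual.IsDualizing B ω) (a : ℤ)
    (h1 : ∀ j : ℤ, j ≠ a → Subsingleton (Dual.HD B ω j)) (h2 : Cyc B (Dual.HD B ω a)) :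
    LocCoh.IsGorensteinRing B := by
  refine { isGorensteinLocalRing_localization := fun q _ => ?_ }
  have hN : IsNoetherianRing (Localization.AtPrime q) :=
    IsLocalization.isNoetherianRing q.primeCompl _ inferInstance
  have hωq := isDualizing_localization ω hω q
  have h1' : ∀ j : ℤ, j ≠ a → Subsingleton (Dual.HD (Localization.AtPrime q)
      ((extScD B (Localization.AtPrime q)).obj ω) j) := by
    intro j hj
    haveI := h1 j hj
    haveI : Subsingleton (LocalizedModule q.primeCompl (Dual.HD B ω j)) :=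
      LocalizedModule.subsingleton_iff.2 (fun m => ⟨1, q.primeCompl.one_mem, Subsingleton.elim _ _⟩)
    exact (locHDEquiv ω q j).symm.toEquiv.subsingleton
  have h2' : Cyc (Localization.AtPrime q) (Dual.HD (Localization.AtPrime q)
      ((extScD B (Localization.AtPrime q)).obj ω) a) :=
    (cyc_congr (locHDEquiv ω q a)).1 (cyc_localizedModule q.primeCompl h2)
  exact gor_of_single (Localization.AtPrime q) _ hωq a h1' (free_of_cyc _ hωq a h1' h2')

end Free

section Transport

theorem isGorensteinRing_of_ringEquiv {F F' : Type u} [CommRing F] [CommRing F'] (e : F ≃+* F')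
    (h : LocCoh.IsGorensteinRing F') : LocCoh.IsGorensteinRing F := by
  haveI := h
  haveI : IsNoetherianRing F' := inferInstance
  haveI : IsNoetherianRing F := isNoetherianRing_of_ringEquiv F' e.symm
  refine { isGorensteinLocalRing_localization := fun q _ => ?_ }
  haveI : (q.comap (e.symm : F' →+* F)).IsPrime := Ideal.comap_isPrime _ _
  have hq := h.isGorensteinLocalRing_localization (q.comap (e.symm : F' →+* F))
  have e' : Localization.AtPrime q ≃+* Localization.AtPrime (q.comap (e.symm : F' →+* F)) :=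
    Localization.localRingEquiv q (q.comap (e.symm : F' →+* F)) e (by
      ext x
      simp [Ideal.mem_comap])
  exact Groth.Agent.Lib.Helper33.GorTransfer.gorenstein_of_ringEquiv e'.symm hq

end Transport

section BC

/-- flat base change of cohomology modules, linearly -/
noncomputable def hdExtEquiv {A B : Type u} [CommRing A] [CommRing B] [Algebra A B]
    [Module.Flat A B] (K : Dual.D A) (i : ℤ) :
    B ⊗[A] Dual.HD A K i ≃ₗ[B] Dual.HD B ((extScD A B).obj K) i :=
  (extScObjEquiv (A := A) (B := B) (Dual.HD A K i)).symm ≪≫ₗ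
    ((HFExtIso (A := A) (B := B) i).app K).symm.toLinearEquiv

attribute [local instance] Algebra.TensorProduct.rightAlgebra in
theorem gorRing_tensor_fractionField {C T κ : Type u} [CommRing C] [IsNoetherianRing C]
    [CommRing T] [IsNoetherianRing T] [Algebra C T] [Module.Flat C T] [Field κ] [Algebra C κ]
    (M : Submonoid C) [IsLocalization M κ]
    (ωC : Dual.D C) (hωC : Dual.IsDualizing C ωC)
    (hωT : Dual.IsDualizing T ((extScD C T).obj ωC)) :
    LocCoh.IsGorensteinRing (T ⊗[C] κ) := by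
  haveI : Module.Flat C κ := IsLocalization.flat κ M
  have hωκ : Dual.IsDualizing κ ((extScD C κ).obj ωC) :=
    DualizingBC.isDualizing_extScD_of_ideals_extended
      (fun J => ⟨J.comap (algebraMap C κ), IsLocalization.map_under M κ J⟩) ωC hωC
  haveI : LocCoh.IsGorensteinLocalRing κ :=
    Groth.Agent.Lib.Helper33.GorTransfer.gorenstein_of_field κ
  obtain ⟨a, h1, ⟨e2⟩⟩ := gor_single κ _ hωκ
  haveI hloc : IsLocalization (Algebra.algebraMapSubmonoid T M) (T ⊗[C] κ) := inferInstance
  haveI : IsNoetherianRing (T ⊗[C] κ) :=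
    IsLocalization.isNoetherianRing (Algebra.algebraMapSubmonoid T M) _ inferInstance
  have hωF : Dual.IsDualizing (T ⊗[C] κ)
      ((extScD T (T ⊗[C] κ)).obj ((extScD C T).obj ωC)) :=
    DualizingBC.isDualizing_extScD_of_ideals_extended
      (fun J => ⟨J.comap (algebraMap T (T ⊗[C] κ)),
        IsLocalization.map_under (Algebra.algebraMapSubmonoid T M) _ J⟩) _ hωT
  have key : ∀ j : ℤ, (T ⊗[C] κ) ⊗[κ] (κ ⊗[C] Dual.HD C ωC j) ≃ₗ[T ⊗[C] κ]
      Dual.HD (T ⊗[C] κ) ((extScD T (T ⊗[C] κ)).obj ((extScD C T).obj ωC)) j := by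
    intro j
    refine (TensorProduct.AlgebraTensorModule.cancelBaseChange C κ (T ⊗[C] κ) (T ⊗[C] κ)
      (Dual.HD C ωC j)) ≪≫ₗ ?_
    refine (TensorProduct.AlgebraTensorModule.cancelBaseChange C T (T ⊗[C] κ) (T ⊗[C] κ)
      (Dual.HD C ωC j)).symm ≪≫ₗ ?_
    refine (TensorProduct.AlgebraTensorModule.congr (LinearEquiv.refl (T ⊗[C] κ) (T ⊗[C] κ))
      (hdExtEquiv (A := C) (B := T) ωC j)) ≪≫ₗ ?_
    exact hdExtEquiv (A := T) (B := T ⊗[C] κ) _ j
  refine gorRing_of_cyc _ hωF a (fun j hj => ?_) ?_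
  · haveI := h1 j hj
    haveI : Subsingleton (κ ⊗[C] Dual.HD C ωC j) :=
      (hdExtEquiv (A := C) (B := κ) ωC j).toEquiv.subsingleton
    exact (key j).symm.toEquiv.subsingleton
  · have hc : Cyc κ (κ ⊗[C] Dual.HD C ωC a) := by
      refine (cyc_congr ((hdExtEquiv (A := C) (B := κ) ωC a) ≪≫ₗ e2)).2 ?_
      exact ⟨1, fun f => ⟨f, by simp⟩⟩
    exact (cyc_congr (key a)).1 (cyc_tensor hc)

end BC

section Compl

theorem includeRight_surjective_quot {A S : Type*} [CommRing A] [CommRing S] [Algebra A S]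
    (p : Ideal A) :
    Function.Surjective (Algebra.TensorProduct.includeRight : S →ₐ[A] (A ⧸ p) ⊗[A] S) := by
  intro x
  induction x using TensorProduct.induction_on with
  | zero => exact ⟨0, map_zero _⟩
  | tmul c s =>
    obtain ⟨a, rfl⟩ := Ideal.Quotient.mk_surjective c
    refine ⟨a • s, ?_⟩
    rw [Algebra.TensorProduct.includeRight_apply, TensorProduct.tmul_smul,
      TensorProduct.smul_tmul', Algebra.smul_def, mul_one]
    rfl
  | add x y hx hy =>
    obtain ⟨a, rfl⟩ := hx
    obtain ⟨b, rfl⟩ := hy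
    exact ⟨a + b, map_add _ _ _⟩

variable {A : Type u} [CommRing A] [IsLocalRing A] [IsNoetherianRing A]

theorem isNoetherianRing_quot_tensor_completion (p : Ideal A) :
    IsNoetherianRing ((A ⧸ p) ⊗[A] AdicCompletion (maximalIdeal A) A) := by
  haveI := Groth.Agent.Lib.Helper83.isNoetherianRing_adicCompletion (maximalIdeal A)
  exact isNoetherianRing_of_surjective (AdicCompletion (maximalIdeal A) A) _
    (Algebra.TensorProduct.includeRight :
      AdicCompletion (maximalIdeal A) A →ₐ[A] (A ⧸ p) ⊗[A] AdicCompletion (maximalIdeal A) A).toRingHom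
    (includeRight_surjective_quot p)

theorem isDualizing_quot_tensor_completion (p : Ideal A) [p.IsPrime]
    [IsNoetherianRing ((A ⧸ p) ⊗[A] AdicCompletion (maximalIdeal A) A)]
    (ωC : Dual.D (A ⧸ p)) (hωC : Dual.IsDualizing (A ⧸ p) ωC) :
    Dual.IsDualizing ((A ⧸ p) ⊗[A] AdicCompletion (maximalIdeal A) A)
      ((extScD (A ⧸ p) ((A ⧸ p) ⊗[A] AdicCompletion (maximalIdeal A) A)).obj ωC) := by
  have hne : maximalIdeal A ≠ ⊤ := (maximalIdeal.isMaximal A).ne_top
  have fg : (maximalIdeal A).FG := (maximalIdeal A).fg_of_isNoetherianRing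
  haveI hlocS := Groth.Agent.Lib.Helper83.isLocalRing_adicCompletion (maximalIdeal A) fg hne
  have hmS := Groth.Agent.Lib.Helper83.maximalIdeal_adicCompletion_eq_map (maximalIdeal A) fg hne
  haveI : Nontrivial (A ⧸ p) := Ideal.Quotient.nontrivial_iff.mpr (Ideal.IsPrime.ne_top inferInstance)
  haveI hlocC : IsLocalRing (A ⧸ p) :=
    IsLocalRing.of_surjective' (Ideal.Quotient.mk p) Ideal.Quotient.mk_surjective
  have hmC : (maximalIdeal A).map (algebraMap A (A ⧸ p)) = maximalIdeal (A ⧸ p) :=
    IsLocalRing.eq_maximalIdeal (Ideal.IsMaximal.map_of_surjective_of_ker_le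
      (f := algebraMap A (A ⧸ p)) Ideal.Quotient.mk_surjective
      (IsLocalRing.le_maximalIdeal (RingHom.ker_ne_top _)))
  refine Groth.Agent.Lib.Helper12.DualizingAscent.isDualizing_extScD_of_maximal ωC hωC
    (fun n hn => ?_)
  set S := AdicCompletion (maximalIdeal A) A with hS
  set T := (A ⧸ p) ⊗[A] S with hT
  let π : S →ₐ[A] T := Algebra.TensorProduct.includeRight
  have hπ : Function.Surjective π := includeRight_surjective_quot p
  have h1 : n.comap π.toRingHom = maximalIdeal S := by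
    haveI : (n.comap π.toRingHom).IsMaximal := Ideal.comap_isMaximal_of_surjective _ hπ
    exact IsLocalRing.eq_maximalIdeal inferInstance
  have h2 : n = (maximalIdeal (A ⧸ p)).map (algebraMap (A ⧸ p) T) := by
    have h3 : n = (n.comap π.toRingHom).map π.toRingHom := (Ideal.map_comap_of_surjective _ hπ n).symm
    rw [h3, h1, ← hmS, ← hmC, Ideal.map_map, Ideal.map_map]
    congr 1
    ext a
    show (1 : A ⧸ p) ⊗ₜ[A] (algebraMap A S a) = (Ideal.Quotient.mk p a) ⊗ₜ[A] (1 : S)
    rw [Algebra.algebraMap_eq_smul_one, TensorProduct.tmul_smul, TensorProduct.smul_tmul',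
      Algebra.smul_def, mul_one]
    rfl
  refine ⟨maximalIdeal (A ⧸ p), ⟨?_⟩⟩
  exact (Submodule.quotEquivOfEq _ _ h2) ≪≫ₗ
    (Algebra.TensorProduct.quotIdealMapEquivTensorQuot T (maximalIdeal (A ⧸ p))).toLinearEquiv

end Compl

section Main

theorem main1723 (A : Type u) [CommRing A] [IsLocalRing A] [IsNoetherianRing A] (ω : Dual.D A)
    (hω : Dual.IsDualizing A ω) (p : PrimeSpectrum A) :
    LocCoh.IsGorensteinRing (EGA4.formalFibre A p.asIdeal) := by
  obtain ⟨ωC, hωC⟩ := Groth.Agent.Lib.Helper12.CoextCx.exists_dualizing_of_finite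
    (Ideal.Quotient.mk p.asIdeal)
    (RingHom.Finite.of_surjective _ Ideal.Quotient.mk_surjective) ω hω
  haveI := isNoetherianRing_quot_tensor_completion p.asIdeal
  have hωT := isDualizing_quot_tensor_completion p.asIdeal ωC hωC
  have hG := gorRing_tensor_fractionField (C := A ⧸ p.asIdeal)
    (T := (A ⧸ p.asIdeal) ⊗[A] AdicCompletion (maximalIdeal A) A)
    (κ := p.asIdeal.ResidueField) (nonZeroDivisors (A ⧸ p.asIdeal)) ωC hωC hωT
  refine isGorensteinRing_of_ringEquiv ?_ hG
  exact ((Algebra.TensorProduct.cancelBaseChange A (A ⧸ p.asIdeal) p.asIdeal.ResidueField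
    p.asIdeal.ResidueField (AdicCompletion (maximalIdeal A) A)).symm.toRingEquiv).trans
    (Algebra.TensorProduct.comm (A ⧸ p.asIdeal) _ _).toRingEquiv

end Main

end Groth.Agent.Lib.Helper14.DualFormalFibre
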