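import Mathlib
import Groth.Agent.Lib.Helper14.DualFormalFibre
import Groth.Agent.Lib.Helper12.ConverseDualizing
import Groth.Agent.Lib.Helper12.PointwiseDualizing
import Groth.Agent.Lib.Helper33.DualizingSelf
import Groth.Agent.Lib.Helper33.GorFibreRing
import Groth.Agent.Lib.Helper33.GorFibreLCI
import Groth.Agent.S0364
import Groth.Agent.S1780

/-!
# Ascent of dualizing complexes along flat maps with Gorenstein fibres (helper14)

* `ext_closedFibre`: `A → D` flat, `A` local with dualizing `ω`: `Ext_D^j(D/𝔪D, ω ⊗ D)` vanishes for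
  `j ≠ t` and is `D/𝔪D` for `j = t`.
* `local_ascent`: `A → D` flat, both local Noetherian, closed fibre `D/𝔪_A D` Gorenstein local:
  `ω ⊗_A D` is dualizing for `D`.
* `gor_closedFibre`: Gorenstein fibre ring `κ(p) ⊗ B` ⟹ `B_q / p B_q` Gorenstein local.
* `global_ascent`: `A → B` flat of finite type with Gorenstein fibre rings: `ω ⊗_A B` dualizing.
* `main1788`, `main1829`.
-/

set_option autoImplicit false
universe u
open CategoryTheory
attribute [local instance] HasDerivedCategory.standard

namespace Groth.Agent.Lib.Helper14.DualGorAscent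
open CategoryTheory CategoryTheory.Limits
open Groth.Agent.Lib.Helper12 Groth.Agent.Lib.Helper12.FlatHomBC DRing Pretriangulated
open Groth.Agent.Lib.Helper12.Bass Groth.Agent.Lib.Helper36.InjAmp
open Groth.Agent.Lib.Helper12.DualDim Groth.Agent.Lib.Helper12.Shriek
open IsLocalRing TensorProduct
open Groth.Agent.Lib.Helper14.DualGor Groth.Agent.Lib.Helper14.DualFormalFibre
open Groth.Agent.Lib.Helper12.CoextCx Groth.Agent.Lib.Helper12.FinDual
open Groth.Agent.Lib.Helper12.ConvDual Groth.Agent.Lib.Helper12.DualizingBC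
open Groth.Agent.Lib.Helper12.DualizingAscent
set_option linter.style.haveILetI false

attribute [local instance] FinAdj.homModA'

noncomputable def upgradeEquiv' {A B : Type u} [CommRing A] [CommRing B] [Algebra A B]
    (hs : Function.Surjective (algebraMap A B)) (Y : ModuleCat.{u} B)
    (e : (resSc (algebraMap A B)).obj Y ≃ₗ[A] B) : Y ≃ₗ[B] B where
  toFun y := e y
  invFun b := e.symm b
  left_inv := e.left_inv
  right_inv := e.right_inv
  map_add' := e.map_add
  map_smul' b y := by
    obtain ⟨a, rfl⟩ := hs b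
    have h1 : (algebraMap A B a) • y = (a • (show (resSc (algebraMap A B)).obj Y from y)) := rfl
    rw [h1]
    change e (a • _) = _
    rw [map_smul]
    rw [RingHom.id_apply, Algebra.smul_def, smul_eq_mul]

section Local
variable {A D : Type u} [CommRing A] [CommRing D] [IsNoetherianRing A] [IsNoetherianRing D]
  [IsLocalRing A] [IsLocalRing D] [Algebra A D] [Module.Flat A D]

/-- the single-degree computation: `Ext_D^j(D/mD, ω ⊗ D)` -/
theorem ext_closedFibre (ω : Dual.D A) (hω : Dual.IsDualizing A ω) :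
    ∃ t : ℤ, (∀ j : ℤ, j ≠ t → Subsingleton
        (Dual.inD D (D ⧸ (maximalIdeal A).map (algebraMap A D)) ⟶ ((extScD A D).obj ω)⟦j⟧)) ∧
      Nonempty ((Dual.inD D (D ⧸ (maximalIdeal A).map (algebraMap A D)) ⟶
        ((extScD A D).obj ω)⟦t⟧) ≃ₗ[D] (D ⧸ (maximalIdeal A).map (algebraMap A D))) := by
  obtain ⟨a, b, hab⟩ := hω.finite_injective_dimension
  have hz := isZero_HF_of_finite_injective_dimension ω a b hab
  have hlow : ∀ j : ℤ, j < a → IsZero ((HF A j).obj ω) := fun j hj => hz j (Or.inl hj)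
  obtain ⟨t, ht1, ⟨ht2⟩⟩ := Groth.Agent.S0364.result A ω hω (maximalIdeal A)
  let e' : (extScD A D).obj (Dual.inD A (A ⧸ maximalIdeal A)) ≅
      Dual.inD D (D ⧸ (maximalIdeal A).map (algebraMap A D)) :=
    extScD_inD (A ⧸ maximalIdeal A) ≪≫ inDMapIso
      (Algebra.TensorProduct.quotIdealMapEquivTensorQuot D
        (maximalIdeal A)).toLinearEquiv.symm.toModuleIso
  have hb : ∀ j : ℤ, Function.Bijective (homBCShift D (Dual.inD A (A ⧸ maximalIdeal A)) ω j) :=
    fun j => bijective_homBCShift (B := D) _ ω (isPseudoCoherent'_inD (A ⧸ maximalIdeal A)) a hlow j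
  let H : ∀ j : ℤ, (Dual.inD D (D ⧸ (maximalIdeal A).map (algebraMap A D)) ⟶
      ((extScD A D).obj ω)⟦j⟧) ≃ₗ[D]
      D ⊗[A] (Dual.inD A (A ⧸ maximalIdeal A) ⟶ ω⟦j⟧) := fun j =>
    (Linear.homCongr D e' (Iso.refl _)).symm ≪≫ₗ (LinearEquiv.ofBijective _ (hb j)).symm
  refine ⟨t, fun j hj => ?_, ⟨?_⟩⟩
  · haveI := ht1 j hj
    have : Subsingleton (D ⊗[A] (Dual.inD A (A ⧸ maximalIdeal A) ⟶ ω⟦j⟧)) := inferInstance
    exact (H j).toEquiv.subsingleton
  · exact H t ≪≫ₗ (ht2.baseChange A D _ _) ≪≫ₗ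
      (Algebra.TensorProduct.quotIdealMapEquivTensorQuot D (maximalIdeal A)).toLinearEquiv.symm

/-- the residue field of `D` as a module over a quotient `D ⧸ I`, `I ≤ 𝔪_D` -/
theorem exists_residue_module (I : Ideal D) (hI : I ≤ maximalIdeal D) :
    ∃ N : ModuleCat.{u} (D ⧸ I), Nonempty ((resSc (algebraMap D (D ⧸ I))).obj N ≅
      ModuleCat.of D (D ⧸ maximalIdeal D)) := by
  letI : Algebra (D ⧸ I) (D ⧸ maximalIdeal D) := (Ideal.Quotient.factor hI).toAlgebra
  refine ⟨ModuleCat.of (D ⧸ I) (D ⧸ maximalIdeal D), ⟨LinearEquiv.toModuleIso ?_⟩⟩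
  exact
    { toFun := fun x => x
      invFun := fun x => x
      left_inv := fun _ => rfl
      right_inv := fun _ => rfl
      map_add' := fun _ _ => rfl
      map_smul' := fun d x => by
        obtain ⟨y, rfl⟩ := Ideal.Quotient.mk_surjective x
        rfl }

theorem local_ascent (ω : Dual.D A) (hω : Dual.IsDualizing A ω)
    (hF : LocCoh.IsGorensteinLocalRing (D ⧸ (maximalIdeal A).map (algebraMap A D))) :
    Dual.IsDualizing D ((extScD A D).obj ω) := by
  haveI := hF
  haveI : IsNoetherianRing (D ⧸ (maximalIdeal A).map (algebraMap A D)) := inferInstance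
  haveI : IsLocalRing (D ⧸ (maximalIdeal A).map (algebraMap A D)) := inferInstance
  have hs : Function.Surjective (algebraMap D (D ⧸ (maximalIdeal A).map (algebraMap A D))) :=
    Ideal.Quotient.mk_surjective
  have hIle : (maximalIdeal A).map (algebraMap A D) ≤ maximalIdeal D := by
    apply IsLocalRing.le_maximalIdeal
    intro htop
    have : Subsingleton (D ⧸ (maximalIdeal A).map (algebraMap A D)) :=
      Ideal.Quotient.subsingleton_iff.mpr htop
    exact not_subsingleton _ this
  obtain ⟨a, b, hab⟩ := hω.finite_injective_dimension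
  have hz := isZero_HF_of_finite_injective_dimension ω a b hab
  have hlow : ∀ j : ℤ, j < a → IsZero ((HF A j).obj ω) := fun j hj => hz j (Or.inl hj)
  obtain ⟨t, ht1, ⟨ht2⟩⟩ := ext_closedFibre (D := D) ω hω
  have hlowK : ∀ j : ℤ, j < a → IsZero ((HF D j).obj ((extScD A D).obj ω)) :=
    fun j hj => isZero_HF_extScD ω j (hlow j hj)
  have hfinK : ∀ j : ℤ, Module.Finite D ((HF D j).obj ((extScD A D).obj ω)) :=
    fun j => finite_HF_extScD ω j (hω.finite_cohomology j)
  -- injective model
  have hGE : ((extScD A D).obj ω).IsGE a := by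
    rw [DerivedCategory.isGE_iff]
    exact fun i hi => hlowK i hi
  obtain ⟨L₀, hL₀, ⟨e₀⟩⟩ := ((extScD A D).obj ω).exists_iso_Q_obj_of_isGE a
  obtain ⟨E, ι, hι, hEinj, hEGE⟩ :=
    CochainComplex.Plus.modelCategoryQuillen.exists_quasiIso_injective L₀ a
  have hisoι : IsIso (DerivedCategory.Q.map ι) :=
    (DerivedCategory.isIso_Q_map_iff_quasiIso _ ι).mpr hι
  have e : (extScD A D).obj ω ≅ toD E := e₀ ≪≫ asIso (DerivedCategory.Q.map ι)
  haveI hKI : E.IsKInjective := CochainComplex.isKInjective_of_injective E a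
  have hEz : ∀ j : ℤ, j < a → IsZero (E.X j) := fun j hj => E.isZero_of_isStrictlyGE a j hj
  haveI hKW : (W (algebraMap D (D ⧸ (maximalIdeal A).map (algebraMap A D))) E).IsKInjective :=
    isKInjective_W _ E a hEz hEinj
  set F := D ⧸ (maximalIdeal A).map (algebraMap A D) with hFdef
  set WE := toD (W (algebraMap D F) E) with hWE
  -- cohomology of the coextended complex
  let tr : ∀ j : ℤ, (Dual.inD D F ⟶ (toD E)⟦j⟧) ≃ₗ[D]
      (Dual.inD D F ⟶ ((extScD A D).obj ω)⟦j⟧) := fun j =>
    Linear.homCongr D (Iso.refl _) ((shiftFunctor (Dual.D D) j).mapIso e.symm)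
  have hWz : ∀ j : ℤ, j ≠ t → IsZero ((HF F j).obj WE) := by
    intro j hj
    haveI := ht1 j hj
    have h1 : Subsingleton ((resSc (algebraMap D F)).obj ((HF F j).obj WE)) :=
      ((HFCoextEquiv E j) ≪≫ₗ tr j).toEquiv.subsingleton
    have h2 : Subsingleton ((HF F j).obj WE) := h1
    exact ModuleCat.isZero_of_subsingleton _
  have hWt : Nonempty (((HF F t).obj WE) ≃ₗ[F] F) :=
    ⟨upgradeEquiv' hs _ ((HFCoextEquiv E t) ≪≫ₗ tr t ≪≫ₗ ht2)⟩
  obtain ⟨hWt⟩ := hWt
  -- WE[t] ≅ F[0]
  obtain ⟨Wm, ⟨eW⟩⟩ := exists_single_iso (WE⟦t⟧) (fun j hj => by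
    apply isZero_HF_shift
    exact hWz (t + j) (by omega))
  have i1 : (HF F t).obj WE ≅ (HF F 0).obj (WE⟦t⟧) :=
    ((HFShiftIso (A := F) t 0 t (by ring)).app WE).symm
  have i2 : (HF F 0).obj (WE⟦t⟧) ≅ Wm :=
    (HF F 0).mapIso eW ≪≫ (HFSingleNatIso (A := F) 0).app Wm
  have iW : Wm ≅ ModuleCat.of F F := (i1 ≪≫ i2).symm ≪≫ hWt.toModuleIso
  have eWF : WE⟦t⟧ ≅ Dual.inD F F := eW ≪≫ inDMapIso iW
  -- injective dimension of F
  obtain ⟨n, hn⟩ := hF.exists_hasInjectiveDimensionLT
  have hn' := (Groth.Agent.Lib.Helper33.DualizingSelf.hasInjectiveDimensionLT_iff_hom F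
    (ModuleCat.of F F) n).1 hn
  -- vanishing for all F-modules
  have hvanF : ∀ (N : ModuleCat.{u} F) (i : ℤ), t + n ≤ i → Subsingleton (Dual.inD F N ⟶ WE⟦i⟧) := by
    intro N i hi
    obtain ⟨k, hk⟩ : ∃ k : ℕ, i - t = (k : ℤ) := ⟨(i - t).toNat, by omega⟩
    have hnk : n ≤ k := by omega
    have h1 := hn' k hnk N
    let κ : WE⟦i⟧ ≅ (Dual.inD F F)⟦(k : ℤ)⟧ :=
      ((shiftFunctorAdd' (Dual.D F) t (k : ℤ) i (by omega)).app WE) ≪≫
        (shiftFunctor (Dual.D F) (k : ℤ)).mapIso eWF
    exact ⟨fun f g => by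
      rw [← cancel_mono κ.hom]
      exact h1.elim _ _⟩
  -- the residue field
  obtain ⟨N, ⟨eN⟩⟩ := exists_residue_module (D := D) _ hIle
  have hvan : ∀ i : ℤ, t + n ≤ i →
      Subsingleton (Dual.inD D (D ⧸ maximalIdeal D) ⟶ ((extScD A D).obj ω)⟦i⟧) := by
    intro i hi
    haveI := hvanF N i hi
    have h1 : Subsingleton (Dual.inD D ((resSc (algebraMap D F)).obj N) ⟶ (toD E)⟦i⟧) :=
      (extCoextEquiv E N i).symm.toEquiv.subsingleton
    let κ : (Dual.inD D (D ⧸ maximalIdeal D) ⟶ ((extScD A D).obj ω)⟦i⟧) ≃ₗ[D]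
        (Dual.inD D ((resSc (algebraMap D F)).obj N) ⟶ (toD E)⟦i⟧) :=
      Linear.homCongr D (inDMapIso eN.symm) ((shiftFunctor (Dual.D D) i).mapIso e)
    exact κ.toEquiv.subsingleton
  refine isDualizing_extScD_of_injDim ω hω ⟨a, max b (t + n), ?_⟩
  refine Bass.finite_injective_dimension_of_maximal _ a (max b (t + n)) hlowK hfinK ?_
  intro q hq i hi
  have := IsLocalRing.eq_maximalIdeal hq
  subst this
  exact hvan i (by omega)

end Local

section Global
variable {A B : Type u} [CommRing A] [CommRing B] [Algebra A B]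

open Groth.Agent.Lib.Helper33.GorTransfer in
theorem gor_closedFibre (q : Ideal B) [q.IsPrime]
    [hfib : LocCoh.IsGorensteinRing ((q.comap (algebraMap A B)).Fiber B)] :
    LocCoh.IsGorensteinLocalRing (Localization.AtPrime q ⧸
      ((q.comap (algebraMap A B)).map (algebraMap A B)).map
        (algebraMap B (Localization.AtPrime q))) := by
  set p : Ideal A := q.comap (algebraMap A B) with hp
  let q'S : PrimeSpectrum (p.Fiber B) :=
    PrimeSpectrum.preimageEquivFiber A B ⟨p, inferInstance⟩ ⟨⟨q, inferInstance⟩, rfl⟩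
  have h : q'S.asIdeal.comap (Algebra.TensorProduct.includeRight : B →ₐ[A] p.Fiber B) = q := by
    have := (PrimeSpectrum.preimageEquivFiber A B ⟨p, inferInstance⟩).left_inv
      ⟨⟨q, inferInstance⟩, rfl⟩
    exact congrArg (fun z => z.1.asIdeal) this
  have main : ∀ (r : Ideal B) [r.IsPrime],
      r = q'S.asIdeal.comap (Algebra.TensorProduct.includeRight : B →ₐ[A] p.Fiber B) →
      LocCoh.IsGorensteinLocalRing (Localization.AtPrime r ⧸
        (p.map (algebraMap A B)).map (algebraMap B (Localization.AtPrime r))) := by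
    intro r _ hr
    subst hr
    exact gorenstein_of_ringEquiv (Ideal.Fiber.algEquivAux₂ p q'S.asIdeal).toRingEquiv
      (hfib.isGorensteinLocalRing_localization q'S.asIdeal)
  exact main q h.symm

open Groth.Agent.Lib.Helper33.GorTransfer in
theorem global_ascent [IsNoetherianRing A] [IsNoetherianRing B] [Module.Flat A B]
    [Algebra.FiniteType A B]
    (hG : ∀ p : PrimeSpectrum A, LocCoh.IsGorensteinRing (B ⊗[A] p.asIdeal.ResidueField))
    (ω : Dual.D A) (hω : Dual.IsDualizing A ω) : Dual.IsDualizing B ((extScD A B).obj ω) := by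
  have hdimA := DualDim.ringKrullDim_lt_top ω hω
  have hdimB : ringKrullDim B < ⊤ := by
    obtain ⟨N, f, hf⟩ := Algebra.FiniteType.iff_quotient_mvPolynomial''.mp
      (inferInstance : Algebra.FiniteType A B)
    have h1 := ringKrullDim_le_of_surjective f.toRingHom hf
    have h2 : ringKrullDim (MvPolynomial (Fin N) A) = ringKrullDim A + Nat.card (Fin N) :=
      MvPolynomial.ringKrullDim_of_isNoetherianRing
    refine lt_of_le_of_lt h1 ?_
    rw [h2]
    obtain ⟨D, hD⟩ := PtDual.exists_nat_le_of_lt_top _ hdimA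
    have h3 : ringKrullDim A + (Nat.card (Fin N) : WithBot ℕ∞) ≤
        ((D + Nat.card (Fin N) : ℕ) : WithBot ℕ∞) := by
      push_cast
      exact add_le_add_left hD _
    refine lt_of_le_of_lt h3 ?_
    have h4 : (((D + Nat.card (Fin N) : ℕ) : ℕ∞) : WithBot ℕ∞) < ((⊤ : ℕ∞) : WithBot ℕ∞) :=
      WithBot.coe_lt_coe.2 (ENat.natCast_lt_top _)
    exact h4
  obtain ⟨a, b, hab⟩ := hω.finite_injective_dimension
  have hz := isZero_HF_of_finite_injective_dimension ω a b hab
  have hlow : ∀ j : ℤ, j < a → IsZero ((HF A j).obj ω) := fun j hj => hz j (Or.inl hj)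
  refine PtDual.isDualizing_of_pointwise hdimB _
    (fun i => finite_HF_extScD ω i (hω.finite_cohomology i)) ⟨a, fun i hi => ?_⟩ (fun q => ?_)
  · have := isZero_HF_extScD (B := B) ω i (hlow i hi)
    exact ModuleCat.subsingleton_of_isZero this
  · -- local
    set p : Ideal A := q.asIdeal.comap (algebraMap A B) with hp
    haveI : p.IsPrime := Ideal.comap_isPrime _ _
    let Ap := Localization.AtPrime p
    let Bq := Localization.AtPrime q.asIdeal
    haveI : IsNoetherianRing Ap := IsLocalization.isNoetherianRing p.primeCompl _ inferInstance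
    haveI : IsNoetherianRing Bq :=
      IsLocalization.isNoetherianRing q.asIdeal.primeCompl _ inferInstance
    letI : Algebra Ap Bq :=
      (Localization.localRingHom p q.asIdeal (algebraMap A B) rfl).toAlgebra
    haveI : IsScalarTower A Ap Bq :=
      IsScalarTower.of_algebraMap_eq (fun c => by
        rw [IsScalarTower.algebraMap_apply A B Bq]
        exact (Localization.localRingHom_to_map _ _ (algebraMap A B) rfl c).symm)
    haveI : Module.Flat B Bq := IsLocalization.flat _ q.asIdeal.primeCompl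
    haveI : Module.Flat A Ap := IsLocalization.flat _ p.primeCompl
    haveI : Module.Flat A Bq := Module.Flat.trans A B Bq
    haveI : Module.Flat Ap Bq := (Module.flat_iff_of_isLocalization Ap p.primeCompl Bq).2 inferInstance
    have hωp : Dual.IsDualizing Ap ((extScD A Ap).obj ω) :=
      Groth.Agent.S0370.D370.isDualizing_localization ω hω p
    -- the closed fibre
    haveI hfib : LocCoh.IsGorensteinRing (p.Fiber B) :=
      isGorensteinRing_of_ringEquiv
        (Algebra.TensorProduct.comm A p.ResidueField B).toRingEquiv (hG ⟨p, inferInstance⟩)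
    have hF0 := gor_closedFibre (A := A) (B := B) q.asIdeal
    have hker : (maximalIdeal Ap).map (algebraMap Ap Bq) =
        (p.map (algebraMap A B)).map (algebraMap B Bq) := by
      rw [← IsLocalization.AtPrime.map_eq_maximalIdeal p Ap, Ideal.map_map, Ideal.map_map,
        ← IsScalarTower.algebraMap_eq, ← IsScalarTower.algebraMap_eq]
    have hF : LocCoh.IsGorensteinLocalRing (Bq ⧸ (maximalIdeal Ap).map (algebraMap Ap Bq)) :=
      gorenstein_of_ringEquiv (Ideal.quotEquivOfEq hker.symm) hF0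
    have h1 := local_ascent (A := Ap) (D := Bq) _ hωp hF
    obtain ⟨e1⟩ := extScD_trans A Ap Bq ω
    obtain ⟨e2⟩ := extScD_trans A B Bq ω
    exact isDualizing_of_iso (e1.symm ≪≫ e2) h1

theorem main1788 (A B : Type u) [CommRing A] [CommRing B] [Algebra A B] [IsNoetherianRing A]
    [IsNoetherianRing B] [Module.FaithfullyFlat A B] [Algebra.FiniteType A B]
    (hG : ∀ p : PrimeSpectrum A, LocCoh.IsGorensteinRing (B ⊗[A] p.asIdeal.ResidueField))
    [DRing.HasLBaseChange (algebraMap A B)] (K : Dual.D A) :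
    Dual.IsDualizing A K ↔
      Dual.IsDualizing B ((DRing.LBaseChange (algebraMap A B)).obj K) := by
  haveI : Module.Flat A B := inferInstance
  constructor
  · intro hK
    exact isDualizing_of_iso ((lBaseChangeIsoExtScD (A := A) (B := B)).app K).symm
      (global_ascent hG K hK)
  · intro hK
    exact Groth.Agent.S1780.result A B K hK

theorem main1829 (A B : Type u) [CommRing A] [CommRing B] [Algebra A B] [IsNoetherianRing A]
    [IsNoetherianRing B] [Module.FaithfullyFlat A B] (hl : LCI.IsLCI A B)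
    [DRing.HasLBaseChange (algebraMap A B)] (K : Dual.D A) :
    Dual.IsDualizing A K ↔
      Dual.IsDualizing B ((DRing.LBaseChange (algebraMap A B)).obj K) := by
  haveI : Module.Flat A B := inferInstance
  haveI : Algebra.FiniteType A B := hl.1
  exact main1788 A B (fun p =>
    Groth.Agent.Lib.Helper33.GorFibreLCI.isGorensteinRing_fibre_of_flat_isLCI A B hl
      p.asIdeal.ResidueField) K

end Global

end Groth.Agent.Lib.Helper14.DualGorAscent
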