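import Mathlib
import Groth.Agent.Lib.Helper14.DualGorAscent
import Groth.Agent.Lib.Helper33.KoszulGor
import Groth.Agent.Lib.Helper33.GorLCI
import Groth.Agent.Lib.Helper9.KoszulPres
import Groth.Agent.Lib.Helper12.ShriekFinite

/-!
# The relative dualizing complex of a local complete intersection map is invertible (helper14)

* `regstep`: for `x` regular on `C` with `Ext^j(C,K)` concentrated in degree `c` and `x` injective
  on `Ext^c(C,K)`: `Ext^j(C/xC,K)` is concentrated in degree `c+1`, equal to `Ext^c(C,K)/x`.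
* `RegList`, `ext_regList`: `Ext^j_A(A/(l), A)` for a regular list `l` (any ring).
* `regList_of_koszul`: Koszul-regular in the maximal ideal of a Noetherian local ring ⟹ regular.
* `HFAdjEquiv`: `H^i(R K) ≃ Hom(B, K[i])` for any right adjoint `R` of restriction of scalars.
* `ext_local_of_koszul`, `nonempty_locExtEquiv`: the local computation of `Ext_P(P/I, P)` for a
  Koszul-regular ideal `I`.
* `exists_gen_of_tensor_equiv`, `exists_uniform`, `nonempty_tensor_equiv_of_uniform`,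
  `subsingleton_tensor_away`: spreading out from a prime to a basic open set.
* `core`, `main1828`.
-/

set_option autoImplicit false
universe u v
open CategoryTheory
attribute [local instance] HasDerivedCategory.standard

namespace Groth.Agent.Lib.Helper14.DualLCIShriek
open CategoryTheory CategoryTheory.Limits
open Groth.Agent.Lib.Helper12 Groth.Agent.Lib.Helper12.FlatHomBC DRing Pretriangulated
open Groth.Agent.Lib.Helper12.Bass Groth.Agent.Lib.Helper36.InjAmp
open Groth.Agent.Lib.Helper12.DualDim Groth.Agent.Lib.Helper12.Shriek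
open IsLocalRing TensorProduct Pointwise
open Groth.Agent.S0370.D370
open Groth.Agent.Lib.Helper14.DualGor Groth.Agent.Lib.Helper14.DualFormalFibre
open Groth.Agent.Lib.Helper12.CoextCx Groth.Agent.Lib.Helper12.FinDual
open Groth.Agent.Lib.Helper12.ConvDual Groth.Agent.Lib.Helper12.DualizingBC
open Groth.Agent.Lib.Helper12.DualizingAscent
set_option linter.style.haveILetI false
set_option linter.unusedSectionVars false

section Reg
variable {A : Type u} [CommRing A]

theorem regstep (K : Dual.D A) (C : Type u) [AddCommGroup C] [Module A C] (x : A)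
    (hreg : IsSMulRegular C x) (c : ℤ)
    (hvan : ∀ j : ℤ, j ≠ c → Subsingleton (Dual.inD A C ⟶ K⟦j⟧))
    (hinj : ∀ f : Dual.inD A C ⟶ K⟦c⟧, x • f = 0 → f = 0) :
    (∀ j : ℤ, j ≠ c + 1 → Subsingleton (Dual.inD A (QuotSMulTop x C) ⟶ K⟦j⟧)) ∧
    ∃ φ : (Dual.inD A C ⟶ K⟦c⟧) →ₗ[A] (Dual.inD A (QuotSMulTop x C) ⟶ K⟦c + 1⟧),
      Function.Surjective φ ∧ ∀ f, φ f = 0 → ∃ f', f = x • f' := by
  refine ⟨?_, conn K C x hreg c (c + 1) rfl (hvan (c + 1) (by omega))⟩
  have hex : Function.Exact (LinearMap.lsmul A C x) (x • (⊤ : Submodule A C)).mkQ := by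
    rw [LinearMap.exact_iff, Submodule.ker_mkQ]
    ext y
    rw [Submodule.mem_smul_pointwise_iff_exists, LinearMap.mem_range]
    constructor
    · rintro ⟨z, -, rfl⟩
      exact ⟨z, rfl⟩
    · rintro ⟨z, rfl⟩
      exact ⟨z, trivial, rfl⟩
  intro j hj
  by_cases hjc : j = c
  · subst hjc
    obtain ⟨δ, hT⟩ := exists_triangle (LinearMap.lsmul A C x) (x • (⊤ : Submodule A C)).mkQ hreg
      (Submodule.mkQ_surjective _) hex
    have hT' := rot_of_distTriang _ hT
    have hz1 : ∀ z : (Dual.inD A C)⟦(1 : ℤ)⟧ ⟶ K⟦j⟧, z = 0 := by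
      have h1 : ∀ f' : Dual.inD A C ⟶ (K⟦j⟧)⟦(-1 : ℤ)⟧, f' = 0 :=
        shift_add_zero _ K j (-1) (j - 1) (by omega) (fun f' =>
          (hvan (j - 1) (by omega)).elim _ _)
      exact (hom_shift_eq_zero_iff (Dual.inD A C) (K⟦j⟧) (-1)).mp h1
    have h0 : ∀ y : Dual.inD A (QuotSMulTop x C) ⟶ K⟦j⟧, y = 0 := fun y => by
      set g' := (DerivedCategory.singleFunctor (ModuleCat.{u} A) 0).map
        (ModuleCat.ofHom (x • (⊤ : Submodule A C)).mkQ) with hg'
      have hfg : (DerivedCategory.singleFunctor (ModuleCat.{u} A) 0).map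
          (ModuleCat.ofHom (LinearMap.lsmul A C x)) ≫ g' = 0 :=
        comp_distTriang_mor_zero₁₂ _ hT
      have h2 : x • (g' ≫ y) = 0 := by
        rw [single_lsmul] at hfg
        have : (x • 𝟙 (Dual.inD A C)) ≫ g' ≫ y = 0 := by
          rw [← Category.assoc, hfg, zero_comp]
        rw [Linear.smul_comp, Category.id_comp] at this
        exact this
      have h3 := hinj _ h2
      obtain ⟨z, hz⟩ : ∃ z : (Dual.inD A C)⟦(1 : ℤ)⟧ ⟶ K⟦j⟧, y = δ ≫ z :=
        Triangle.yoneda_exact₂ _ hT' y h3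
      rw [hz, hz1 z]
      exact comp_zero
    exact ⟨fun y y' => (h0 y).trans (h0 y').symm⟩
  · exact ext_right (LinearMap.lsmul A C x) (x • (⊤ : Submodule A C)).mkQ K hreg
      (Submodule.mkQ_surjective _) hex j (hvan (j - 1) (by omega)) (hvan j hjc)

/-- `(S/I)/a(S/I) ≃ S/(a, I)` -/
noncomputable def quotSMulTopQuotEquiv (I : Ideal A) (a : A) :
    QuotSMulTop a (A ⧸ I) ≃ₗ[A] A ⧸ (Ideal.span {a} ⊔ I) := by
  let π : A →ₗ[A] QuotSMulTop a (A ⧸ I) :=
    (a • (⊤ : Submodule A (A ⧸ I))).mkQ ∘ₗ (Submodule.mkQ I)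
  have hπ : Function.Surjective π :=
    (Submodule.mkQ_surjective _).comp (Submodule.mkQ_surjective _)
  have hker : LinearMap.ker π = (Ideal.span {a} ⊔ I : Ideal A) := by
    ext x
    rw [LinearMap.mem_ker]
    change (a • (⊤ : Submodule A (A ⧸ I))).mkQ (Submodule.mkQ I x) = 0 ↔ _
    rw [Submodule.mkQ_apply, Submodule.Quotient.mk_eq_zero,
      Submodule.mem_smul_pointwise_iff_exists]
    constructor
    · rintro ⟨y, -, hy⟩
      obtain ⟨y, rfl⟩ := Submodule.mkQ_surjective I y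
      have h1 : Submodule.mkQ I (a • y - x) = 0 := by
        rw [map_sub, map_smul, hy, sub_self]
      rw [Submodule.mkQ_apply, Submodule.Quotient.mk_eq_zero] at h1
      have h2 : x = a • y - (a • y - x) := by ring
      rw [h2]
      refine Submodule.sub_mem _ (Submodule.mem_sup_left ?_) (Submodule.mem_sup_right h1)
      rw [smul_eq_mul, mul_comm]
      exact Ideal.mul_mem_left _ _ (Ideal.subset_span rfl)
    · intro hx
      obtain ⟨u, hu, v, hv, rfl⟩ := Submodule.mem_sup.1 hx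
      obtain ⟨r, rfl⟩ := Ideal.mem_span_singleton'.1 hu
      refine ⟨Submodule.mkQ I r, trivial, ?_⟩
      rw [map_add, ← map_smul]
      have hv0 : Submodule.mkQ I v = 0 := by
        rw [Submodule.mkQ_apply, Submodule.Quotient.mk_eq_zero]
        exact hv
      rw [hv0, add_zero, smul_eq_mul, mul_comm]
  exact (LinearMap.quotKerEquivOfSurjective π hπ).symm ≪≫ₗ
    Submodule.quotEquivOfEq _ _ hker

/-- regular lists (each element regular modulo the later ones) -/
def RegList : List A → Prop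
  | [] => True
  | a :: l => RegList l ∧ IsSMulRegular (A ⧸ Ideal.ofList l) a

open Groth.Agent.Lib.Helper33.DualizingSelf in
theorem ext_regList : ∀ (l : List A), RegList l →
    (∀ j : ℤ, j ≠ (l.length : ℤ) →
      Subsingleton (Dual.inD A (A ⧸ Ideal.ofList l) ⟶ (Dual.inD A A)⟦j⟧)) ∧
    Nonempty ((Dual.inD A (A ⧸ Ideal.ofList l) ⟶ (Dual.inD A A)⟦(l.length : ℤ)⟧) ≃ₗ[A]
      A ⧸ Ideal.ofList l)
  | [], _ => by
    have h0 : Ideal.ofList ([] : List A) = ⊥ := Ideal.ofList_nil
    let e0 : ModuleCat.of A (A ⧸ Ideal.ofList ([] : List A)) ≅ ModuleCat.of A A :=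
      (Submodule.quotEquivOfEqBot _ h0).toModuleIso
    let tr : ∀ j : ℤ, (Dual.inD A (A ⧸ Ideal.ofList ([] : List A)) ⟶ (Dual.inD A A)⟦j⟧) ≃ₗ[A]
        (Dual.inD A A ⟶ (Dual.inD A A)⟦j⟧) := fun j =>
      Linear.homCongr A (inDMapIso e0) (Iso.refl _)
    refine ⟨fun j hj => ?_, ⟨?_⟩⟩
    · simp only [List.length_nil, Nat.cast_zero] at hj
      have : Subsingleton (Dual.inD A A ⟶ (Dual.inD A A)⟦j⟧) := by
        rcases lt_or_gt_of_ne hj with h | h
        · exact subsingleton_hom_inD_shift_of_neg A A A j h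
        · exact subsingleton_hom_inD_shift_of_projective A A A j h
      exact (tr j).toEquiv.subsingleton
    · simp only [List.length_nil, Nat.cast_zero]
      let e1 : (Dual.inD A A ⟶ (Dual.inD A A)⟦(0 : ℤ)⟧) ≃ₗ[A] (Dual.inD A A ⟶ Dual.inD A A) :=
        Linear.homCongr A (Iso.refl _) ((shiftFunctorZero (Dual.D A) ℤ).app _)
      let e2 : A ≃ₗ[A] (Dual.inD A A ⟶ Dual.inD A A) :=
        LinearEquiv.ofBijective (smulId (Dual.inD A A)) (toEnd_bijective A)
      exact tr 0 ≪≫ₗ e1 ≪≫ₗ e2.symm ≪≫ₗ (Submodule.quotEquivOfEqBot _ h0).symm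
  | a :: l, h => by
    obtain ⟨hv, ⟨e⟩⟩ := ext_regList l h.1
    have hreg := h.2
    set C := A ⧸ Ideal.ofList l with hC
    set n : ℤ := (l.length : ℤ) with hn
    have hinj : ∀ f : Dual.inD A C ⟶ (Dual.inD A A)⟦n⟧, a • f = 0 → f = 0 := by
      intro f hf
      have h1 : a • e f = 0 := by rw [← map_smul, hf, map_zero]
      have h2 : e f = 0 := hreg (show a • e f = a • 0 by rw [h1, smul_zero])
      exact e.injective (h2.trans (map_zero e).symm)
    obtain ⟨hv', φ, hφs, hφk⟩ := regstep (Dual.inD A A) C a hreg n hv hinj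
    let e3 := quotSMulTopQuotEquiv (Ideal.ofList l) a
    have hcons : Ideal.span {a} ⊔ Ideal.ofList l = Ideal.ofList (a :: l) :=
      (Ideal.ofList_cons a l).symm
    let e4 : QuotSMulTop a C ≃ₗ[A] A ⧸ Ideal.ofList (a :: l) :=
      e3 ≪≫ₗ Submodule.quotEquivOfEq _ _ hcons
    let tr : ∀ j : ℤ, (Dual.inD A (QuotSMulTop a C) ⟶ (Dual.inD A A)⟦j⟧) ≃ₗ[A]
        (Dual.inD A (A ⧸ Ideal.ofList (a :: l)) ⟶ (Dual.inD A A)⟦j⟧) := fun j =>
      Linear.homCongr A (inDMapIso e4.toModuleIso) (Iso.refl _)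
    have hlen : ((a :: l).length : ℤ) = n + 1 := by
      simp [hn]
    refine ⟨fun j hj => ?_, ⟨?_⟩⟩
    · have := hv' j (by omega)
      exact (tr j).symm.toEquiv.subsingleton
    · rw [hlen]
      -- the composite C → Hom(C, K[n]) → Hom(C/aC, K[n+1])
      let Φ : C →ₗ[A] (Dual.inD A (QuotSMulTop a C) ⟶ (Dual.inD A A)⟦n + 1⟧) :=
        φ ∘ₗ e.symm.toLinearMap
      have hΦs : Function.Surjective Φ := hφs.comp e.symm.surjective
      have hkill : ∀ g : Dual.inD A (QuotSMulTop a C) ⟶ (Dual.inD A A)⟦n + 1⟧, a • g = 0 := by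
        intro g
        have h1 := single_smul_id_eq_zero (ModuleCat.of A (QuotSMulTop a C)) a (fun w => by
          obtain ⟨w, rfl⟩ := Submodule.mkQ_surjective _ w
          rw [← map_smul, Submodule.mkQ_apply, Submodule.Quotient.mk_eq_zero]
          exact Submodule.smul_mem_pointwise_smul _ _ _ trivial)
        have : (a • 𝟙 (Dual.inD A (QuotSMulTop a C))) ≫ g = 0 := by
          rw [h1, zero_comp]
        rwa [Linear.smul_comp, Category.id_comp] at this
      have hΦk : LinearMap.ker Φ = a • (⊤ : Submodule A C) := by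
        ext x
        rw [LinearMap.mem_ker, Submodule.mem_smul_pointwise_iff_exists]
        constructor
        · intro hx
          obtain ⟨f', hf'⟩ := hφk (e.symm x) hx
          refine ⟨e f', trivial, ?_⟩
          rw [← map_smul, ← hf', LinearEquiv.apply_symm_apply]
        · rintro ⟨y, -, rfl⟩
          change φ (e.symm (a • y)) = 0
          rw [map_smul, map_smul]
          exact hkill _
      exact (tr (n + 1)).symm ≪≫ₗ
        ((LinearMap.quotKerEquivOfSurjective Φ hΦs).symm ≪≫ₗ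
          Submodule.quotEquivOfEq _ _ hΦk) ≪≫ₗ e4

end Reg

section KosLocal
open Groth.Agent.Lib.Helper87.KzMod Groth.Agent.Lib.Helper87.KzBasic
  Groth.Agent.Lib.Helper87.KzTop Groth.Agent.Lib.Helper33.KoszulGor
variable {R : Type u} [CommRing R] [IsLocalRing R] [IsNoetherianRing R]

theorem regList_of_koszul : ∀ (l : List R), (∀ a ∈ l, a ∈ maximalIdeal R) →
    (∀ i : ℤ, i ≠ 0 → Subsingleton (KH l R i)) → RegList l
  | [], _, _ => trivial
  | a :: l, hl, h => by
    obtain ⟨h1, h2⟩ := step a (hl a List.mem_cons_self) l h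
    have IH := regList_of_koszul l (fun b hb => hl b (List.mem_cons_of_mem _ hb)) h1
    obtain ⟨e⟩ := nonempty_top l R
    have h3 : IsSMulRegular (R ⧸ (Ideal.ofList l • ⊤ : Submodule R R)) a :=
      (e.isSMulRegular_congr a).1 h2
    have h0 : (Ideal.ofList l • ⊤ : Submodule R R) = Ideal.ofList l := by
      rw [smul_eq_mul, Ideal.mul_top]
    have h4 : IsSMulRegular (R ⧸ Ideal.ofList l) a :=
      ((Submodule.quotEquivOfEq _ _ h0).isSMulRegular_congr a).1 h3
    exact ⟨IH, h4⟩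

end KosLocal

section Adj
variable {A B : Type u} [CommRing A] [CommRing B] [Algebra A B]
attribute [local instance] FinAdj.homModA'

/-- `H^i(R K) ≃ Hom_A(B_A, K[i])`, `A`-linearly, for any right adjoint `R` of restriction -/
noncomputable def HFAdjEquiv (R : Dual.D A ⥤ Dual.D B)
    (adj : DRing.restrictD (algebraMap A B) ⊣ R) (K : Dual.D A) (i : ℤ) :
    (resSc (algebraMap A B)).obj ((HF B i).obj (R.obj K)) ≃ₗ[A]
      (Dual.inD A B ⟶ K⟦i⟧) :=
  (homSingleEquivHF (R.obj K) i).symm ≪≫ₗ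
    ((singleHomEquiv (R.obj K) (ModuleCat.of B B) i).restrictScalars A).symm ≪≫ₗ
    extAdjEquiv R adj K (ModuleCat.of B B) i ≪≫ₗ
    Linear.homCongr A (inDMapIso (PolyDual.resScEquiv (A := A) (B := B) B).toModuleIso)
      (Iso.refl _)

end Adj

section LocalExt
open Groth.Agent.Lib.Helper87.KzMod Groth.Agent.Lib.Helper87.KzBasic
  Groth.Agent.Lib.Helper87.KzTop Groth.Agent.Lib.Helper33.KoszulGor
  Groth.Agent.Lib.Helper33.KoszulBC
variable {P : Type u} [CommRing P] [IsNoetherianRing P]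

/-- the Ext modules of `S/IS` over the local ring `S = P_𝔭` for `I` locally generated by a
Koszul-regular sequence -/
theorem ext_local_of_koszul (I : Ideal P) (g : P) (l : List (Localization.Away g))
    (hl : LCI.IsKoszulRegularSeq (Localization.Away g) l)
    (hIl : I.map (algebraMap P (Localization.Away g)) = Ideal.span {x | x ∈ l})
    (𝔭 : Ideal P) [𝔭.IsPrime] (hg : g ∉ 𝔭) (hI𝔭 : I ≤ 𝔭) :
    (∀ j : ℤ, j ≠ (l.length : ℤ) → Subsingleton
      (Dual.inD (Localization.AtPrime 𝔭)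
        (Localization.AtPrime 𝔭 ⧸ I.map (algebraMap P (Localization.AtPrime 𝔭))) ⟶
        (Dual.inD (Localization.AtPrime 𝔭) (Localization.AtPrime 𝔭))⟦j⟧)) ∧
    Nonempty ((Dual.inD (Localization.AtPrime 𝔭)
        (Localization.AtPrime 𝔭 ⧸ I.map (algebraMap P (Localization.AtPrime 𝔭))) ⟶
        (Dual.inD (Localization.AtPrime 𝔭) (Localization.AtPrime 𝔭))⟦(l.length : ℤ)⟧)
      ≃ₗ[Localization.AtPrime 𝔭]
        (Localization.AtPrime 𝔭 ⧸ I.map (algebraMap P (Localization.AtPrime 𝔭)))) := by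
  haveI : IsNoetherianRing (Localization.AtPrime 𝔭) :=
    IsLocalization.isNoetherianRing 𝔭.primeCompl _ inferInstance
  have hu : IsUnit (algebraMap P (Localization.AtPrime 𝔭) g) :=
    IsLocalization.map_units (Localization.AtPrime 𝔭) (⟨g, hg⟩ : 𝔭.primeCompl)
  letI : Algebra (Localization.Away g) (Localization.AtPrime 𝔭) :=
    (IsLocalization.Away.lift g hu).toAlgebra
  haveI : IsScalarTower P (Localization.Away g) (Localization.AtPrime 𝔭) :=
    IsScalarTower.of_algebraMap_eq (fun x => (IsLocalization.Away.lift_eq g hu x).symm)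
  haveI : Module.Flat P (Localization.AtPrime 𝔭) := IsLocalization.flat _ 𝔭.primeCompl
  haveI : Module.Flat (Localization.Away g) (Localization.AtPrime 𝔭) :=
    (Module.flat_iff_of_isLocalization (Localization.Away g) (Submonoid.powers g) _).2 inferInstance
  have hKH : ∀ i : ℤ, i ≠ 0 → Subsingleton
      (KH (l.map (algebraMap (Localization.Away g) (Localization.AtPrime 𝔭)))
        (Localization.AtPrime 𝔭) i) :=
    fun i hi => subsingleton_KH_of_flat (Localization.AtPrime 𝔭) l i (hl i hi)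
  have hid : Ideal.ofList (l.map (algebraMap (Localization.Away g) (Localization.AtPrime 𝔭))) =
      I.map (algebraMap P (Localization.AtPrime 𝔭)) := by
    rw [← Ideal.map_ofList, IsScalarTower.algebraMap_eq P (Localization.Away g)
      (Localization.AtPrime 𝔭), ← Ideal.map_map, hIl]
  have hmem : ∀ a ∈ l.map (algebraMap (Localization.Away g) (Localization.AtPrime 𝔭)),
      a ∈ maximalIdeal (Localization.AtPrime 𝔭) := by
    intro a ha
    have h1 : a ∈ Ideal.ofList (l.map (algebraMap (Localization.Away g)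
        (Localization.AtPrime 𝔭))) := Ideal.subset_span ha
    rw [hid] at h1
    have h2 : I.map (algebraMap P (Localization.AtPrime 𝔭)) ≤
        maximalIdeal (Localization.AtPrime 𝔭) := by
      rw [← Localization.AtPrime.map_eq_maximalIdeal]
      exact Ideal.map_mono hI𝔭
    exact h2 h1
  have hreg := regList_of_koszul _ hmem hKH
  have key := ext_regList _ hreg
  rw [List.length_map] at key
  rw [hid] at key
  exact key

theorem nonempty_locExtEquiv (I : Ideal P) (𝔭 : Ideal P) [𝔭.IsPrime] (j : ℤ) :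
    Nonempty (Localization.AtPrime 𝔭 ⊗[P] (Dual.inD P (P ⧸ I) ⟶ (Dual.inD P P)⟦j⟧)
      ≃ₗ[Localization.AtPrime 𝔭]
      (Dual.inD (Localization.AtPrime 𝔭)
        (Localization.AtPrime 𝔭 ⧸ I.map (algebraMap P (Localization.AtPrime 𝔭))) ⟶
        (Dual.inD (Localization.AtPrime 𝔭) (Localization.AtPrime 𝔭))⟦j⟧)) := by
  haveI : Module.Flat P (Localization.AtPrime 𝔭) := IsLocalization.flat _ 𝔭.primeCompl
  have hlow : ∀ i : ℤ, i < 0 → IsZero ((HF P i).obj (Dual.inD P P)) :=
    fun i hi => DerivedCategory.isZero_of_isGE _ 0 i hi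
  have hb := bijective_homBCShift (B := Localization.AtPrime 𝔭) (Dual.inD P (P ⧸ I))
    (Dual.inD P P) (isPseudoCoherent'_inD (P ⧸ I)) 0 hlow j
  let e1 : (extScD P (Localization.AtPrime 𝔭)).obj (Dual.inD P (P ⧸ I)) ≅
      Dual.inD (Localization.AtPrime 𝔭)
        (Localization.AtPrime 𝔭 ⧸ I.map (algebraMap P (Localization.AtPrime 𝔭))) :=
    extScD_inD (P ⧸ I) ≪≫ inDMapIso
      (Algebra.TensorProduct.quotIdealMapEquivTensorQuot (Localization.AtPrime 𝔭)
        I).toLinearEquiv.symm.toModuleIso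
  let e2 : (extScD P (Localization.AtPrime 𝔭)).obj (Dual.inD P P) ≅
      Dual.inD (Localization.AtPrime 𝔭) (Localization.AtPrime 𝔭) :=
    extScD_inD P ≪≫ inDMapIso
      (TensorProduct.AlgebraTensorModule.rid P (Localization.AtPrime 𝔭)
        (Localization.AtPrime 𝔭)).toModuleIso
  exact ⟨(LinearEquiv.ofBijective _ hb) ≪≫ₗ
    Linear.homCongr (Localization.AtPrime 𝔭) e1 ((shiftFunctor _ j).mapIso e2)⟩

end LocalExt

section ModLoc
variable {P : Type u} [CommRing P] (𝔭 : Ideal P) [𝔭.IsPrime] (E : Type v) [AddCommGroup E]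
  [Module P E]

instance isLocalizedModule_mk :
    IsLocalizedModule 𝔭.primeCompl (TensorProduct.mk P (Localization.AtPrime 𝔭) E 1) :=
  (isLocalizedModule_iff_isBaseChange 𝔭.primeCompl (Localization.AtPrime 𝔭) _).2
    (TensorProduct.isBaseChange P E (Localization.AtPrime 𝔭))

theorem exists_smul_eq_zero_of_subsingleton_tensor
    (h : Subsingleton (Localization.AtPrime 𝔭 ⊗[P] E)) (x : E) :
    ∃ s : P, s ∉ 𝔭 ∧ s • x = 0 := by
  have h1 : TensorProduct.mk P (Localization.AtPrime 𝔭) E 1 x = 0 := Subsingleton.elim _ _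
  obtain ⟨s, hs⟩ := (IsLocalizedModule.eq_zero_iff 𝔭.primeCompl _).1 h1
  exact ⟨s.1, s.2, hs⟩

theorem exists_gen_of_tensor_equiv (I : Ideal P)
    (ε : Localization.AtPrime 𝔭 ⊗[P] E ≃ₗ[Localization.AtPrime 𝔭]
      (Localization.AtPrime 𝔭 ⧸ I.map (algebraMap P (Localization.AtPrime 𝔭)))) :
    ∃ x₀ : E, (∀ x : E, ∃ s : P, s ∉ 𝔭 ∧ ∃ b : P, s • x = b • x₀) ∧
      (∀ b : P, b • x₀ = 0 → ∃ s : P, s ∉ 𝔭 ∧ s * b ∈ I) := by
  set S := Localization.AtPrime 𝔭 with hS
  set f := TensorProduct.mk P S E 1 with hf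
  let εP := ε.restrictScalars P
  set one' : S ⧸ I.map (algebraMap P S) := Ideal.Quotient.mk _ 1 with hone
  set u := εP.symm one' with hu
  obtain ⟨⟨x₀, s₀⟩, h0⟩ := IsLocalizedModule.surj 𝔭.primeCompl f u
  have h0' : (s₀ : P) • u = f x₀ := h0
  have hPsmul : ∀ (p : P) (c : S), p • (Ideal.Quotient.mk (I.map (algebraMap P S)) c) =
      Ideal.Quotient.mk _ (algebraMap P S p * c) := by
    intro p c
    rw [← Algebra.smul_def]
    rfl
  refine ⟨x₀, fun x => ?_, fun b hb => ?_⟩
  · obtain ⟨c', hc'⟩ := Ideal.Quotient.mk_surjective (εP (f x))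
    obtain ⟨⟨b, s'⟩, hbs⟩ := IsLocalization.surj 𝔭.primeCompl c'
    have h1 : (s' : P) • εP (f x) = b • one' := by
      rw [← hc', hPsmul, hone, hPsmul, mul_one, mul_comm]
      exact congrArg _ hbs
    have h2 : (s' : P) • f x = b • u := by
      apply εP.injective
      rw [map_smul, map_smul, h1, hu, LinearEquiv.apply_symm_apply]
    have h3 : f (((s₀ : P) * (s' : P)) • x - b • x₀) = 0 := by
      rw [map_sub, map_smul, map_smul, mul_smul, h2, ← h0', smul_comm, sub_self]
    obtain ⟨t, ht⟩ := (IsLocalizedModule.eq_zero_iff 𝔭.primeCompl f).1 h3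
    refine ⟨(t : P) * ((s₀ : P) * (s' : P)), ?_, (t : P) * b, ?_⟩
    · exact (t * (s₀ * s')).2
    · have ht' : (t : P) • (((s₀ : P) * (s' : P)) • x - b • x₀) = 0 := ht
      rw [smul_sub, sub_eq_zero] at ht'
      rw [mul_smul, ht', mul_smul]
  · have h1 : b • f x₀ = 0 := by rw [← map_smul, hb, map_zero]
    rw [← h0', smul_smul] at h1
    have h2 : (b * (s₀ : P)) • one' = 0 := by
      have := congrArg εP h1
      rw [map_smul, hu, LinearEquiv.apply_symm_apply, map_zero] at this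
      exact this
    rw [hone, hPsmul, mul_one, Ideal.Quotient.eq_zero_iff_mem,
      IsLocalization.mem_map_algebraMap_iff 𝔭.primeCompl] at h2
    obtain ⟨⟨a, s⟩, has⟩ := h2
    have h3 : algebraMap P S (b * (s₀ : P) * (s : P)) = algebraMap P S (a : P) := by
      rw [map_mul]
      exact has
    obtain ⟨t, ht⟩ := (IsLocalization.eq_iff_exists 𝔭.primeCompl S).1 h3
    refine ⟨(t : P) * ((s₀ : P) * (s : P)), (t * (s₀ * s)).2, ?_⟩
    have : (t : P) * ((s₀ : P) * (s : P)) * b = (t : P) * (b * (s₀ : P) * (s : P)) := by ring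
    rw [this, ht]
    exact Ideal.mul_mem_left _ _ a.2

end ModLoc

section Glob
variable {A : Type u} [CommRing A] [IsNoetherianRing A] (H : Type u) [AddCommGroup H] [Module A H]

theorem exists_uniform [Module.Finite A H] (q : Ideal A) [q.IsPrime] (h₀ : H)
    (hcyc : ∀ h : H, ∃ s : A, s ∉ q ∧ ∃ a : A, s • h = a • h₀)
    (hfaith : ∀ a : A, a • h₀ = 0 → ∃ s : A, s ∉ q ∧ s * a = 0) :
    ∃ s : A, s ∉ q ∧ (∀ h : H, ∃ a : A, s • h = a • h₀) ∧ (∀ a : A, a • h₀ = 0 → s * a = 0) := by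
  classical
  -- cyclicity
  obtain ⟨G, hG⟩ := (Module.Finite.fg_top : (⊤ : Submodule A H).FG)
  choose sf hsf af haf using hcyc
  set s₁ : A := ∏ h ∈ G, sf h with hs₁
  have hs₁q : s₁ ∉ q := by
    rw [hs₁, Ideal.IsPrime.prod_mem_iff]
    rintro ⟨h, -, hh⟩
    exact hsf h hh
  have h1 : ∀ h : H, ∃ a : A, s₁ • h = a • h₀ := by
    intro h
    have hmem : h ∈ Submodule.span A (G : Set H) := by rw [hG]; trivial
    induction hmem using Submodule.span_induction with
    | mem x hx =>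
      obtain ⟨d, hd⟩ := Finset.dvd_prod_of_mem sf hx
      refine ⟨d * af x, ?_⟩
      rw [hs₁, hd, mul_comm, mul_smul, haf x, mul_smul]
    | zero => exact ⟨0, by simp⟩
    | add x y _ _ hx hy =>
      obtain ⟨a, ha⟩ := hx
      obtain ⟨b, hb⟩ := hy
      exact ⟨a + b, by rw [smul_add, ha, hb, add_smul]⟩
    | smul c x _ hx =>
      obtain ⟨a, ha⟩ := hx
      exact ⟨c * a, by rw [smul_comm, ha, mul_smul]⟩
  -- faithfulness
  set J : Ideal A := LinearMap.ker (LinearMap.toSpanSingleton A H h₀) with hJ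
  obtain ⟨G', hG'⟩ := (isNoetherianRing_iff_ideal_fg A).1 inferInstance J
  have hmemJ : ∀ a : A, a ∈ J ↔ a • h₀ = 0 := fun a => by
    rw [hJ, LinearMap.mem_ker, LinearMap.toSpanSingleton_apply]
  have hfaith' : ∀ a : A, ∃ s : A, s ∉ q ∧ (a • h₀ = 0 → s * a = 0) := by
    intro a
    by_cases ha : a • h₀ = 0
    · obtain ⟨s, hs, hsa⟩ := hfaith a ha
      exact ⟨s, hs, fun _ => hsa⟩
    · exact ⟨1, fun h => (Ideal.ne_top_iff_one q).1 (Ideal.IsPrime.ne_top ‹_›) h, fun h => absurd h ha⟩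
  choose tf htf htf' using hfaith'
  set s₂ : A := ∏ b ∈ G', tf b with hs₂
  have hs₂q : s₂ ∉ q := by
    rw [hs₂, Ideal.IsPrime.prod_mem_iff]
    rintro ⟨b, -, hb⟩
    exact htf b hb
  have h2 : ∀ a : A, a ∈ J → s₂ * a = 0 := by
    intro a ha
    rw [← hG'] at ha
    induction ha using Submodule.span_induction with
    | mem x hx =>
      obtain ⟨d, hd⟩ := Finset.dvd_prod_of_mem tf hx
      have hxJ : x ∈ J := by rw [← hG']; exact Submodule.subset_span hx
      rw [hs₂, hd, mul_comm (tf x) d, mul_assoc, htf' x ((hmemJ x).1 hxJ), mul_zero]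
    | zero => exact mul_zero _
    | add x y _ _ hx hy => rw [mul_add, hx, hy, add_zero]
    | smul c x _ hx => rw [smul_eq_mul, mul_left_comm, hx, mul_zero]
  refine ⟨s₁ * s₂, ?_, fun h => ?_, fun a ha => ?_⟩
  · intro hmem
    rcases Ideal.IsPrime.mem_or_mem ‹_› hmem with h | h
    · exact hs₁q h
    · exact hs₂q h
  · obtain ⟨a, ha⟩ := h1 h
    exact ⟨s₂ * a, by rw [mul_comm, mul_smul, ha, mul_smul]⟩
  · rw [mul_assoc, h2 a ((hmemJ a).2 ha), mul_zero]

variable (f : A)

instance isLocalizedModule_mk_away :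
    IsLocalizedModule (Submonoid.powers f) (TensorProduct.mk A (Localization.Away f) H 1) :=
  (isLocalizedModule_iff_isBaseChange (Submonoid.powers f) (Localization.Away f) _).2
    (TensorProduct.isBaseChange A H (Localization.Away f))

theorem nonempty_tensor_equiv_of_uniform (s : A) (hsf : s ∣ f) (h₀ : H)
    (hcyc : ∀ h : H, ∃ a : A, s • h = a • h₀) (hfaith : ∀ a : A, a • h₀ = 0 → s * a = 0) :
    Nonempty (Localization.Away f ⊗[A] H ≃ₗ[Localization.Away f] Localization.Away f) := by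
  set B := Localization.Away f with hB
  have hfu : IsUnit (algebraMap A B f) := IsLocalization.Away.algebraMap_isUnit f
  have hsu : IsUnit (algebraMap A B s) := by
    obtain ⟨d, rfl⟩ := hsf
    rw [map_mul] at hfu
    exact isUnit_of_mul_isUnit_left hfu
  obtain ⟨v, hv⟩ := hsu.exists_right_inv
  let φ : B →ₗ[B] B ⊗[A] H := LinearMap.toSpanSingleton B _ ((1 : B) ⊗ₜ[A] h₀)
  have hφ : ∀ c : B, φ c = c ⊗ₜ[A] h₀ := fun c => by
    change c • ((1 : B) ⊗ₜ[A] h₀) = _
    rw [TensorProduct.smul_tmul', smul_eq_mul, mul_one]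
  have hsurj : Function.Surjective φ := by
    intro y
    induction y using TensorProduct.induction_on with
    | zero => exact ⟨0, map_zero _⟩
    | tmul c h =>
      obtain ⟨a, ha⟩ := hcyc h
      refine ⟨c * v * algebraMap A B a, ?_⟩
      rw [hφ]
      have h1 : c ⊗ₜ[A] h = (c * v) ⊗ₜ[A] (s • h) := by
        rw [← TensorProduct.smul_tmul, Algebra.smul_def, mul_comm (algebraMap A B s),
          mul_assoc, mul_comm v, hv, mul_one]
      rw [h1, ha, ← TensorProduct.smul_tmul, Algebra.smul_def, mul_comm (algebraMap A B a)]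
    | add x y hx hy =>
      obtain ⟨a, ha⟩ := hx
      obtain ⟨b, hb⟩ := hy
      exact ⟨a + b, by rw [map_add, ha, hb]⟩
  have hinj : Function.Injective φ := by
    rw [injective_iff_map_eq_zero]
    intro c hc
    rw [hφ] at hc
    obtain ⟨⟨a', t⟩, hat⟩ := IsLocalization.surj (Submonoid.powers f) c
    have h1 : (algebraMap A B a') ⊗ₜ[A] h₀ = (0 : B ⊗[A] H) := by
      have : (algebraMap A B a') ⊗ₜ[A] h₀ = (algebraMap A B (t : A)) • (c ⊗ₜ[A] h₀) := by
        rw [TensorProduct.smul_tmul', smul_eq_mul, mul_comm]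
        exact congrArg (· ⊗ₜ[A] h₀) hat.symm
      rw [this, hc, smul_zero]
    have h2 : TensorProduct.mk A B H 1 (a' • h₀) = 0 := by
      change (1 : B) ⊗ₜ[A] (a' • h₀) = 0
      rw [← TensorProduct.smul_tmul, Algebra.smul_def, mul_one]
      exact h1
    obtain ⟨t', ht'⟩ := (IsLocalizedModule.eq_zero_iff (Submonoid.powers f) _).1 h2
    have h3 : ((t' : A) * a') • h₀ = 0 := by
      rw [mul_smul]
      exact ht'
    have h4 := hfaith _ h3
    have h5 : algebraMap A B a' = 0 := by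
      have h6 : algebraMap A B s * algebraMap A B (t' : A) * algebraMap A B a' = 0 := by
        rw [← map_mul, ← map_mul, mul_assoc, h4, map_zero]
      have hu' : IsUnit (algebraMap A B s * algebraMap A B (t' : A)) :=
        hsu.mul (IsLocalization.map_units B t')
      exact (hu'.mul_right_eq_zero).1 h6
    have h7 : c * algebraMap A B (t : A) = 0 := by rw [hat, h5]
    exact ((IsLocalization.map_units B t).mul_left_eq_zero).1 h7
  exact ⟨(LinearEquiv.ofBijective φ ⟨hinj, hsurj⟩).symm⟩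

theorem subsingleton_tensor_away
    (hloc : ∀ q' : Ideal A, q'.IsPrime → f ∉ q' → ∀ h : H, ∃ s : A, s ∉ q' ∧ s • h = 0) :
    Subsingleton (Localization.Away f ⊗[A] H) := by
  set B := Localization.Away f with hB
  have hfu : IsUnit (algebraMap A B f) := IsLocalization.Away.algebraMap_isUnit f
  have hpow : ∀ h : H, ∃ k : ℕ, f ^ k • h = 0 := by
    intro h
    set J : Ideal A := LinearMap.ker (LinearMap.toSpanSingleton A H h) with hJ
    have hmem : f ∈ J.radical := by
      rw [Ideal.radical_eq_sInf, Ideal.mem_sInf]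
      rintro q' ⟨hJq, hq'⟩
      by_contra hf
      obtain ⟨s, hs, hsh⟩ := hloc q' hq' hf h
      apply hs
      apply hJq
      rw [hJ, LinearMap.mem_ker, LinearMap.toSpanSingleton_apply]
      exact hsh
    obtain ⟨k, hk⟩ := hmem
    refine ⟨k, ?_⟩
    rw [hJ, LinearMap.mem_ker, LinearMap.toSpanSingleton_apply] at hk
    exact hk
  have h0 : ∀ y : B ⊗[A] H, y = 0 := by
    intro y
    induction y using TensorProduct.induction_on with
    | zero => rfl
    | tmul c h =>
      obtain ⟨k, hk⟩ := hpow h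
      have hu : IsUnit (algebraMap A B (f ^ k)) := by
        rw [map_pow]; exact hfu.pow k
      obtain ⟨v, hv⟩ := hu.exists_right_inv
      have h1 : c ⊗ₜ[A] h = (c * v) ⊗ₜ[A] ((f ^ k) • h) := by
        rw [← TensorProduct.smul_tmul, Algebra.smul_def, mul_comm (algebraMap A B (f ^ k)),
          mul_assoc, mul_comm v, hv, mul_one]
      rw [h1, hk, TensorProduct.tmul_zero]
    | add x y hx hy => rw [hx, hy, add_zero]
  exact ⟨fun x y => (h0 x).trans (h0 y).symm⟩

end Glob

section Core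
variable {P A : Type u} [CommRing P] [CommRing A] [IsNoetherianRing P] [IsNoetherianRing A]
  [Algebra P A]
attribute [local instance] FinAdj.homModA'

theorem core (hs : Function.Surjective (algebraMap P A))
    (hI : LCI.IsKoszulRegularIdeal (RingHom.ker (algebraMap P A)))
    (Rψ : Dual.D P ⥤ Dual.D A) (adj : DRing.restrictD (algebraMap P A) ⊣ Rψ)
    (K₀ : Dual.D P) (eK : K₀ ≅ Dual.inD P P) (n : ℤ) (q : PrimeSpectrum A) :
    ∃ (f : A) (_ : f ∉ q.asIdeal) (m : ℤ),
      Nonempty ((extScD A (Localization.Away f)).obj ((Rψ.obj K₀)⟦n⟧) ≅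
        (Dual.inD (Localization.Away f) (Localization.Away f))⟦m⟧) := by
  set I : Ideal P := (⊥ : Ideal A).comap (algebraMap P A) with hIdef
  have hI' : LCI.IsKoszulRegularIdeal I := hI
  set ω : Dual.D A := (Rψ.obj K₀)⟦n⟧ with hω
  -- the comparison equivalences
  let eA : ModuleCat.of P A ≅ ModuleCat.of P (P ⧸ I) :=
    ((quotientComapEquiv hs (⊥ : Ideal A)) ≪≫ₗ
      (Submodule.quotEquivOfEqBot (⊥ : Ideal A) rfl).restrictScalars P).symm.toModuleIso
  let EQ : ∀ i : ℤ, (resSc (algebraMap P A)).obj ((HF A i).obj (Rψ.obj K₀)) ≃ₗ[P]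
      (Dual.inD P (P ⧸ I) ⟶ (Dual.inD P P)⟦i⟧) := fun i =>
    HFAdjEquiv Rψ adj K₀ i ≪≫ₗ
      Linear.homCongr P (inDMapIso eA) ((shiftFunctor (Dual.D P) i).mapIso eK)
  let SH : ∀ j : ℤ, (HF A j).obj ω ≅ (HF A (n + j)).obj (Rψ.obj K₀) := fun j =>
    (HFShiftIso (A := A) n j (n + j) rfl).app (Rψ.obj K₀)
  -- Φ_j as a function with its properties
  let Φ : ∀ j : ℤ, (HF A j).obj ω → (Dual.inD P (P ⧸ I) ⟶ (Dual.inD P P)⟦n + j⟧) := fun j h =>
    EQ (n + j) ((SH j).hom.hom h)
  have hΦsmul : ∀ (j : ℤ) (p : P) (h : (HF A j).obj ω),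
      Φ j (algebraMap P A p • h) = p • Φ j h := by
    intro j p h
    change EQ (n + j) ((SH j).hom.hom (algebraMap P A p • h)) = p • EQ (n + j) ((SH j).hom.hom h)
    have h1 : (SH j).hom.hom (algebraMap P A p • h) = algebraMap P A p • (SH j).hom.hom h :=
      map_smul _ _ _
    rw [h1]
    exact (EQ (n + j)).map_smul p _
  have hΦinj : ∀ j : ℤ, Function.Injective (Φ j) := by
    intro j x y hxy
    have h1 := (EQ (n + j)).injective hxy
    exact (ConcreteCategory.bijective_of_isIso (SH j).hom).1 h1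
  have hΦsurj : ∀ j : ℤ, Function.Surjective (Φ j) := by
    intro j y
    obtain ⟨z, hz⟩ := (EQ (n + j)).surjective y
    obtain ⟨h, hh⟩ := (ConcreteCategory.bijective_of_isIso (SH j).hom).2 z
    exact ⟨h, by change EQ (n + j) ((SH j).hom.hom h) = y; rw [← hz]; exact congrArg _ hh⟩
  have hΦzero : ∀ j : ℤ, Φ j 0 = 0 := fun j => by
    change EQ (n + j) ((SH j).hom.hom 0) = 0
    have h1 : (SH j).hom.hom 0 = 0 := map_zero _
    rw [h1]
    exact (EQ (n + j)).map_zero
  -- the Koszul data at q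
  set Q : Ideal P := q.asIdeal.comap (algebraMap P A) with hQ
  haveI : Q.IsPrime := Ideal.comap_isPrime _ _
  have hIQ : I ≤ Q := Ideal.comap_mono bot_le
  obtain ⟨g, hg, l, hl, hIl⟩ := hI' ⟨Q, inferInstance⟩ hIQ
  set c : ℤ := (l.length : ℤ) with hc
  -- local vanishing
  have hvan : ∀ (q' : Ideal A), q'.IsPrime → algebraMap P A g ∉ q' → ∀ j : ℤ, n + j ≠ c →
      ∀ h : (HF A j).obj ω, ∃ s : A, s ∉ q' ∧ s • h = 0 := by
    intro q' hq' hgq' j hj h
    haveI := hq'
    haveI : (q'.comap (algebraMap P A)).IsPrime := Ideal.comap_isPrime _ _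
    have hIq' : I ≤ q'.comap (algebraMap P A) := Ideal.comap_mono bot_le
    obtain ⟨hv, -⟩ := ext_local_of_koszul I g l hl hIl (q'.comap (algebraMap P A))
      (fun hmem => hgq' hmem) hIq'
    obtain ⟨ε⟩ := nonempty_locExtEquiv I (q'.comap (algebraMap P A)) (n + j)
    haveI := hv (n + j) hj
    have hsub : Subsingleton (Localization.AtPrime (q'.comap (algebraMap P A)) ⊗[P]
        (Dual.inD P (P ⧸ I) ⟶ (Dual.inD P P)⟦n + j⟧)) := ε.toEquiv.subsingleton
    obtain ⟨s, hs1, hs2⟩ := exists_smul_eq_zero_of_subsingleton_tensor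
      (q'.comap (algebraMap P A)) _ hsub (Φ j h)
    refine ⟨algebraMap P A s, hs1, ?_⟩
    apply hΦinj j
    rw [hΦsmul, hs2, hΦzero]
  -- rank one at q
  set m0 : ℤ := c - n with hm0
  have hnm : c = n + m0 := by omega
  have key1 := ext_local_of_koszul I g l hl hIl Q hg hIQ
  rw [← hc, hnm] at key1
  obtain ⟨-, ⟨ε₁⟩⟩ := key1
  obtain ⟨ε₀⟩ := nonempty_locExtEquiv I Q (n + m0)
  obtain ⟨x₀, hx1, hx2⟩ := exists_gen_of_tensor_equiv Q _ I (ε₀ ≪≫ₗ ε₁)
  obtain ⟨h₀, hh₀⟩ := hΦsurj m0 x₀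
  have hcyc : ∀ h : (HF A m0).obj ω, ∃ s : A, s ∉ q.asIdeal ∧ ∃ a : A, s • h = a • h₀ := by
    intro h
    obtain ⟨s, hs, b, hsb⟩ := hx1 (Φ m0 h)
    refine ⟨algebraMap P A s, hs, algebraMap P A b, ?_⟩
    apply hΦinj m0
    rw [hΦsmul, hΦsmul, hsb, hh₀]
  have hfaith : ∀ a : A, a • h₀ = 0 → ∃ s : A, s ∉ q.asIdeal ∧ s * a = 0 := by
    intro a ha
    obtain ⟨b, rfl⟩ := hs a
    have h1 : b • x₀ = 0 := by
      rw [← hh₀, ← hΦsmul, ha, hΦzero]
    obtain ⟨s, hs1, hs2⟩ := hx2 b h1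
    refine ⟨algebraMap P A s, hs1, ?_⟩
    rw [← map_mul]
    exact hs2
  -- finiteness
  haveI : Module.Finite P A := Module.Finite.of_surjective (Algebra.linearMap P A) hs
  have hlowK : ∀ j : ℤ, j < 0 → IsZero ((HF P j).obj K₀) := fun j hj =>
    (DerivedCategory.isZero_of_isGE (Dual.inD P P) 0 j hj).of_iso ((HF P j).mapIso eK)
  have hfinK : ∀ j : ℤ, Module.Finite P ((HF P j).obj K₀) := by
    intro j
    have h1 : Module.Finite P ((HF P j).obj (Dual.inD P P)) := by
      by_cases hj : j = 0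
      · subst hj
        haveI : Module.Finite P ((𝟭 (ModuleCat P)).obj (ModuleCat.of P P)) :=
          (inferInstance : Module.Finite P P)
        exact Module.Finite.equiv ((HFSingleNatIso (A := P) 0).app (ModuleCat.of P P)).toLinearEquiv.symm
      · have hz : IsZero ((HF P j).obj (Dual.inD P P)) := by
          rcases lt_or_gt_of_ne hj with h | h
          · exact DerivedCategory.isZero_of_isGE (Dual.inD P P) 0 j h
          · exact DerivedCategory.isZero_of_isLE (Dual.inD P P) 0 j h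
        haveI := ModuleCat.subsingleton_of_isZero hz
        infer_instance
    exact Module.Finite.equiv ((HF P j).mapIso eK).toLinearEquiv.symm
  haveI hfinH : Module.Finite A ((HF A m0).obj ω) := by
    have h1 := FinAdj.finite_HF_rightAdjoint Rψ adj K₀ 0 hlowK hfinK (n + m0)
    exact Module.Finite.equiv (SH m0).toLinearEquiv.symm
  obtain ⟨s₁, hs₁q, hc1, hf1⟩ := exists_uniform ((HF A m0).obj ω) q.asIdeal h₀ hcyc hfaith
  refine ⟨algebraMap P A g * s₁, ?_, -m0, ?_⟩
  · intro hmem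
    rcases Ideal.IsPrime.mem_or_mem inferInstance hmem with h | h
    · exact hg h
    · exact hs₁q h
  set f : A := algebraMap P A g * s₁ with hf
  set B := Localization.Away f with hB
  haveI : Module.Flat A B := IsLocalization.flat _ (Submonoid.powers f)
  set ωB := (extScD A B).obj ω with hωB
  have hz : ∀ j : ℤ, j ≠ m0 → IsZero ((HF B j).obj ωB) := by
    intro j hj
    have hsub : Subsingleton (B ⊗[A] (HF A j).obj ω) :=
      subsingleton_tensor_away ((HF A j).obj ω) f (fun q' hq' hfq' h =>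
        hvan q' hq' (fun hmem => hfq' (Ideal.mul_mem_right _ _ hmem)) j (by omega) h)
    have : Subsingleton (Dual.HD B ωB j) := (hdExtEquiv (B := B) ω j).symm.toEquiv.subsingleton
    exact ModuleCat.isZero_of_subsingleton _
  obtain ⟨e1⟩ := nonempty_tensor_equiv_of_uniform ((HF A m0).obj ω) f s₁ (Dvd.intro_left _ rfl)
    h₀ hc1 hf1
  have hWt : (HF B m0).obj ωB ≃ₗ[B] B := (hdExtEquiv (B := B) ω m0).symm ≪≫ₗ e1
  obtain ⟨Wm, ⟨eW⟩⟩ := exists_single_iso (ωB⟦m0⟧) (fun j hj => by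
    apply isZero_HF_shift
    exact hz (m0 + j) (by omega))
  have i1 : (HF B m0).obj ωB ≅ (HF B 0).obj (ωB⟦m0⟧) :=
    ((HFShiftIso (A := B) m0 0 m0 (by ring)).app ωB).symm
  have i2 : (HF B 0).obj (ωB⟦m0⟧) ≅ Wm :=
    (HF B 0).mapIso eW ≪≫ (HFSingleNatIso (A := B) 0).app Wm
  have iW : Wm ≅ ModuleCat.of B B := (i1 ≪≫ i2).symm ≪≫ hWt.toModuleIso
  have eWF : ωB⟦m0⟧ ≅ Dual.inD B B := eW ≪≫ inDMapIso iW
  exact ⟨((shiftFunctorCompIsoId (Dual.D B) m0 (-m0) (by omega)).app ωB).symm ≪≫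
    (shiftFunctor (Dual.D B) (-m0)).mapIso eWF⟩

end Core

theorem main1828 (R A : Type u) [CommRing R] [CommRing A] [IsNoetherianRing R]
    [IsNoetherianRing A] [Algebra R A] (hl : LCI.IsLCI R A) (n : ℕ)
    (ψ : MvPolynomial (Fin n) R →ₐ[R] A) (hψ : Function.Surjective ψ)
    [DRing.HasLBaseChange (algebraMap R (MvPolynomial (Fin n) R))]
    (Rψ : Dual.D (MvPolynomial (Fin n) R) ⥤ Dual.D A) (adj : DRing.restrictD ψ.toRingHom ⊣ Rψ)
    [hL : ∀ f : A, DRing.HasLBaseChange (algebraMap A (Localization.Away f))]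
    (q : PrimeSpectrum A) :
    ∃ (f : A) (_ : f ∉ q.asIdeal) (m : ℤ),
      Nonempty ((DRing.LBaseChange (algebraMap A (Localization.Away f))).obj
        (Dual2.shriekVia n Rψ (Dual.inD R R)) ≅
        (Dual.inD (Localization.Away f) (Localization.Away f))⟦m⟧) := by
  obtain ⟨-, n', f', hf', hK'⟩ := hl
  have hker := Groth.Agent.Lib.Helper9.KoszulPres.main R A n' n f' hf' ψ hψ hK'
  letI : Algebra (MvPolynomial (Fin n) R) A := ψ.toRingHom.toAlgebra
  haveI : Module.Flat R (MvPolynomial (Fin n) R) := inferInstance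
  let K₀ := (DRing.LBaseChange (algebraMap R (MvPolynomial (Fin n) R))).obj (Dual.inD R R)
  let eK : K₀ ≅ Dual.inD (MvPolynomial (Fin n) R) (MvPolynomial (Fin n) R) :=
    (lBaseChangeIsoExtScD (A := R) (B := MvPolynomial (Fin n) R)).app (Dual.inD R R) ≪≫
      extScD_inD R ≪≫ inDMapIso (TensorProduct.AlgebraTensorModule.rid R
        (MvPolynomial (Fin n) R) (MvPolynomial (Fin n) R)).toModuleIso
  obtain ⟨f, hf, m, ⟨e⟩⟩ := core (P := MvPolynomial (Fin n) R) (A := A) hψ hker Rψ adj K₀ eK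
    (n : ℤ) q
  haveI : Module.Flat A (Localization.Away f) := IsLocalization.flat _ (Submonoid.powers f)
  exact ⟨f, hf, m, ⟨(lBaseChangeIsoExtScD (A := A) (B := Localization.Away f)).app _ ≪≫ e⟩⟩

end Groth.Agent.Lib.Helper14.DualLCIShriek
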