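import Mathlib
import Groth.Agent.Lib.Helper14.DualLCIShriek
import Groth.Agent.Lib.Helper12.DimensionFunction
import Groth.Agent.Lib.Helper12.FiniteNormalized
/-!
# The upper shriek of a normalized dualizing complex is normalized at maximal ideals over the
closed point (helper14)

* `delta_height`: a dimension function on a poset with bottom drops by the height.
* `height_maximal`: maximal ideals of `k[x_1..x_n]` have height `n`.
* `covBy_comap`: covers of primes pull back along surjections.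
* `ext_closedFibre'`: `Ext_D^j(D/𝔪D, ω ⊗ D)` for `A → D` flat, `ω` normalized dualizing on local `A`.
* `poly_vanishing`: `Ext^j_P(P/M, ω ⊗ P) = 0` for `j ≠ n`, `M` maximal over `𝔪_R`, `P = R[x_1..x_n]`.
* `main1789`.
-/

set_option autoImplicit false
universe u v
open CategoryTheory
attribute [local instance] HasDerivedCategory.standard
namespace Groth.Agent.Lib.Helper14.DualShriekNorm
open CategoryTheory CategoryTheory.Limits
open Groth.Agent.Lib.Helper12 Groth.Agent.Lib.Helper12.FlatHomBC DRing Pretriangulated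
open Groth.Agent.Lib.Helper12.Bass Groth.Agent.Lib.Helper36.InjAmp
open Groth.Agent.Lib.Helper12.DualDim Groth.Agent.Lib.Helper12.Shriek
open IsLocalRing TensorProduct Pointwise
open Groth.Agent.S0370.D370
open Groth.Agent.Lib.Helper14.DualGor Groth.Agent.Lib.Helper14.DualFormalFibre
open Groth.Agent.Lib.Helper12.CoextCx Groth.Agent.Lib.Helper12.FinDual
open Groth.Agent.Lib.Helper12.ConvDual Groth.Agent.Lib.Helper12.DualizingBC
open Groth.Agent.Lib.Helper12.DualizingAscent
set_option linter.style.haveILetI false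
set_option linter.unusedSectionVars false

/-- abstract: dimension function & height -/
theorem delta_height {X : Type*} [PartialOrder X] [OrderBot X] (δ : X → ℤ)
    (hδ : ∀ p q : X, p ⋖ q → δ p = δ q + 1) :
    ∀ (r : ℕ) (b : X), Order.height b = r → δ ⊥ = δ b + r := by
  intro r
  induction r with
  | zero =>
    intro b hb
    have h0 : IsMin b := Order.height_eq_zero.mp (by simpa using hb)
    have hb' : b = ⊥ := isMin_iff_eq_bot.mp h0
    subst hb'; simp
  | succ r ih =>
    intro b hb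
    have hfin : Order.height b < ⊤ := by rw [hb]; exact ENat.natCast_lt_top _
    have hlt : (r : ℕ∞) < Order.height b := by rw [hb]; exact_mod_cast Nat.lt_succ_self r
    obtain ⟨c, hcb, hc⟩ := (Order.coe_lt_height_iff hfin).mp hlt
    have hcov : c ⋖ b := by
      refine ⟨hcb, fun x hcx hxb => ?_⟩
      have h1 : Order.height c < Order.height x :=
        Order.height_strictMono hcx (by rw [hc]; exact ENat.natCast_lt_top _)
      have hxfin : Order.height x < ⊤ := lt_of_le_of_lt (Order.height_mono hxb.le) hfin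
      have h2 : Order.height x < Order.height b := Order.height_strictMono hxb hxfin
      rw [hc] at h1; rw [hb] at h2
      obtain ⟨m, hm⟩ := ENat.ne_top_iff_exists.mp hxfin.ne
      rw [← hm] at h1 h2
      norm_cast at h1 h2
      omega
    rw [ih c hc, hδ c b hcov]; push_cast; ring

theorem height_maximal (k : Type u) [Field k] :
    ∀ (n : ℕ) (M : Ideal (MvPolynomial (Fin n) k)), M.IsMaximal → M.height = n := by
  intro n
  induction n with
  | zero =>
    intro M hM
    let e : MvPolynomial (Fin 0) k ≃+* k := MvPolynomial.isEmptyRingEquiv k (Fin 0)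
    have h1 : (M.map e).height = M.height := e.height_map M
    haveI hmax : (M.map e).IsMaximal := Ideal.map_isMaximal_of_equiv e
    have h2 : M.map e = ⊥ := Ideal.eq_bot_of_prime _
    rw [← h1, h2, Ideal.height_bot]; simp
  | succ n ih =>
    intro M hM
    let e : MvPolynomial (Fin (n+1)) k ≃+* Polynomial (MvPolynomial (Fin n) k) :=
      (MvPolynomial.finSuccEquiv k n).toRingEquiv
    have h1 : (M.map e).height = M.height := e.height_map M
    haveI hmax : (M.map e).IsMaximal := Ideal.map_isMaximal_of_equiv e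
    haveI hp : ((M.map e).under (MvPolynomial (Fin n) k)).IsMaximal := by
      have := Polynomial.isMaximal_comap_C_of_isJacobsonRing (M.map e)
      exact this
    haveI hlo : (M.map e).LiesOver ((M.map e).under (MvPolynomial (Fin n) k)) :=
      Ideal.over_under _
    have h2 := Polynomial.height_eq_height_add_one ((M.map e).under (MvPolynomial (Fin n) k)) (M.map e)
    rw [← h1, h2, ih _ hp]; push_cast; rfl

theorem covBy_comap {P C : Type*} [CommRing P] [CommRing C] (π : P →+* C)
    (hπ : Function.Surjective π) (c c' : PrimeSpectrum C) (h : c ⋖ c') :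
    PrimeSpectrum.comap π c ⋖ PrimeSpectrum.comap π c' := by
  have key : ∀ a b : PrimeSpectrum C, PrimeSpectrum.comap π a < PrimeSpectrum.comap π b ↔ a < b := by
    intro a b
    rw [← PrimeSpectrum.asIdeal_lt_asIdeal, ← PrimeSpectrum.asIdeal_lt_asIdeal, lt_iff_le_not_ge,
      lt_iff_le_not_ge]
    change (Ideal.comap π a.asIdeal ≤ Ideal.comap π b.asIdeal ∧
      ¬ Ideal.comap π b.asIdeal ≤ Ideal.comap π a.asIdeal) ↔ _
    rw [Ideal.comap_le_comap_iff_of_surjective π hπ, Ideal.comap_le_comap_iff_of_surjective π hπ]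
  refine ⟨(key _ _).mpr h.1, fun x hcx hxc' => ?_⟩
  have hker : RingHom.ker π ≤ x.asIdeal := by
    have h1 : (PrimeSpectrum.comap π c).asIdeal ≤ x.asIdeal := (PrimeSpectrum.asIdeal_le_asIdeal _ _).mpr hcx.le
    exact le_trans (Ideal.comap_mono bot_le) h1
  let x' : PrimeSpectrum C := ⟨x.asIdeal.map π, Ideal.map_isPrime_of_surjective hπ hker⟩
  have hx : PrimeSpectrum.comap π x' = x := by
    refine PrimeSpectrum.ext ?_
    change Ideal.comap π (Ideal.map π x.asIdeal) = x.asIdeal
    rw [Ideal.comap_map_of_surjective π hπ]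
    exact sup_eq_left.mpr hker
  rw [← hx] at hcx hxc'
  exact h.2 ((key _ _).mp hcx) ((key _ _).mp hxc')

theorem subsingleton_of_localized {P : Type*} [CommRing P] (M : Ideal P) [hM : M.IsMaximal]
    (V : Type*) [AddCommGroup V] [Module P V] (hkill : ∀ x ∈ M, ∀ v : V, x • v = 0)
    (h : Subsingleton (LocalizedModule M.primeCompl V)) : Subsingleton V := by
  refine ⟨fun v w => ?_⟩
  suffices hz : ∀ v : V, v = 0 by rw [hz v, hz w]
  intro v
  have h0 : LocalizedModule.mkLinearMap M.primeCompl V v = 0 := Subsingleton.elim _ _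
  obtain ⟨s, hs⟩ := (IsLocalizedModule.eq_zero_iff M.primeCompl
    (LocalizedModule.mkLinearMap M.primeCompl V)).mp h0
  obtain ⟨y, i, hi, hyi⟩ := hM.exists_inv s.2
  calc v = (1 : P) • v := (one_smul _ _).symm
    _ = (y * (s : P) + i) • v := by rw [hyi]
    _ = y • ((s : P) • v) + i • v := by rw [add_smul, mul_smul]
    _ = 0 := by
        have : (s : P) • v = 0 := hs
        rw [this, hkill i hi v, smul_zero, add_zero]

theorem nontrivial_localized_quotient {P : Type*} [CommRing P] (q : Ideal P) [hq : q.IsPrime] :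
    Nontrivial (LocalizedModule q.primeCompl (P ⧸ q)) := by
  by_contra hn
  rw [not_nontrivial_iff_subsingleton] at hn
  have h0 : LocalizedModule.mkLinearMap q.primeCompl (P ⧸ q) (1 : P ⧸ q) = 0 :=
    Subsingleton.elim _ _
  obtain ⟨s, hs⟩ := (IsLocalizedModule.eq_zero_iff q.primeCompl
    (LocalizedModule.mkLinearMap q.primeCompl (P ⧸ q))).mp h0
  have h1 : (s : P) • (1 : P ⧸ q) = Ideal.Quotient.mk q (s : P) := by
    rw [Algebra.smul_def, mul_one]; rfl
  have h2 : Ideal.Quotient.mk q (s : P) = 0 := by rw [← h1]; exact hs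
  exact s.2 (Ideal.Quotient.eq_zero_iff_mem.mp h2)

theorem nontrivial_localized_congr {P : Type*} [CommRing P] (S : Submonoid P)
    {V W : Type*} [AddCommGroup V] [Module P V] [AddCommGroup W] [Module P W] (e : V ≃ₗ[P] W)
    (h : Nontrivial (LocalizedModule S W)) : Nontrivial (LocalizedModule S V) := by
  rw [← not_subsingleton_iff_nontrivial, LocalizedModule.subsingleton_iff] at h ⊢
  intro hV
  refine h (fun w => ?_)
  obtain ⟨r, hr, hrm⟩ := hV (e.symm w)
  refine ⟨r, hr, ?_⟩
  have := congrArg e hrm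
  rwa [map_smul, e.apply_symm_apply, map_zero] at this

section CF
variable {A D : Type u} [CommRing A] [CommRing D] [IsNoetherianRing A] [IsNoetherianRing D]
  [IsLocalRing A] [Algebra A D] [Module.Flat A D]

/-- non-local target version of `ext_closedFibre`, normalized -/
theorem ext_closedFibre' (J : Ideal D) (hJ : J = (maximalIdeal A).map (algebraMap A D))
    (ω : Dual.D A) (hω : Dual.IsDualizing A ω) (hn : Dual.IsNormalized A ω) :
    (∀ j : ℤ, j ≠ 0 → Subsingleton (Dual.inD D (D ⧸ J) ⟶ ((extScD A D).obj ω)⟦j⟧)) ∧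
      Nonempty ((Dual.inD D (D ⧸ J) ⟶ ((extScD A D).obj ω)⟦(0 : ℤ)⟧) ≃ₗ[D] (D ⧸ J)) := by
  subst hJ
  obtain ⟨a, b, hab⟩ := hω.finite_injective_dimension
  have hz := isZero_HF_of_finite_injective_dimension ω a b hab
  have hlow : ∀ j : ℤ, j < a → IsZero ((HF A j).obj ω) := fun j hj => hz j (Or.inl hj)
  obtain ⟨t, ht1, ⟨ht2⟩⟩ := Groth.Agent.S0364.result A ω hω (maximalIdeal A)
  have ht0 : t = 0 := by
    by_contra hne
    haveI : Subsingleton (Dual.inD A (A ⧸ maximalIdeal A) ⟶ ω⟦t⟧) := hn t hne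
    haveI : Subsingleton (A ⧸ maximalIdeal A) := ht2.symm.toEquiv.subsingleton
    exact not_subsingleton (A ⧸ maximalIdeal A) inferInstance
  subst ht0
  let e' : (extScD A D).obj (Dual.inD A (A ⧸ maximalIdeal A)) ≅
      Dual.inD D (D ⧸ (maximalIdeal A).map (algebraMap A D)) :=
    extScD_inD (A ⧸ maximalIdeal A) ≪≫ inDMapIso
      (Algebra.TensorProduct.quotIdealMapEquivTensorQuot D
        (maximalIdeal A)).toLinearEquiv.symm.toModuleIso
  have hb : ∀ j : ℤ, Function.Bijective (homBCShift D (Dual.inD A (A ⧸ maximalIdeal A)) ω j) :=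
    fun j => bijective_homBCShift (B := D) _ ω (isPseudoCoherent'_inD (A ⧸ maximalIdeal A)) a hlow j
  let H : ∀ j : ℤ, (Dual.inD D (D ⧸ (maximalIdeal A).map (algebraMap A D)) ⟶
      ((extScD A D).obj ω)⟦j⟧) ≃ₗ[D]
      D ⊗[A] (Dual.inD A (A ⧸ maximalIdeal A) ⟶ ω⟦j⟧) := fun j =>
    (Linear.homCongr D e' (Iso.refl _)).symm ≪≫ₗ (LinearEquiv.ofBijective _ (hb j)).symm
  refine ⟨fun j hj => ?_, ⟨?_⟩⟩
  · haveI := ht1 j hj
    have : Subsingleton (D ⊗[A] (Dual.inD A (A ⧸ maximalIdeal A) ⟶ ω⟦j⟧)) := inferInstance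
    exact (H j).toEquiv.subsingleton
  · exact H 0 ≪≫ₗ (ht2.baseChange A D _ _) ≪≫ₗ
      (Algebra.TensorProduct.quotIdealMapEquivTensorQuot D (maximalIdeal A)).toLinearEquiv.symm

end CF

/-- the key vanishing on the polynomial ring -/
theorem poly_vanishing (R : Type u) [CommRing R] [IsNoetherianRing R] [IsLocalRing R] (n : ℕ)
    (ω : Dual.D R) (hω : Dual.IsDualizing R ω) (hn : Dual.IsNormalized R ω)
    (M : Ideal (MvPolynomial (Fin n) R)) [hM : M.IsMaximal]
    (hMR : M.comap (algebraMap R (MvPolynomial (Fin n) R)) = maximalIdeal R)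
    (j : ℤ) (hj : j ≠ n) :
    Subsingleton (Dual.inD (MvPolynomial (Fin n) R) (MvPolynomial (Fin n) R ⧸ M) ⟶
      ((extScD R (MvPolynomial (Fin n) R)).obj ω)⟦j⟧) := by
  classical
  set P := MvPolynomial (Fin n) R with hP
  set ωP := (extScD R P).obj ω with hωP
  have hd : Dual.IsDualizing P ωP := isDualizing_extScD_mvPolynomial n R ω hω
  obtain ⟨δ, hδ1, hδ2⟩ := Groth.Agent.Lib.Helper12.DimFn.exists_dimension_function ωP hd
  let k := ResidueField R
  let C := MvPolynomial (Fin n) k
  let π : P →+* C := MvPolynomial.map (residue R)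
  have hπ : Function.Surjective π := MvPolynomial.map_surjective _ (residue_surjective)
  have hkerπ : RingHom.ker π = (maximalIdeal R).map (algebraMap R P) := by
    rw [MvPolynomial.ker_map, ker_residue, MvPolynomial.algebraMap_eq]
  have hkerM : RingHom.ker π ≤ M := by
    rw [hkerπ, Ideal.map_le_iff_le_comap, hMR]
  -- the point q0
  haveI hq0p : ((maximalIdeal R).map (algebraMap R P)).IsPrime := by
    rw [← hkerπ]; exact RingHom.ker_isPrime π
  let Q0 : PrimeSpectrum P := ⟨(maximalIdeal R).map (algebraMap R P), hq0p⟩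
  have hQ0 : Q0 = PrimeSpectrum.comap π ⊥ := by
    refine PrimeSpectrum.ext ?_
    change (maximalIdeal R).map (algebraMap R P) = Ideal.comap π ⊥
    rw [← hkerπ, RingHom.ker_eq_comap_bot]
  -- the point M
  let Mp : PrimeSpectrum P := ⟨M, hM.isPrime⟩
  haveI hMbar : (M.map π).IsMaximal := Ideal.IsMaximal.map_of_surjective_of_ker_le hπ hkerM
  let Mbar : PrimeSpectrum C := ⟨M.map π, hMbar.isPrime⟩
  have hMp : Mp = PrimeSpectrum.comap π Mbar := by
    refine PrimeSpectrum.ext ?_
    change M = Ideal.comap π (Ideal.map π M)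
    rw [Ideal.comap_map_of_surjective π hπ]
    exact (sup_eq_left.mpr hkerM).symm
  have hht : Order.height Mbar = n := by
    rw [← PrimeSpectrum.height_eq_orderHeight]
    exact height_maximal k n (M.map π) hMbar
  -- dimension function on Spec C
  have hδ' : ∀ c c' : PrimeSpectrum C, c ⋖ c' →
      δ (PrimeSpectrum.comap π c) = δ (PrimeSpectrum.comap π c') + 1 :=
    fun c c' h => hδ2 _ _ (covBy_comap π hπ c c' h)
  have hkey : δ (PrimeSpectrum.comap π ⊥) = δ (PrimeSpectrum.comap π Mbar) + n :=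
    delta_height (fun c => δ (PrimeSpectrum.comap π c)) hδ' n Mbar hht
  rw [← hQ0, ← hMp] at hkey
  -- δ Q0 = 0
  obtain ⟨h1, ⟨h2⟩⟩ := ext_closedFibre' (A := R) (D := P) ((maximalIdeal R).map (algebraMap R P)) rfl
    ω hω hn
  have hQ0δ : δ Q0 = 0 := by
    have hnt : Nontrivial (LocalizedModule Q0.asIdeal.primeCompl
        (Dual.inD P (P ⧸ Q0.asIdeal) ⟶ ωP⟦(0 : ℤ)⟧)) :=
      nontrivial_localized_congr _ h2 (nontrivial_localized_quotient _)
    have := (hδ1 Q0 0).mp hnt
    omega
  have hMδ : δ Mp = -n := by omega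
  -- conclude
  have hnn : ¬ Nontrivial (LocalizedModule Mp.asIdeal.primeCompl
      (Dual.inD P (P ⧸ Mp.asIdeal) ⟶ ωP⟦j⟧)) := by
    intro hnt
    have := (hδ1 Mp j).mp hnt
    rw [hMδ] at this
    exact hj (by omega)
  rw [not_nontrivial_iff_subsingleton] at hnn
  refine subsingleton_of_localized M _ (fun x hx f => ?_) hnn
  have h0 : x • 𝟙 (Dual.inD P (P ⧸ M)) = 0 := by
    refine single_smul_id_eq_zero (ModuleCat.of P (P ⧸ M)) x (fun w => ?_)
    obtain ⟨y, rfl⟩ := Ideal.Quotient.mk_surjective w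
    change Ideal.Quotient.mk M (x * y) = 0
    rw [Ideal.Quotient.eq_zero_iff_mem]
    exact Ideal.mul_mem_right _ _ hx
  have : x • f = (x • 𝟙 _) ≫ f := by rw [Linear.smul_comp, Category.id_comp]
  rw [this, h0, zero_comp]

theorem main1789 (R A : Type u) [CommRing R] [CommRing A] [IsNoetherianRing R] [IsNoetherianRing A]
    [Algebra R A] (n : ℕ) (ψ : MvPolynomial (Fin n) R →ₐ[R] A) (hψ : Function.Surjective ψ)
    [DRing.HasLBaseChange (algebraMap R (MvPolynomial (Fin n) R))]
    (Rψ : Dual.D (MvPolynomial (Fin n) R) ⥤ Dual.D A) (adj : DRing.restrictD ψ.toRingHom ⊣ Rψ)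
    [IsLocalRing R] (m : Ideal A) [hm' : m.IsMaximal]
    (hm : m.comap (algebraMap R A) = IsLocalRing.maximalIdeal R) (ω : Dual.D R)
    (hω : Dual.IsDualizing R ω) (hn : Dual.IsNormalized R ω)
    [DRing.HasLBaseChange (algebraMap A (Localization.AtPrime m))] :
    Dual.IsDualizing (Localization.AtPrime m)
        ((DRing.LBaseChange (algebraMap A (Localization.AtPrime m))).obj
          (Dual2.shriekVia n Rψ ω)) ∧
      Dual.IsNormalized (Localization.AtPrime m)
        ((DRing.LBaseChange (algebraMap A (Localization.AtPrime m))).obj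
          (Dual2.shriekVia n Rψ ω)) := by
  classical
  set P := MvPolynomial (Fin n) R with hP
  set Y := Dual2.shriekVia n Rψ ω with hY
  have hYd : Dual.IsDualizing A Y := isDualizing_shriek R A n ψ hψ Rψ adj ω hω
  let Am := Localization.AtPrime m
  haveI : IsNoetherianRing Am := IsLocalization.isNoetherianRing m.primeCompl _ inferInstance
  let eZ : (LBaseChange (algebraMap A Am)).obj Y ≅ (extScD A Am).obj Y :=
    (lBaseChangeIsoExtScD (A := A) (B := Am)).app Y
  have hZd : Dual.IsDualizing Am ((extScD A Am).obj Y) := isDualizing_localization Y hYd m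
  refine ⟨isDualizing_of_iso eZ.symm hZd, ?_⟩
  intro i hi
  -- the maximal ideal of P
  let M : Ideal P := m.comap ψ.toRingHom
  haveI hMmax : M.IsMaximal := Ideal.comap_isMaximal_of_surjective ψ.toRingHom hψ
  have hMR : M.comap (algebraMap R P) = maximalIdeal R := by
    rw [← hm]
    change Ideal.comap (algebraMap R P) (Ideal.comap ψ.toRingHom m) = _
    rw [Ideal.comap_comap]
    congr 1
    exact ψ.comp_algebraMap
  let ωL := (LBaseChange (algebraMap R P)).obj ω
  let eL : ωL ≅ (extScD R P).obj ω := (lBaseChangeIsoExtScD (A := R) (B := P)).app ω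
  -- the module iso
  let g : P →ₗ[P] ((resSc ψ.toRingHom).obj (ModuleCat.of A (A ⧸ m))) :=
    { toFun := fun x => (Ideal.Quotient.mk m (ψ x) : A ⧸ m)
      map_add' := fun x y => by rw [map_add, map_add]; rfl
      map_smul' := fun x y => by
        rw [smul_eq_mul, map_mul, map_mul]
        rfl }
  have hg : Function.Surjective g := by
    intro w
    obtain ⟨a, rfl⟩ := Ideal.Quotient.mk_surjective (I := m) w
    obtain ⟨x, rfl⟩ := hψ a
    exact ⟨x, rfl⟩
  have hkg : M = LinearMap.ker g := by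
    ext x
    change ψ x ∈ m ↔ (Ideal.Quotient.mk m (ψ x) : A ⧸ m) = 0
    rw [Ideal.Quotient.eq_zero_iff_mem]
  let ε : (P ⧸ M) ≃ₗ[P] ((resSc ψ.toRingHom).obj (ModuleCat.of A (A ⧸ m))) :=
    (Submodule.quotEquivOfEq M (LinearMap.ker g) hkg).trans (g.quotKerEquivOfSurjective hg)
  -- vanishing over A
  have hA : ∀ f : Dual.inD A (A ⧸ m) ⟶ Y⟦i⟧, f = 0 := by
    intro f
    have hN : ∀ f' : Dual.inD P ((resSc ψ.toRingHom).obj (ModuleCat.of A (A ⧸ m))) ⟶
        ωL⟦(n : ℤ) + i⟧, f' = 0 := by
      intro f'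
      haveI : Subsingleton (Dual.inD P (P ⧸ M) ⟶ ((extScD R P).obj ω)⟦(n : ℤ) + i⟧) :=
        poly_vanishing R n ω hω hn M hMR ((n : ℤ) + i) (by omega)
      haveI : Subsingleton (Dual.inD P ((resSc ψ.toRingHom).obj (ModuleCat.of A (A ⧸ m))) ⟶
          ωL⟦(n : ℤ) + i⟧) :=
        (Iso.homCongr (inDMapIso ε.toModuleIso).symm
          ((shiftFunctor _ ((n : ℤ) + i)).mapIso eL)).subsingleton
      exact Subsingleton.elim _ _
    let κ := (shiftFunctorAdd' (Dual.D A) (n : ℤ) i ((n : ℤ) + i) rfl).app (Rψ.obj ωL)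
    have h0 := hom_inD_shift_eq_zero' ψ.toRingHom Rψ adj ωL (A ⧸ m) ((n : ℤ) + i) hN
      (f ≫ κ.inv)
    have : f = (f ≫ κ.inv) ≫ κ.hom := by rw [Category.assoc, Iso.inv_hom_id, Category.comp_id]
    rw [this, h0, zero_comp]
  haveI hAs : Subsingleton (Dual.inD A (A ⧸ m) ⟶ Y⟦i⟧) :=
    ⟨fun f g => by rw [hA f, hA g]⟩
  -- base change
  obtain ⟨a, b, hab⟩ := hYd.finite_injective_dimension
  have hz := isZero_HF_of_finite_injective_dimension Y a b hab
  have hlow : ∀ j : ℤ, j < a → IsZero ((HF A j).obj Y) := fun j hj => hz j (Or.inl hj)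
  have hb := bijective_homBCShift (B := Am) (Dual.inD A (A ⧸ m)) Y
    (isPseudoCoherent'_inD (A ⧸ m)) a hlow i
  haveI h1 : Subsingleton ((extScD A Am).obj (Dual.inD A (A ⧸ m)) ⟶
      ((extScD A Am).obj Y)⟦i⟧) := by
    haveI : Subsingleton (Am ⊗[A] (Dual.inD A (A ⧸ m) ⟶ Y⟦i⟧)) := inferInstance
    exact (Equiv.ofBijective _ hb).symm.subsingleton
  let lin : (Am ⊗[A] (A ⧸ m)) ≃ₗ[Am] ResidueField Am :=
    (Algebra.TensorProduct.quotIdealMapEquivTensorQuot Am m).toLinearEquiv.symm ≪≫ₗ
      Submodule.quotEquivOfEq _ _ (Localization.AtPrime.map_eq_maximalIdeal)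
  let e' : (extScD A Am).obj (Dual.inD A (A ⧸ m)) ≅ Dual.inD Am (ResidueField Am) :=
    extScD_inD (A ⧸ m) ≪≫ inDMapIso lin.toModuleIso
  exact (Iso.homCongr e' ((shiftFunctor _ i).mapIso eZ.symm)).symm.subsingleton

end Groth.Agent.Lib.Helper14.DualShriekNorm
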