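
import Groth.Agent.Lib.Helper14.LocTensor
universe u
namespace Groth.Agent.Lib.Helper14.FibDepth
open TensorProduct IsLocalRing Groth.Agent.Lib.Helper14.LocTensor
set_option linter.style.haveILetI false

variable {A B : Type u} [CommRing A] [CommRing B] [IsNoetherianRing A] [IsNoetherianRing B]
  [Algebra A B]
  (F : Type u) [AddCommGroup F] [Module B F] [Module A F] [IsScalarTower A B F] [Module.Finite B F]

attribute [local instance low] Localization.AtPrime.algebraOfLiesOver modLoc

omit [IsNoetherianRing A] [IsNoetherianRing B] in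
theorem ideal_eq (Q : Ideal B) [Q.IsPrime] :
    haveI : Q.LiesOver (Q.comap (algebraMap A B)) := ⟨rfl⟩
    (maximalIdeal (Localization.AtPrime (Q.comap (algebraMap A B)))).map
      (algebraMap (Localization.AtPrime (Q.comap (algebraMap A B))) (Localization.AtPrime Q)) =
    (Q.comap (algebraMap A B)).map (algebraMap A (Localization.AtPrime Q)) := by
  haveI : Q.LiesOver (Q.comap (algebraMap A B)) := ⟨rfl⟩
  rw [← IsLocalization.AtPrime.map_eq_maximalIdeal (Q.comap (algebraMap A B))
    (Localization.AtPrime (Q.comap (algebraMap A B))), Ideal.map_map,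
    ← IsScalarTower.algebraMap_eq]

omit [IsNoetherianRing A] [IsNoetherianRing B] in
theorem fibIdeal_le (Q : Ideal B) [Q.IsPrime] :
    (Q.comap (algebraMap A B)).map (algebraMap A (Localization.AtPrime Q)) ≤
      maximalIdeal (Localization.AtPrime Q) := by
  haveI : Q.LiesOver (Q.comap (algebraMap A B)) := ⟨rfl⟩
  rw [← ideal_eq (A := A) Q]
  haveI := isLocalHom_loc (Q.comap (algebraMap A B)) Q
  rw [Ideal.map_le_iff_le_comap]
  intro x hx
  exact map_nonunit (algebraMap (Localization.AtPrime (Q.comap (algebraMap A B)))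
    (Localization.AtPrime Q)) x hx

omit [IsNoetherianRing A] [IsNoetherianRing B] in
theorem nontrivial_fibLocRing (Q : Ideal B) [Q.IsPrime] : Nontrivial (EGA4.FibLocRing A B Q) := by
  rw [Ideal.Quotient.nontrivial_iff]
  intro h
  have hIle := fibIdeal_le (A := A) Q
  rw [h] at hIle
  exact (maximalIdeal.isMaximal _).ne_top (top_le_iff.1 hIle)

omit [IsNoetherianRing A] [IsNoetherianRing B] in
theorem map_eq_maximalIdeal (Q : Ideal B) [Q.IsPrime] :
    haveI := nontrivial_fibLocRing (A := A) Q
    Q.map (algebraMap B (EGA4.FibLocRing A B Q)) = maximalIdeal (EGA4.FibLocRing A B Q) := by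
  haveI := nontrivial_fibLocRing (A := A) Q
  rw [IsScalarTower.algebraMap_eq B (Localization.AtPrime Q) (EGA4.FibLocRing A B Q),
    ← Ideal.map_map, IsLocalization.AtPrime.map_eq_maximalIdeal Q (Localization.AtPrime Q)]
  have hsurj : Function.Surjective (algebraMap (Localization.AtPrime Q) (EGA4.FibLocRing A B Q)) :=
    Ideal.Quotient.mk_surjective
  exact ((IsLocalRing.local_hom_TFAE (algebraMap (Localization.AtPrime Q)
    (EGA4.FibLocRing A B Q))).out 0 4 |>.1 (hsurj.isLocalHom _)) |> fun h => by
      apply le_antisymm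
      · rw [Ideal.map_le_iff_le_comap]; exact h.ge
      · intro x hx
        obtain ⟨y, rfl⟩ := hsurj x
        exact Ideal.mem_map_of_mem _ (h.le hx)


/-- depth of the prelude fibre module over the prelude fibre local ring, in terms of `FibM`. -/
theorem depth_fibM_eq (Q : Ideal B) [Q.IsPrime] :
    haveI : Q.LiesOver (Q.comap (algebraMap A B)) := ⟨rfl⟩
    LocCoh.depth (Localization.AtPrime Q) (FibM F (Q.comap (algebraMap A B)) Q) =
      LocCoh.idealDepth (Q.map (algebraMap B (EGA4.FibLocRing A B Q)))
        (EGA4.FibLocMod A B Q F) := by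
  haveI : Q.LiesOver (Q.comap (algebraMap A B)) := ⟨rfl⟩
  haveI := nontrivial_fibLocRing (A := A) Q
  have hI := ideal_eq (A := A) Q
  let e : FibM F (Q.comap (algebraMap A B)) Q ≃ₗ[Localization.AtPrime Q] EGA4.FibLocMod A B Q F :=
    Submodule.quotEquivOfEq _ _ (by rw [hI])
  have hsurj : Function.Surjective (algebraMap (Localization.AtPrime Q) (EGA4.FibLocRing A B Q)) :=
    Ideal.Quotient.mk_surjective
  haveI : IsLocalHom (algebraMap (Localization.AtPrime Q) (EGA4.FibLocRing A B Q)) :=
    hsurj.isLocalHom _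
  have h2 := Groth.Agent.Lib.Helper29.DepthFinite.depth_eq_of_isLocalHom (Localization.AtPrime Q)
    (EGA4.FibLocRing A B Q) (EGA4.FibLocMod A B Q F)
  rw [Groth.Agent.Lib.Helper29.CMLib.depth_congr e, h2, map_eq_maximalIdeal (A := A) Q]
  rfl

/-- **Depth of a flat module at a prime**: `depth F_Q = depth A_P + depth (fibre)`. -/
theorem depth_loc_eq [Module.Flat A F] (Q : Ideal B) [Q.IsPrime] :
    LocCoh.depth (Localization.AtPrime Q) (LocalizedModule Q.primeCompl F) =
      LocCoh.depth (Localization.AtPrime (Q.comap (algebraMap A B)))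
          (Localization.AtPrime (Q.comap (algebraMap A B))) +
        LocCoh.idealDepth (Q.map (algebraMap B (EGA4.FibLocRing A B Q)))
          (EGA4.FibLocMod A B Q F) := by
  haveI : Q.LiesOver (Q.comap (algebraMap A B)) := ⟨rfl⟩
  haveI := flat_loc F (Q.comap (algebraMap A B)) Q
  haveI := isLocalHom_loc (Q.comap (algebraMap A B)) Q
  have h1 := Groth.Agent.Lib.Helper29.FlatLocal.depth_tensor
    (Localization.AtPrime (Q.comap (algebraMap A B))) (Localization.AtPrime Q)
    (Localization.AtPrime (Q.comap (algebraMap A B))) (LocalizedModule Q.primeCompl F)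
  rw [Groth.Agent.Lib.Helper29.CMLib.depth_congr
    (AlgebraTensorModule.rid (Localization.AtPrime (Q.comap (algebraMap A B)))
      (Localization.AtPrime Q) (LocalizedModule Q.primeCompl F)), depth_fibM_eq F Q] at h1
  exact h1

end Groth.Agent.Lib.Helper14.FibDepth
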