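
import Groth.Agent.Lib.Helper14.FibDepth
import Groth.Agent.Lib.Helper29.CMRing
universe u
namespace Groth.Agent.Lib.Helper14.FibDepthRing
open TensorProduct IsLocalRing Groth.Agent.Lib.Helper14.LocTensor Groth.Agent.Lib.Helper14.FibDepth
set_option linter.style.haveILetI false

variable {A B : Type u} [CommRing A] [CommRing B] [IsNoetherianRing A] [IsNoetherianRing B]
  [Algebra A B]

attribute [local instance low] Localization.AtPrime.algebraOfLiesOver modLoc

/-- **Depth of a flat algebra at a prime**: `depth B_Q = depth A_P + depth (B_Q/PB_Q)`. -/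
theorem depth_loc_ring_eq [Module.Flat A B] (Q : Ideal B) [Q.IsPrime] :
    LocCoh.depth (Localization.AtPrime Q) (Localization.AtPrime Q) =
      LocCoh.depth (Localization.AtPrime (Q.comap (algebraMap A B)))
          (Localization.AtPrime (Q.comap (algebraMap A B))) +
        LocCoh.idealDepth (Q.map (algebraMap B (EGA4.FibLocRing A B Q)))
          (EGA4.FibLocRing A B Q) := by
  haveI : Q.LiesOver (Q.comap (algebraMap A B)) := ⟨rfl⟩
  haveI : Module.Flat (Localization.AtPrime (Q.comap (algebraMap A B))) (Localization.AtPrime Q) :=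
    inferInstance
  haveI := isLocalHom_loc (Q.comap (algebraMap A B)) Q
  haveI := nontrivial_fibLocRing (A := A) Q
  have h1 := Groth.Agent.Lib.Helper29.FlatLocal.depth_tensor
    (Localization.AtPrime (Q.comap (algebraMap A B))) (Localization.AtPrime Q)
    (Localization.AtPrime (Q.comap (algebraMap A B))) (Localization.AtPrime Q)
  rw [Groth.Agent.Lib.Helper29.CMLib.depth_congr
    (AlgebraTensorModule.rid (Localization.AtPrime (Q.comap (algebraMap A B)))
      (Localization.AtPrime Q) (Localization.AtPrime Q))] at h1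
  rw [h1]
  congr 1
  have hI := ideal_eq (A := A) Q
  let e : (Localization.AtPrime Q ⧸
      ((maximalIdeal (Localization.AtPrime (Q.comap (algebraMap A B)))).map
        (algebraMap (Localization.AtPrime (Q.comap (algebraMap A B))) (Localization.AtPrime Q)) •
        (⊤ : Submodule (Localization.AtPrime Q) (Localization.AtPrime Q))))
      ≃ₗ[Localization.AtPrime Q] EGA4.FibLocRing A B Q :=
    Submodule.quotEquivOfEq _ _ (by rw [hI, smul_eq_mul, Ideal.mul_top])
  have hsurj : Function.Surjective (algebraMap (Localization.AtPrime Q) (EGA4.FibLocRing A B Q)) :=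
    Ideal.Quotient.mk_surjective
  haveI : IsLocalHom (algebraMap (Localization.AtPrime Q) (EGA4.FibLocRing A B Q)) :=
    hsurj.isLocalHom _
  have h2 := Groth.Agent.Lib.Helper29.DepthFinite.depth_eq_of_isLocalHom (Localization.AtPrime Q)
    (EGA4.FibLocRing A B Q) (EGA4.FibLocRing A B Q)
  rw [Groth.Agent.Lib.Helper29.CMLib.depth_congr e, h2, map_eq_maximalIdeal (A := A) Q]
  rfl

/-- fibrewise depth bound of the fibre local rings gives `depth_J B`. -/
theorem le_idealDepth_ring_of_fib [Module.Flat A B] (J : Ideal B) (n : ℕ∞)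
    (h : ∀ q : PrimeSpectrum B, J ≤ q.asIdeal →
      n ≤ LocCoh.idealDepth (q.asIdeal.map (algebraMap B (EGA4.FibLocRing A B q.asIdeal)))
        (EGA4.FibLocRing A B q.asIdeal)) :
    n ≤ LocCoh.idealDepth J B := by
  rw [Groth.Agent.Lib.Helper29.CMRing.idealDepth_eq_iInf_depth_localization]
  refine le_iInf₂ fun q hq => ?_
  rw [Groth.Agent.Lib.Helper49.Serre.depth_localizedModule_self, depth_loc_ring_eq (A := A) q.asIdeal]
  exact (h q hq).trans le_add_self

end Groth.Agent.Lib.Helper14.FibDepthRing
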