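
import Groth.Agent.Lib.Helper14.FibDepthRing
universe u
namespace Groth.Agent.Lib.Helper14.FibBC
open TensorProduct IsLocalRing Groth.Agent.Lib.Helper14.FibDepth
set_option linter.style.haveILetI false
set_option linter.unusedSectionVars false

section Setup
variable {A B A' B' : Type u} [CommRing A] [CommRing B] [CommRing A'] [CommRing B']
  [Algebra A B] [Algebra A A'] [Algebra B B'] [Algebra A' B'] [Algebra A B']
  [IsScalarTower A B B'] [IsScalarTower A A' B']
  (q' : Ideal B') [q'.IsPrime]

/-- the prime of `B` below `q'`. -/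
abbrev qB : Ideal B := q'.comap (algebraMap B B')
/-- the prime of `A'` below `q'`. -/
abbrev pA' : Ideal A' := q'.comap (algebraMap A' B')

variable (A B A') in
theorem comap_comap_eq :
    (qB (B := B) q').comap (algebraMap A B) = (pA' (A' := A') q').comap (algebraMap A A') := by
  rw [qB, pA', Ideal.comap_comap, Ideal.comap_comap, ← IsScalarTower.algebraMap_eq,
    ← IsScalarTower.algebraMap_eq]

variable (A B A') in
theorem localRingHom_algebraMap (a : A) :
    Localization.localRingHom (qB (B := B) q') q' (algebraMap B B') rfl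
        (algebraMap A (Localization.AtPrime (qB (B := B) q')) a) =
        algebraMap A' (Localization.AtPrime q') (algebraMap A A' a) := by
  rw [IsScalarTower.algebraMap_apply A B (Localization.AtPrime (qB (B := B) q')),
    Localization.localRingHom_to_map, ← IsScalarTower.algebraMap_apply A B B',
    IsScalarTower.algebraMap_apply A A' B',
    ← IsScalarTower.algebraMap_apply A' B' (Localization.AtPrime q')]

variable (A B A') in
/-- the canonical map between fibre local rings. -/
noncomputable def fibMap : EGA4.FibLocRing A B (qB (B := B) q') →+* EGA4.FibLocRing A' B' q' :=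
  Ideal.quotientMap _ (Localization.localRingHom (qB (B := B) q') q' (algebraMap B B') rfl) (by
    rw [Ideal.map_le_iff_le_comap]
    intro a ha
    rw [Ideal.mem_comap, Ideal.mem_comap, localRingHom_algebraMap A B A' q' a]
    apply Ideal.mem_map_of_mem
    have := comap_comap_eq A B A' q'
    have ha' : a ∈ (pA' (A' := A') q').comap (algebraMap A A') := by rw [← this]; exact ha
    exact ha')

variable (A B A') in
theorem fibMap_mk (x : Localization.AtPrime (qB (B := B) q')) :
    fibMap A B A' q' (Ideal.Quotient.mk _ x) =
      Ideal.Quotient.mk _ (Localization.localRingHom (qB (B := B) q') q' (algebraMap B B') rfl x) :=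
  rfl

instance towerLoc : IsScalarTower A A' (Localization.AtPrime q') :=
  IsScalarTower.of_algebraMap_eq (fun a => by
    rw [IsScalarTower.algebraMap_apply A B' (Localization.AtPrime q'),
      IsScalarTower.algebraMap_apply A A' B',
      ← IsScalarTower.algebraMap_apply A' B' (Localization.AtPrime q')])

example : IsScalarTower A A' (EGA4.FibLocRing A' B' q') := inferInstance
example : IsScalarTower A B' (EGA4.FibLocRing A' B' q') := inferInstance
example : IsScalarTower A B (EGA4.FibLocRing A B (qB (B := B) q')) := inferInstance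
example : IsScalarTower A A' (A' ⧸ pA' (A' := A') q') := inferInstance

variable (A B A') in
/-- `fibMap` as an `A`-algebra map. -/
noncomputable def fibMapA : EGA4.FibLocRing A B (qB (B := B) q') →ₐ[A] EGA4.FibLocRing A' B' q' :=
  { fibMap A B A' q' with
    commutes' := fun a => by
      change fibMap A B A' q' (Ideal.Quotient.mk _ (algebraMap A _ a)) = _
      rw [fibMap_mk, localRingHom_algebraMap A B A' q' a,
        IsScalarTower.algebraMap_apply A A' (EGA4.FibLocRing A' B' q')]
      rfl }

variable (A) in
/-- `A'/p' → R0'`. -/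
noncomputable def sigA : (A' ⧸ pA' (A' := A') q') →ₐ[A] EGA4.FibLocRing A' B' q' :=
  Ideal.Quotient.liftₐ (pA' (A' := A') q') (IsScalarTower.toAlgHom A A' (EGA4.FibLocRing A' B' q'))
    (fun a' ha' => by
      change algebraMap A' (EGA4.FibLocRing A' B' q') a' = 0
      rw [IsScalarTower.algebraMap_apply A' (Localization.AtPrime q') (EGA4.FibLocRing A' B' q')]
      exact Ideal.Quotient.eq_zero_iff_mem.2 (Ideal.mem_map_of_mem _ ha'))

variable (A) in
theorem sigA_mk (a' : A') : sigA A q' (Ideal.Quotient.mk _ a') =
    algebraMap A' (EGA4.FibLocRing A' B' q') a' := rfl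


section Pushout
variable [Algebra.IsPushout A B A' B']

variable (A B A') in
/-- the intermediate ring `T = R0 ⊗_A (A'/p')`. -/
def TT : Type u := EGA4.FibLocRing A B (qB (B := B) q') ⊗[A] (A' ⧸ pA' (A' := A') q')

noncomputable instance : CommRing (TT A B A' q') :=
  inferInstanceAs (CommRing (EGA4.FibLocRing A B (qB (B := B) q') ⊗[A] (A' ⧸ pA' (A' := A') q')))
noncomputable instance : Algebra A (TT A B A' q') :=
  inferInstanceAs (Algebra A (EGA4.FibLocRing A B (qB (B := B) q') ⊗[A] (A' ⧸ pA' (A' := A') q')))

variable (A B A') in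
/-- left inclusion. -/
noncomputable def inclL : EGA4.FibLocRing A B (qB (B := B) q') →ₐ[A] TT A B A' q' :=
  Algebra.TensorProduct.includeLeft (R := A) (S := A)
    (A := EGA4.FibLocRing A B (qB (B := B) q')) (B := A' ⧸ pA' (A' := A') q')

variable (A B A') in
/-- right inclusion. -/
noncomputable def inclR : (A' ⧸ pA' (A' := A') q') →ₐ[A] TT A B A' q' :=
  Algebra.TensorProduct.includeRight (R := A)
    (A := EGA4.FibLocRing A B (qB (B := B) q')) (B := A' ⧸ pA' (A' := A') q')

variable (A B A') in
theorem TT_induction {P : TT A B A' q' → Prop} (h0 : P 0) (hadd : ∀ x y, P x → P y → P (x + y))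
    (hmul : ∀ r v, P (inclL A B A' q' r * inclR A B A' q' v)) : ∀ t, P t := by
  intro t
  refine TensorProduct.induction_on t h0 (fun r v => ?_) hadd
  have := hmul r v
  have h1 : inclL A B A' q' r * inclR A B A' q' v = (r ⊗ₜ[A] v : EGA4.FibLocRing A B (qB (B := B) q') ⊗[A] (A' ⧸ pA' (A' := A') q')) := by
    change (r ⊗ₜ[A] (1 : A' ⧸ pA' (A' := A') q')) * ((1 : EGA4.FibLocRing A B (qB (B := B) q')) ⊗ₜ[A] v) = _
    rw [Algebra.TensorProduct.tmul_mul_tmul, mul_one, one_mul]
  rw [h1] at this
  exact this

variable (A B A') in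
/-- `ψ : T → R0'`. -/
noncomputable def psi : TT A B A' q' →ₐ[A] EGA4.FibLocRing A' B' q' :=
  Algebra.TensorProduct.lift (fibMapA A B A' q') (sigA A q') (fun _ _ => Commute.all _ _)

variable (A B A') in
theorem psi_inclL (r : EGA4.FibLocRing A B (qB (B := B) q')) :
    psi A B A' q' (inclL A B A' q' r) = fibMap A B A' q' r := by
  change Algebra.TensorProduct.lift (fibMapA A B A' q') (sigA A q') (fun _ _ => Commute.all _ _)
    (r ⊗ₜ[A] (1 : A' ⧸ pA' (A' := A') q')) = _
  rw [Algebra.TensorProduct.lift_tmul, map_one, mul_one]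
  rfl

variable (A B A') in
theorem psi_inclR (v : A' ⧸ pA' (A' := A') q') :
    psi A B A' q' (inclR A B A' q' v) = sigA A q' v := by
  change Algebra.TensorProduct.lift (fibMapA A B A' q') (sigA A q') (fun _ _ => Commute.all _ _)
    ((1 : EGA4.FibLocRing A B (qB (B := B) q')) ⊗ₜ[A] v) = _
  rw [Algebra.TensorProduct.lift_tmul, map_one, one_mul]

variable (A B A') in
/-- `θ : B' → T`. -/
noncomputable def theta : B' →ₐ[A] TT A B A' q' :=
  Algebra.pushoutDesc B'
    ((inclL A B A' q').comp (IsScalarTower.toAlgHom A B (EGA4.FibLocRing A B (qB (B := B) q'))))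
    ((inclR A B A' q').comp (IsScalarTower.toAlgHom A A' (A' ⧸ pA' (A' := A') q')))
    (fun _ _ => mul_comm _ _)

variable (A B A') in
theorem theta_left (b : B) : theta A B A' q' (algebraMap B B' b) =
    inclL A B A' q' (algebraMap B (EGA4.FibLocRing A B (qB (B := B) q')) b) := by
  unfold theta
  rw [Algebra.pushoutDesc_left]
  rfl

variable (A B A') in
theorem theta_right (a' : A') : theta A B A' q' (algebraMap A' B' a') =
    inclR A B A' q' (Ideal.Quotient.mk (pA' (A' := A') q') a') := by
  unfold theta
  rw [Algebra.pushoutDesc_right]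
  rfl

variable (A B A') in
theorem psi_theta (b' : B') : psi A B A' q' (theta A B A' q' b') =
    algebraMap B' (EGA4.FibLocRing A' B' q') b' := by
  have h : (psi A B A' q').comp (theta A B A' q') =
      IsScalarTower.toAlgHom A B' (EGA4.FibLocRing A' B' q') := by
    apply Algebra.IsPushout.algHom_ext (R := A) (S := B) (R' := A') (S' := B')
    · ext a'
      simp only [AlgHom.coe_comp, Function.comp_apply, IsScalarTower.coe_toAlgHom']
      rw [theta_right, psi_inclR, sigA_mk,
        ← IsScalarTower.algebraMap_apply A' B' (EGA4.FibLocRing A' B' q')]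
    · ext b
      simp only [AlgHom.coe_comp, Function.comp_apply, IsScalarTower.coe_toAlgHom']
      rw [theta_left, psi_inclL]
      change fibMap A B A' q' (Ideal.Quotient.mk _ (algebraMap B _ b)) = _
      rw [fibMap_mk, Localization.localRingHom_to_map,
        IsScalarTower.algebraMap_apply B' (Localization.AtPrime q') (EGA4.FibLocRing A' B' q')]
      rfl
  exact AlgHom.congr_fun h b'

variable [IsNoetherianRing A'] [IsNoetherianRing B']

instance nontrivR0' : Nontrivial (EGA4.FibLocRing A' B' q') := nontrivial_fibLocRing (A := A') q'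

instance localR0' : IsLocalRing (EGA4.FibLocRing A' B' q') :=
  IsLocalRing.of_surjective' (Ideal.Quotient.mk _) Ideal.Quotient.mk_surjective

variable (A B A') in
/-- the prime of `T` below the maximal ideal of `R0'`. -/
noncomputable abbrev qT : Ideal (TT A B A' q') :=
  (maximalIdeal (EGA4.FibLocRing A' B' q')).comap (psi A B A' q').toRingHom

variable (A B A') in
theorem theta_notMem (s : B') (hs : s ∈ q'.primeCompl) : theta A B A' q' s ∈ (qT A B A' q').primeCompl := by
  change theta A B A' q' s ∉ qT A B A' q'
  rw [Ideal.mem_comap]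
  change ¬ psi A B A' q' (theta A B A' q' s) ∈ maximalIdeal _
  rw [psi_theta, IsLocalRing.mem_maximalIdeal, mem_nonunits_iff, not_not,
    IsScalarTower.algebraMap_apply B' (Localization.AtPrime q') (EGA4.FibLocRing A' B' q')]
  exact (IsLocalization.map_units (Localization.AtPrime q') (⟨s, hs⟩ : q'.primeCompl)).map _

variable (A B A') in
/-- `B' → T_{q''}`. -/
noncomputable def lam1 : B' →+* Localization.AtPrime (qT A B A' q') :=
  (algebraMap (TT A B A' q') (Localization.AtPrime (qT A B A' q'))).comp (theta A B A' q').toRingHom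

variable (A B A') in
theorem lam1_isUnit (y : q'.primeCompl) : IsUnit (lam1 A B A' q' y) :=
  IsLocalization.map_units (Localization.AtPrime (qT A B A' q'))
    (⟨theta A B A' q' y.1, theta_notMem A B A' q' y.1 y.2⟩ : (qT A B A' q').primeCompl)

variable (A B A') in
/-- `B'_{q'} → T_{q''}`. -/
noncomputable def lam2 : Localization.AtPrime q' →+* Localization.AtPrime (qT A B A' q') :=
  IsLocalization.lift (M := q'.primeCompl) (g := lam1 A B A' q') (lam1_isUnit A B A' q')

variable (A B A') in
theorem lam2_algebraMap (b' : B') : lam2 A B A' q' (algebraMap B' _ b') =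
    algebraMap _ _ (theta A B A' q' b') := by
  unfold lam2
  rw [IsLocalization.lift_eq]
  rfl

variable (A B A') in
/-- `R0' → T_{q''}`. -/
noncomputable def lam : EGA4.FibLocRing A' B' q' →+* Localization.AtPrime (qT A B A' q') :=
  Ideal.Quotient.lift _ (lam2 A B A' q') (by
    intro x hx
    have hle : (pA' (A' := A') q').map (algebraMap A' (Localization.AtPrime q')) ≤
        RingHom.ker (lam2 A B A' q') := by
      rw [Ideal.map_le_iff_le_comap]
      intro a' ha'
      rw [Ideal.mem_comap, RingHom.mem_ker,
        IsScalarTower.algebraMap_apply A' B' (Localization.AtPrime q'), lam2_algebraMap,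
        theta_right, Ideal.Quotient.eq_zero_iff_mem.2 ha', map_zero, map_zero]
    exact hle hx)

variable (A B A') in
theorem lam_mk (x : Localization.AtPrime q') :
    lam A B A' q' (Ideal.Quotient.mk _ x) = lam2 A B A' q' x := rfl

variable (A B A') in
theorem lam_psi (t : TT A B A' q') : lam A B A' q' (psi A B A' q' t) =
    algebraMap _ (Localization.AtPrime (qT A B A' q')) t := by
  have hleft : ∀ r : EGA4.FibLocRing A B (qB (B := B) q'),
      lam A B A' q' (fibMap A B A' q' r) =
        algebraMap _ (Localization.AtPrime (qT A B A' q')) (inclL A B A' q' r) := by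
    have h : (lam A B A' q').comp (fibMap A B A' q') =
        (algebraMap (TT A B A' q') (Localization.AtPrime (qT A B A' q'))).comp
          (inclL A B A' q').toRingHom := by
      apply Ideal.Quotient.ringHom_ext
      apply IsLocalization.ringHom_ext (qB (B := B) q').primeCompl
      ext b
      simp only [RingHom.coe_comp, Function.comp_apply]
      rw [fibMap_mk, Localization.localRingHom_to_map, lam_mk, lam2_algebraMap, theta_left]
      rfl
    intro r
    exact RingHom.congr_fun h r
  have hright : ∀ v : A' ⧸ pA' (A' := A') q',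
      lam A B A' q' (sigA A q' v) =
        algebraMap _ (Localization.AtPrime (qT A B A' q')) (inclR A B A' q' v) := by
    intro v
    obtain ⟨a', rfl⟩ := Ideal.Quotient.mk_surjective v
    rw [sigA_mk, IsScalarTower.algebraMap_apply A' (Localization.AtPrime q') (EGA4.FibLocRing A' B' q'),
      IsScalarTower.algebraMap_apply A' B' (Localization.AtPrime q')]
    change lam A B A' q' (Ideal.Quotient.mk _ _) = _
    rw [lam_mk, lam2_algebraMap, theta_right]
  refine TT_induction A B A' q' (P := fun t => lam A B A' q' (psi A B A' q' t) =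
    algebraMap _ (Localization.AtPrime (qT A B A' q')) t) (by simp)
    (fun x y hx hy => by rw [map_add, map_add, hx, hy, map_add]) (fun r v => ?_) t
  rw [map_mul, map_mul, map_mul, psi_inclL, psi_inclR, hleft, hright]


variable (A B A') in
/-- `R0'` as a `T`-algebra. -/
noncomputable abbrev algTR0' : Algebra (TT A B A' q') (EGA4.FibLocRing A' B' q') :=
  (psi A B A' q').toRingHom.toAlgebra

variable (A B A') in
theorem isLocalization_R0' :
    letI := algTR0' A B A' q'
    IsLocalization.AtPrime (EGA4.FibLocRing A' B' q') (qT A B A' q') := by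
  letI := algTR0' A B A' q'
  have halg : ∀ t : TT A B A' q', algebraMap (TT A B A' q') (EGA4.FibLocRing A' B' q') t =
      psi A B A' q' t := fun _ => rfl
  refine (isLocalization_iff _ _).2 ⟨?_, ?_, ?_⟩
  · intro y
    have hy : (y : TT A B A' q') ∉ qT A B A' q' := y.2
    rw [Ideal.mem_comap] at hy
    rw [halg]
    by_contra hcon
    exact hy ((IsLocalRing.mem_maximalIdeal _).2 hcon)
  · intro z
    obtain ⟨x, rfl⟩ := Ideal.Quotient.mk_surjective z
    obtain ⟨⟨b', s⟩, hbs⟩ := IsLocalization.surj q'.primeCompl x
    refine ⟨⟨theta A B A' q' b', ⟨theta A B A' q' s.1, theta_notMem A B A' q' s.1 s.2⟩⟩, ?_⟩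
    simp only
    rw [halg, halg, psi_theta, psi_theta,
      IsScalarTower.algebraMap_apply B' (Localization.AtPrime q') (EGA4.FibLocRing A' B' q'),
      IsScalarTower.algebraMap_apply B' (Localization.AtPrime q') (EGA4.FibLocRing A' B' q'), ← hbs,
      map_mul]
    rfl
  · intro x y hxy
    rw [halg, halg] at hxy
    have h2 : algebraMap _ (Localization.AtPrime (qT A B A' q')) x =
        algebraMap _ (Localization.AtPrime (qT A B A' q')) y := by
      rw [← lam_psi, ← lam_psi, hxy]
    exact IsLocalization.exists_of_eq (M := (qT A B A' q').primeCompl) h2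


end Pushout

section Kappa
variable {A B : Type u} [CommRing A] [CommRing B] [Algebra A B] (q : Ideal B) [q.IsPrime]

variable (A) in
/-- `κ(p) → B_q/pB_q`. -/
noncomputable def kappaMap :
    (q.comap (algebraMap A B)).ResidueField →+* EGA4.FibLocRing A B q :=
  Ideal.Quotient.lift _ ((Ideal.Quotient.mk _).comp
    (Localization.localRingHom (q.comap (algebraMap A B)) q (algebraMap A B) rfl)) (by
    intro x hx
    rw [← Localization.AtPrime.map_eq_maximalIdeal] at hx
    have h1 := Ideal.mem_map_of_mem
      (Localization.localRingHom (q.comap (algebraMap A B)) q (algebraMap A B) rfl) hx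
    rw [Ideal.map_map] at h1
    have h2 : (Localization.localRingHom (q.comap (algebraMap A B)) q (algebraMap A B) rfl).comp
        (algebraMap A (Localization.AtPrime (q.comap (algebraMap A B)))) =
        algebraMap A (Localization.AtPrime q) := by
      ext a
      rw [RingHom.comp_apply, Localization.localRingHom_to_map,
        ← IsScalarTower.algebraMap_apply A B (Localization.AtPrime q)]
    rw [h2] at h1
    rw [RingHom.comp_apply]
    exact Ideal.Quotient.eq_zero_iff_mem.2 h1)

variable (A) in
theorem kappaMap_algebraMap (a : A) :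
    kappaMap A q (algebraMap A _ a) = algebraMap A (EGA4.FibLocRing A B q) a := by
  rw [IsScalarTower.algebraMap_apply A (Localization.AtPrime (q.comap (algebraMap A B)))
    (q.comap (algebraMap A B)).ResidueField]
  change Ideal.Quotient.mk _ (Localization.localRingHom (q.comap (algebraMap A B)) q
    (algebraMap A B) rfl (algebraMap A _ a)) = _
  rw [Localization.localRingHom_to_map, ← IsScalarTower.algebraMap_apply A B (Localization.AtPrime q)]
  rfl

variable (A) in
/-- `R0 ⊗_A V` is flat over `R0` for every `A`-module `V`. -/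
theorem flat_fibLocRing_tensor (V : Type u) [AddCommGroup V] [Module A V] :
    Module.Flat (EGA4.FibLocRing A B q) (EGA4.FibLocRing A B q ⊗[A] V) := by
  letI : Algebra (q.comap (algebraMap A B)).ResidueField (EGA4.FibLocRing A B q) :=
    (kappaMap A q).toAlgebra
  haveI : IsScalarTower A (q.comap (algebraMap A B)).ResidueField (EGA4.FibLocRing A B q) :=
    IsScalarTower.of_algebraMap_eq (fun a => (kappaMap_algebraMap A q a).symm)
  exact Module.Flat.of_linearEquiv
    (AlgebraTensorModule.cancelBaseChange A (q.comap (algebraMap A B)).ResidueField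
      (EGA4.FibLocRing A B q) (EGA4.FibLocRing A B q) V).symm

end Kappa

section Pushout2
variable [Algebra.IsPushout A B A' B'] [IsNoetherianRing A'] [IsNoetherianRing B']

noncomputable instance algR0T : Algebra (EGA4.FibLocRing A B (qB (B := B) q')) (TT A B A' q') :=
  inferInstanceAs (Algebra (EGA4.FibLocRing A B (qB (B := B) q'))
    (EGA4.FibLocRing A B (qB (B := B) q') ⊗[A] (A' ⧸ pA' (A' := A') q')))

instance flat_TT : Module.Flat (EGA4.FibLocRing A B (qB (B := B) q')) (TT A B A' q') :=
  flat_fibLocRing_tensor A (qB (B := B) q') (A' ⧸ pA' (A' := A') q')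

variable (A B A') in
theorem algebraMap_R0T (r : EGA4.FibLocRing A B (qB (B := B) q')) :
    algebraMap _ (TT A B A' q') r = inclL A B A' q' r := rfl

variable (A B A') in
/-- **The fibre local ring of the base change is flat over the fibre local ring.** -/
theorem flat_fibMap :
    letI := (fibMap A B A' q').toAlgebra
    Module.Flat (EGA4.FibLocRing A B (qB (B := B) q')) (EGA4.FibLocRing A' B' q') := by
  letI := (fibMap A B A' q').toAlgebra
  letI := algTR0' A B A' q'
  haveI := isLocalization_R0' A B A' q'
  haveI : IsScalarTower (EGA4.FibLocRing A B (qB (B := B) q')) (TT A B A' q')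
      (EGA4.FibLocRing A' B' q') :=
    IsScalarTower.of_algebraMap_eq (fun r => by
      change fibMap A B A' q' r = psi A B A' q' (algebraMap _ (TT A B A' q') r)
      rw [algebraMap_R0T, psi_inclL])
  haveI : Module.Flat (TT A B A' q') (EGA4.FibLocRing A' B' q') :=
    IsLocalization.flat _ (qT A B A' q').primeCompl
  exact Module.Flat.trans _ (TT A B A' q') _


variable (A B A') in
theorem isLocalHom_fibMap : IsLocalHom (fibMap A B A' q') := by
  constructor
  intro x hx
  obtain ⟨y, rfl⟩ := Ideal.Quotient.mk_surjective x
  rw [fibMap_mk] at hx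
  have hsurj : Function.Surjective (Ideal.Quotient.mk
      ((pA' (A' := A') q').map (algebraMap A' (Localization.AtPrime q')))) :=
    Ideal.Quotient.mk_surjective
  haveI := hsurj.isLocalHom
  have h1 := isUnit_of_map_unit (Ideal.Quotient.mk
      ((pA' (A' := A') q').map (algebraMap A' (Localization.AtPrime q')))) _ hx
  haveI := Localization.isLocalHom_localRingHom (qB (B := B) q') q' (algebraMap B B') rfl
  have h2 := isUnit_of_map_unit _ _ h1
  exact h2.map _

variable [IsNoetherianRing A] [IsNoetherianRing B]

variable (A B A') in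
/-- the depth of the fibre local ring can only go up under base change. -/
theorem depth_fibLocRing_le :
    LocCoh.idealDepth ((qB (B := B) q').map (algebraMap B (EGA4.FibLocRing A B (qB (B := B) q'))))
        (EGA4.FibLocRing A B (qB (B := B) q')) ≤
      LocCoh.idealDepth (q'.map (algebraMap B' (EGA4.FibLocRing A' B' q')))
        (EGA4.FibLocRing A' B' q') := by
  letI := (fibMap A B A' q').toAlgebra
  haveI : IsLocalHom (algebraMap (EGA4.FibLocRing A B (qB (B := B) q')) (EGA4.FibLocRing A' B' q')) :=
    isLocalHom_fibMap A B A' q'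
  haveI := flat_fibMap A B A' q'
  haveI := nontrivial_fibLocRing (A := A) (qB (B := B) q')
  rw [map_eq_maximalIdeal (A := A) (qB (B := B) q'), map_eq_maximalIdeal (A := A') q']
  have h1 := Groth.Agent.Lib.Helper29.FlatLocal.depth_tensor
    (EGA4.FibLocRing A B (qB (B := B) q')) (EGA4.FibLocRing A' B' q')
    (EGA4.FibLocRing A B (qB (B := B) q')) (EGA4.FibLocRing A' B' q')
  rw [Groth.Agent.Lib.Helper29.CMLib.depth_congr
    (AlgebraTensorModule.rid (EGA4.FibLocRing A B (qB (B := B) q')) (EGA4.FibLocRing A' B' q')
      (EGA4.FibLocRing A' B' q'))] at h1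
  change LocCoh.depth _ _ ≤ LocCoh.depth _ _
  rw [h1]
  exact le_self_add

variable (A A') in
/-- **Base change of the fibrewise depth hypothesis.** -/
theorem fib_depth_baseChange (J : Ideal B) (n : ℕ∞)
    (hZ : ∀ q : PrimeSpectrum B, J ≤ q.asIdeal →
      n ≤ LocCoh.idealDepth (q.asIdeal.map (algebraMap B (EGA4.FibLocRing A B q.asIdeal)))
        (EGA4.FibLocRing A B q.asIdeal)) :
    ∀ q' : PrimeSpectrum B', J.map (algebraMap B B') ≤ q'.asIdeal →
      n ≤ LocCoh.idealDepth (q'.asIdeal.map (algebraMap B' (EGA4.FibLocRing A' B' q'.asIdeal)))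
        (EGA4.FibLocRing A' B' q'.asIdeal) := by
  intro q' hq'
  have h1 := hZ ⟨qB (B := B) q'.asIdeal, inferInstance⟩ (Ideal.map_le_iff_le_comap.1 hq')
  exact h1.trans (depth_fibLocRing_le A B A' q'.asIdeal)

end Pushout2
end Setup
end Groth.Agent.Lib.Helper14.FibBC
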