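
import Groth.Agent.Lib.Helper14.FibDepth
import Groth.Agent.Lib.Helper29.CMRing
universe u
namespace Groth.Agent.Lib.Helper14.FibTransport
open TensorProduct IsLocalRing Groth.Agent.Lib.Helper14.LocTensor Groth.Agent.Lib.Helper14.FibDepth
open Groth.Agent.Lib.Helper14.SkAtMod Groth.Agent.Lib.QCoh.SerreSk Groth.Agent.Lib.QCoh.Hartogs
set_option linter.style.haveILetI false

section gbar
variable {B : Type u} [CommRing B] (I : Ideal B) (S : Submonoid B)
  (B' : Type u) [CommRing B'] [Algebra B B'] [IsLocalization S B']
  {N : Type u} [AddCommGroup N] [Module B N]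
  {N' : Type u} [AddCommGroup N'] [Module B N'] [Module B' N'] [IsScalarTower B B' N']
  (g : N →ₗ[B] N') [IsLocalizedModule S g]

/-- the induced map on quotients by `I • ⊤`. -/
noncomputable def gbar :
    (N ⧸ (I • (⊤ : Submodule B N))) →ₗ[B]
      (N' ⧸ ((I.map (algebraMap B B')) • (⊤ : Submodule B' N'))) :=
  ((Submodule.quotEquivOfEq _ _ (by
      rw [Submodule.localized'_smul, Ideal.localized'_eq_map, Submodule.localized'_top])).restrictScalars B).toLinearMap ∘ₗ
    (Submodule.toLocalizedQuotient' B' S g (I • (⊤ : Submodule B N)))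

instance : IsLocalizedModule S (gbar I S B' g) := by
  unfold gbar
  exact IsLocalizedModule.of_linearEquiv _ _ _

end gbar

section L
variable {B : Type u} [CommRing B] [IsNoetherianRing B] (W : Type u) [AddCommGroup W] [Module B W]
  [Module.Finite B W]

/-- `depth_{J B_q} (W_q)` is computed pointwise on the generizations of `q` in `V(J)`. -/
theorem le_idealDepth_loc_iff (J : Ideal B) (q : Ideal B) [q.IsPrime] (n : ℕ∞) :
    n ≤ LocCoh.idealDepth (J.map (algebraMap B (Localization.AtPrime q)))
        (LocalizedModule q.primeCompl W) ↔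
      ∀ (q' : Ideal B) [q'.IsPrime], q' ≤ q → J ≤ q' →
        n ≤ LocCoh.depth (Localization.AtPrime q') (LocalizedModule q'.primeCompl W) := by
  rw [Groth.Agent.Lib.Helper29.CMRing.idealDepth_eq_iInf_depth_localization]
  have key : ∀ (q1 q2 : Ideal B) [q1.IsPrime] [q2.IsPrime], q1 = q2 →
      n ≤ LocCoh.depth (Localization.AtPrime q1) (LocalizedModule q1.primeCompl W) →
      n ≤ LocCoh.depth (Localization.AtPrime q2) (LocalizedModule q2.primeCompl W) := by
    intro q1 q2 _ _ h
    subst h
    exact id
  constructor
  · intro h q' hq' hle hJ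
    have disj : Disjoint (q.primeCompl : Set B) (q' : Set B) := by
      rw [Set.disjoint_left]
      intro x hx hxq
      exact hx (hle hxq)
    have hP : (q'.map (algebraMap B (Localization.AtPrime q))).IsPrime :=
      IsLocalization.isPrime_of_isPrime_disjoint q.primeCompl _ _ hq' disj
    have hcomap : (q'.map (algebraMap B (Localization.AtPrime q))).comap
        (algebraMap B (Localization.AtPrime q)) = q' :=
      IsLocalization.under_map_of_isPrime_disjoint q.primeCompl _ hq' disj
    have h1 := (le_iInf₂_iff.1 h) ⟨q'.map (algebraMap B (Localization.AtPrime q)), hP⟩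
      (Ideal.map_mono hJ)
    rw [(double_loc W q _).2] at h1
    exact key _ q' hcomap h1
  · intro h
    refine le_iInf₂ fun Q' hQ' => ?_
    have hle : Q'.asIdeal.comap (algebraMap B (Localization.AtPrime q)) ≤ q := by
      have hmax := IsLocalization.AtPrime.under_maximalIdeal (Localization.AtPrime q) q
      calc Q'.asIdeal.comap (algebraMap B (Localization.AtPrime q))
          ≤ (IsLocalRing.maximalIdeal (Localization.AtPrime q)).comap
              (algebraMap B (Localization.AtPrime q)) :=
            Ideal.comap_mono (IsLocalRing.le_maximalIdeal Q'.isPrime.ne_top)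
        _ = q := hmax
    rw [(double_loc W q Q'.asIdeal).2]
    exact h _ hle (Ideal.map_le_iff_le_comap.1 hQ')

end L

section Fib

variable {A B : Type u} [CommRing A] [CommRing B] [IsNoetherianRing A] [IsNoetherianRing B]
  [Algebra A B]
  (X : Type u) [AddCommGroup X] [Module B X] [Module.Finite B X]

attribute [local instance low] Localization.AtPrime.algebraOfLiesOver modLoc

omit [IsNoetherianRing A] in
/-- depth of the prelude fibre module over `B_Q` equals its depth over the fibre local ring. -/
theorem depth_fibLocMod_eq (Q : Ideal B) [Q.IsPrime] :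
    LocCoh.depth (Localization.AtPrime Q) (EGA4.FibLocMod A B Q X) =
      LocCoh.idealDepth (Q.map (algebraMap B (EGA4.FibLocRing A B Q)))
        (EGA4.FibLocMod A B Q X) := by
  haveI := nontrivial_fibLocRing (A := A) Q
  have hsurj : Function.Surjective (algebraMap (Localization.AtPrime Q) (EGA4.FibLocRing A B Q)) :=
    Ideal.Quotient.mk_surjective
  haveI : IsLocalHom (algebraMap (Localization.AtPrime Q) (EGA4.FibLocRing A B Q)) :=
    hsurj.isLocalHom _
  have h2 := Groth.Agent.Lib.Helper29.DepthFinite.depth_eq_of_isLocalHom (Localization.AtPrime Q)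
    (EGA4.FibLocRing A B Q) (EGA4.FibLocMod A B Q X)
  rw [h2, map_eq_maximalIdeal (A := A) Q]
  rfl

/-- The `B`-module `X / pX`. -/
abbrev WW (B : Type u) [CommRing B] [Algebra A B] (X : Type u) [AddCommGroup X] [Module B X]
    (p : Ideal A) : Type u := X ⧸ ((p.map (algebraMap A B)) • (⊤ : Submodule B X))

omit [IsNoetherianRing A] in
/-- at primes over `p`, the localization of `X/pX` has the depth of the fibre module. -/
theorem depth_WW_of_comap_eq (p : Ideal A) (q' : Ideal B) [q'.IsPrime]
    (h : q'.comap (algebraMap A B) = p) :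
    LocCoh.depth (Localization.AtPrime q') (LocalizedModule q'.primeCompl (WW B X p)) =
      LocCoh.idealDepth (q'.map (algebraMap B (EGA4.FibLocRing A B q')))
        (EGA4.FibLocMod A B q' X) := by
  subst h
  rw [← depth_fibLocMod_eq (A := A) X q']
  have hI : ((q'.comap (algebraMap A B)).map (algebraMap A B)).map
      (algebraMap B (Localization.AtPrime q')) =
      (q'.comap (algebraMap A B)).map (algebraMap A (Localization.AtPrime q')) := by
    rw [Ideal.map_map, ← IsScalarTower.algebraMap_eq]
  have h1 := depth_eq_depth_localizedModule q' (Localization.AtPrime q')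
    (WW B X (q'.comap (algebraMap A B)))
    (LocalizedModule q'.primeCompl X ⧸
      ((((q'.comap (algebraMap A B)).map (algebraMap A B)).map
        (algebraMap B (Localization.AtPrime q'))) •
        (⊤ : Submodule (Localization.AtPrime q') (LocalizedModule q'.primeCompl X))))
    (gbar ((q'.comap (algebraMap A B)).map (algebraMap A B)) q'.primeCompl
      (Localization.AtPrime q') (LocalizedModule.mkLinearMap q'.primeCompl X))
  rw [← h1]
  exact Groth.Agent.Lib.Helper29.CMLib.depth_congr (Submodule.quotEquivOfEq _ _ (by rw [hI]))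

omit [IsNoetherianRing A] [IsNoetherianRing B] [Module.Finite B X] in
/-- away from `V(pB)` the localization of `X/pX` vanishes. -/
theorem subsingleton_WW (p : Ideal A) (q' : Ideal B) [q'.IsPrime]
    (h : ¬ p.map (algebraMap A B) ≤ q') :
    Subsingleton (LocalizedModule q'.primeCompl (WW B X p)) := by
  obtain ⟨s, hsI, hsq⟩ := Set.not_subset.1 h
  rw [LocalizedModule.subsingleton_iff]
  intro m
  refine ⟨s, hsq, ?_⟩
  obtain ⟨x, rfl⟩ := Submodule.Quotient.mk_surjective _ m
  rw [← Submodule.Quotient.mk_smul, Submodule.Quotient.mk_eq_zero]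
  exact Submodule.smul_mem_smul hsI Submodule.mem_top

omit [IsNoetherianRing A] [IsNoetherianRing B] [Module.Finite B X] in
/-- `(X/pX)_q ≅ X_q / m_p X_q` over `B_q`. -/
theorem nonempty_equiv_fibM (q : Ideal B) [q.IsPrime] :
    haveI : q.LiesOver (q.comap (algebraMap A B)) := ⟨rfl⟩
    Nonempty (LocalizedModule q.primeCompl (WW B X (q.comap (algebraMap A B)))
      ≃ₗ[Localization.AtPrime q] FibM X (q.comap (algebraMap A B)) q) := by
  haveI : q.LiesOver (q.comap (algebraMap A B)) := ⟨rfl⟩
  have hI : ((q.comap (algebraMap A B)).map (algebraMap A B)).map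
      (algebraMap B (Localization.AtPrime q)) =
      (maximalIdeal (Localization.AtPrime (q.comap (algebraMap A B)))).map
        (algebraMap (Localization.AtPrime (q.comap (algebraMap A B))) (Localization.AtPrime q)) := by
    rw [ideal_eq (A := A) q, Ideal.map_map, ← IsScalarTower.algebraMap_eq]
  let e1 := (IsLocalizedModule.iso q.primeCompl
    (gbar ((q.comap (algebraMap A B)).map (algebraMap A B)) q.primeCompl
      (Localization.AtPrime q) (LocalizedModule.mkLinearMap q.primeCompl X))).extendScalarsOfIsLocalization
        q.primeCompl (Localization.AtPrime q)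
  exact ⟨e1 ≪≫ₗ Submodule.quotEquivOfEq _ _ (by rw [hI])⟩

omit [IsNoetherianRing A] in
/-- **Transport**: the `J`-depth of the closed fibre of `A_p → B_q` on `X_q`, pointwise. -/
theorem le_idealDepth_fibM_iff (J : Ideal B) (q : Ideal B) [q.IsPrime] (n : ℕ∞) :
    haveI : q.LiesOver (q.comap (algebraMap A B)) := ⟨rfl⟩
    n ≤ LocCoh.idealDepth (J.map (algebraMap B (Localization.AtPrime q)))
        (FibM X (q.comap (algebraMap A B)) q) ↔
      ∀ (q' : Ideal B) [q'.IsPrime], q' ≤ q → J ≤ q' →
        q'.comap (algebraMap A B) = q.comap (algebraMap A B) →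
        n ≤ LocCoh.idealDepth (q'.map (algebraMap B (EGA4.FibLocRing A B q')))
          (EGA4.FibLocMod A B q' X) := by
  haveI : q.LiesOver (q.comap (algebraMap A B)) := ⟨rfl⟩
  obtain ⟨e⟩ := nonempty_equiv_fibM (A := A) X q
  rw [← Groth.Agent.Lib.Helper29.CMLib.idealDepth_congr _ e, le_idealDepth_loc_iff]
  refine forall_congr' fun q' => forall_congr' fun hq' => forall_congr' fun hle =>
    forall_congr' fun hJ => ?_
  by_cases h : q'.comap (algebraMap A B) = q.comap (algebraMap A B)
  · rw [depth_WW_of_comap_eq X _ q' h]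
    exact ⟨fun h1 _ => h1, fun h1 => h1 h⟩
  · have hns : ¬ (q.comap (algebraMap A B)).map (algebraMap A B) ≤ q' := by
      intro hle'
      apply h
      apply le_antisymm (Ideal.comap_mono hle)
      exact Ideal.map_le_iff_le_comap.1 hle'
    haveI := subsingleton_WW X _ q' hns
    rw [Groth.Agent.Lib.Helper29.FlatLocal.depth_eq_top_of_subsingleton]
    exact ⟨fun _ h1 => absurd h1 h, fun _ => le_top⟩

end Fib

end Groth.Agent.Lib.Helper14.FibTransport
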