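import Mathlib
import Groth.Agent.Lib.Helper93.QGorFlat3
import Groth.Agent.Lib.Helper58.LCX
import Groth.Agent.Lib.Helper41.Grade
import Groth.Agent.Lib.Helper49.DepthLoc

/-!
# The four-term flatness criterion with `H^2_J(F/mF) = 0` (helper14)
-/

set_option autoImplicit false
universe u
open CategoryTheory

namespace Groth.Agent.Lib.Helper14.FourTermH2
open CategoryTheory CategoryTheory.Limits
open Groth.Agent.Lib.Helper93.QGorFlat Groth.Agent.Lib.Helper93.QGorFlat2
open Groth.Agent.Lib.Helper93.QGorFlat3
open Groth.Agent.Lib.Helper41.LC Groth.Agent.Lib.Helper58.LCX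

section general
variable {R : Type u} [CommRing R] [IsNoetherianRing R] (I : Ideal R)

/-- depth via vanishing of local cohomology -/
theorem le_idealDepth_iff_H (G : Type u) [AddCommGroup G] [Module R G] [Module.Finite R G]
    (n : ℕ) : (n : ℕ∞) ≤ LocCoh.idealDepth I G ↔ ∀ i < n, Subsingleton (LocCoh.H I i G) := by
  rw [Groth.Agent.Lib.Helper49.Serre.le_idealDepth_iff, subsingleton_H_iff_le_depth]
  constructor
  · intro h p hIp _
    exact h p.asIdeal hIp
  · intro h p hp hIp
    by_cases hs : (⟨p, hp⟩ : PrimeSpectrum R) ∈ Module.support R G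
    · exact h ⟨p, hp⟩ hIp hs
    · rw [Module.notMem_support_iff] at hs
      rw [Groth.Agent.Lib.Helper49.Serre.depth_eq_top_of_subsingleton]
      exact le_top

omit [IsNoetherianRing R] in
theorem subsingleton_X₃ {S : ShortComplex (ModuleCat.{u} R)} (hS : S.ShortExact) (i : ℕ)
    (h2 : Subsingleton ((localCohomology I i).obj S.X₂))
    (h1 : Subsingleton ((localCohomology I (i + 1)).obj S.X₁)) :
    Subsingleton ((localCohomology I i).obj S.X₃) := by
  have key : ∀ x : (localCohomology I i).obj S.X₃, x = 0 := fun x => by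
    obtain ⟨x₂, rfl⟩ := exact₃ I hS i (i + 1) rfl x (Subsingleton.elim _ _)
    rw [Subsingleton.elim x₂ 0, map_zero]
  exact ⟨fun x y => by rw [key x, key y]⟩

end general

section fib
variable {A B : Type u} [CommRing A] [CommRing B] [Algebra A B] [IsLocalRing A]
variable {N' N N'' : Type u} [AddCommGroup N'] [Module B N'] [AddCommGroup N] [Module B N]
  [AddCommGroup N''] [Module B N'']

theorem fibMap_surjective (p : N →ₗ[B] N'') (hp : Function.Surjective p) :
    Function.Surjective (fibMap (A := A) p) := by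
  intro q
  obtain ⟨y, rfl⟩ := Submodule.Quotient.mk_surjective _ q
  obtain ⟨x, rfl⟩ := hp y
  exact ⟨Submodule.Quotient.mk x, rfl⟩

theorem fibMap_exact' (i : N' →ₗ[B] N) (p : N →ₗ[B] N'') (hp : Function.Surjective p)
    (H : Function.Exact i p) :
    Function.Exact (fibMap (A := A) i) (fibMap (A := A) p) := by
  intro q
  obtain ⟨e, rfl⟩ := Submodule.Quotient.mk_surjective _ q
  constructor
  · intro hq
    rw [fibMap_mk, Submodule.Quotient.mk_eq_zero] at hq
    rw [← map_smul_top_of_surjective _ p hp] at hq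
    obtain ⟨e', he', hee'⟩ := hq
    have h2 : p (e - e') = 0 := by
      rw [map_sub, sub_eq_zero]
      exact hee'.symm
    obtain ⟨n', hn'⟩ := (H _).mp h2
    refine ⟨Submodule.Quotient.mk n', ?_⟩
    rw [fibMap_mk, hn', Submodule.Quotient.mk_sub, sub_eq_self, Submodule.Quotient.mk_eq_zero]
    exact he'
  · rintro ⟨q', hq'⟩
    obtain ⟨n', rfl⟩ := Submodule.Quotient.mk_surjective _ q'
    rw [← hq', fibMap_mk, fibMap_mk, H.apply_apply_eq_zero]
    rfl

variable [IsNoetherianRing A] [IsNoetherianRing B]
  [Module A N'] [IsScalarTower A B N'] [Module A N] [IsScalarTower A B N]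
  [Module A N''] [IsScalarTower A B N'']

theorem isTorsion_ker_fibMap (J : Ideal B) (i : N' →ₗ[B] N) (p : N →ₗ[B] N'')
    (hi : Function.Injective i) (hp : Function.Surjective p) (H : Function.Exact i p)
    (hU : ∀ q : PrimeSpectrum B, ¬ J ≤ q.asIdeal → FlatCA.FlatAt A q.asIdeal N'') :
    IsTorsion J (LinearMap.ker (fibMap (A := A) i)) := by
  rintro ⟨q, hq⟩
  obtain ⟨n', rfl⟩ := Submodule.Quotient.mk_surjective _ q
  rw [LinearMap.mem_ker, fibMap_mk, Submodule.Quotient.mk_eq_zero] at hq
  have hq' : i n' ∈ IsLocalRing.maximalIdeal A • (⊤ : Submodule A N) :=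
    (mem_smul_top_iff' N (IsLocalRing.maximalIdeal A) (i n')).2 hq
  obtain ⟨n, hn⟩ := exists_pow_smul_mem J i p hi hp H hU (IsLocalRing.maximalIdeal A) n' hq'
  refine ⟨n, fun b hb => ?_⟩
  apply Subtype.ext
  show b • (Submodule.Quotient.mk n' : EGA4.FibMod A B N') = 0
  rw [← Submodule.Quotient.mk_smul, Submodule.Quotient.mk_eq_zero]
  exact hn b hb

end fib

section main
variable {A B : Type u} [CommRing A] [CommRing B] [Algebra A B]
variable [IsLocalRing A] [IsNoetherianRing A] [IsNoetherianRing B] [IsLocalRing B]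
  [IsLocalHom (algebraMap A B)]
variable {F E0 E1 G : Type u}
  [AddCommGroup F] [Module B F] [Module A F] [IsScalarTower A B F] [Module.Finite B F]
  [AddCommGroup E0] [Module B E0] [Module A E0] [IsScalarTower A B E0] [Module.Finite B E0]
  [Module.Flat A E0]
  [AddCommGroup E1] [Module B E1] [Module A E1] [IsScalarTower A B E1] [Module.Finite B E1]
  [Module.Flat A E1]
  [AddCommGroup G] [Module B G] [Module A G] [IsScalarTower A B G] [Module.Finite B G]
  (J : Ideal B) (f : F →ₗ[B] E0) (u : E0 →ₗ[B] E1) (v : E1 →ₗ[B] G)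

theorem one_le_depth_G (hf : Function.Injective f) (hfu : Function.Exact f u)
    (huv : Function.Exact u v) (hv : Function.Surjective v)
    (hGU : ∀ q : PrimeSpectrum B, ¬ J ≤ q.asIdeal → FlatCA.FlatAt A q.asIdeal G)
    (h0 : 2 ≤ LocCoh.idealDepth J (EGA4.FibMod A B E0))
    (h1 : 1 ≤ LocCoh.idealDepth J (EGA4.FibMod A B E1))
    (hH2 : Subsingleton (LocCoh.H J 2 (EGA4.FibMod A B F))) :
    1 ≤ LocCoh.idealDepth J (EGA4.FibMod A B G) := by
  set K := LinearMap.range u with hK
  set uK : E0 →ₗ[B] K := u.rangeRestrict with huK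
  set ιK : K →ₗ[B] E1 := K.subtype with hιK
  have huKs : Function.Surjective uK := u.surjective_rangeRestrict
  set fF := fibMap (A := A) f with hfF
  set fu := fibMap (A := A) uK with hfu'
  set fι := fibMap (A := A) ιK with hfι
  set fv := fibMap (A := A) v with hfv
  have hTK : IsTorsion J (LinearMap.ker fF) :=
    isTorsion_ker_fibMap J f uK hf huKs (exact_rangeRestrict f u hfu)
      (fun q hq => flatAt_range u v huv hv q.asIdeal (hGU q hq))
  have hTG : IsTorsion J (LinearMap.ker fι) :=
    isTorsion_ker_fibMap J ιK v (Submodule.subtype_injective _) hv (exact_subtype u v huv) hGU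
  -- step 1
  have s1 : Subsingleton ((localCohomology J 2).obj (ModuleCat.of B (LinearMap.range fF))) := by
    have hb := map_bijective_of_surjective_of_torsion_ker J fF.rangeRestrict
      fF.surjective_rangeRestrict (by rw [LinearMap.ker_rangeRestrict]; exact hTK) 2 (by norm_num)
    have : Subsingleton ((localCohomology J 2).obj (ModuleCat.of B (EGA4.FibMod A B F))) := hH2
    exact hb.2.subsingleton
  -- step 2
  have s2 : Subsingleton ((localCohomology J 1).obj (ModuleCat.of B (EGA4.FibMod A B K))) := by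
    let S₂ : ShortComplex (ModuleCat.{u} B) :=
      ShortComplex.mk (ModuleCat.ofHom (LinearMap.range fF).subtype) (ModuleCat.ofHom fu) (by
        ext ⟨y, n', rfl⟩
        exact (fibMap_exact' (A := A) f uK huKs (exact_rangeRestrict f u hfu)).apply_apply_eq_zero n')
    have hS₂ : S₂.ShortExact := by
      apply ModuleCat.shortComplex_shortExact
      · intro y
        have := fibMap_exact' (A := A) f uK huKs (exact_rangeRestrict f u hfu) y
        change fu y = 0 ↔ y ∈ Set.range (LinearMap.range fF).subtype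
        rw [this]
        constructor
        · rintro ⟨n', rfl⟩
          exact ⟨⟨fF n', n', rfl⟩, rfl⟩
        · rintro ⟨⟨_, n', rfl⟩, rfl⟩
          exact ⟨n', rfl⟩
      · exact Submodule.subtype_injective _
      · exact fibMap_surjective uK huKs
    have hE0 : Subsingleton ((localCohomology J 1).obj (ModuleCat.of B (EGA4.FibMod A B E0))) :=
      (le_idealDepth_iff_H J (EGA4.FibMod A B E0) 2).1 (by exact_mod_cast h0) 1 (by norm_num)
    exact subsingleton_X₃ J hS₂ 1 hE0 s1
  -- step 3
  have s3 : Subsingleton ((localCohomology J 1).obj (ModuleCat.of B (LinearMap.range fι))) := by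
    have hb := map_bijective_of_surjective_of_torsion_ker J fι.rangeRestrict
      fι.surjective_rangeRestrict (by rw [LinearMap.ker_rangeRestrict]; exact hTG) 1 (by norm_num)
    exact hb.2.subsingleton
  -- step 4
  have s4 : Subsingleton ((localCohomology J 0).obj (ModuleCat.of B (EGA4.FibMod A B G))) := by
    let S₄ : ShortComplex (ModuleCat.{u} B) :=
      ShortComplex.mk (ModuleCat.ofHom (LinearMap.range fι).subtype) (ModuleCat.ofHom fv) (by
        ext ⟨y, n', rfl⟩
        exact (fibMap_exact' (A := A) ιK v hv (exact_subtype u v huv)).apply_apply_eq_zero n')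
    have hS₄ : S₄.ShortExact := by
      apply ModuleCat.shortComplex_shortExact
      · intro y
        have := fibMap_exact' (A := A) ιK v hv (exact_subtype u v huv) y
        change fv y = 0 ↔ y ∈ Set.range (LinearMap.range fι).subtype
        rw [this]
        constructor
        · rintro ⟨n', rfl⟩
          exact ⟨⟨fι n', n', rfl⟩, rfl⟩
        · rintro ⟨⟨_, n', rfl⟩, rfl⟩
          exact ⟨n', rfl⟩
      · exact Submodule.subtype_injective _
      · exact fibMap_surjective v hv
    have hE1 : Subsingleton ((localCohomology J 0).obj (ModuleCat.of B (EGA4.FibMod A B E1))) :=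
      (le_idealDepth_iff_H J (EGA4.FibMod A B E1) 1).1 (by exact_mod_cast h1) 0 (by norm_num)
    exact subsingleton_X₃ J hS₄ 0 hE1 s3
  have := (le_idealDepth_iff_H J (EGA4.FibMod A B G) 1).2 (fun i hi => by
    have : i = 0 := by omega
    subst this
    exact s4)
  exact_mod_cast this

theorem main18726 (hf : Function.Injective f) (hfu : Function.Exact f u)
    (huv : Function.Exact u v) (hv : Function.Surjective v)
    (hGU : ∀ q : PrimeSpectrum B, ¬ J ≤ q.asIdeal → FlatCA.FlatAt A q.asIdeal G)
    (h0 : 2 ≤ LocCoh.idealDepth J (EGA4.FibMod A B E0))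
    (h1 : 1 ≤ LocCoh.idealDepth J (EGA4.FibMod A B E1))
    (hH2 : Subsingleton (LocCoh.H J 2 (EGA4.FibMod A B F))) :
    Module.Flat A F ∧ Module.Flat A G ∧ 2 ≤ LocCoh.idealDepth J (EGA4.FibMod A B F) := by
  obtain ⟨⟨h12, h21⟩, -, hFG⟩ := fourTerm_main J f u v hf hfu huv hv hGU h0 h1
  have hG : Module.Flat A G :=
    flat_of_flatAt_off_of_one_le_idealDepth G J hGU
      (one_le_depth_G J f u v hf hfu huv hv hGU h0 h1 hH2)
  exact ⟨hFG hG, hG, h21 hG⟩

end main

end Groth.Agent.Lib.Helper14.FourTermH2
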