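import Mathlib
import Groth.Prelude.Def_Dual3
import Groth.Prelude.Def_DualSch
import Groth.Agent.S0373

set_option autoImplicit false
universe u
open CategoryTheory AlgebraicGeometry
attribute [local instance] HasDerivedCategory.standard

namespace Groth.Agent.Lib.Helper14.GorSch
open CategoryTheory.Limits

section Transport

theorem hasInjDimLT_map_equiv {C D : Type*} [Category C] [Category D] [Abelian C] [Abelian D]
    (E : C ≌ D) [EnoughInjectives C] :
    ∀ (n : ℕ) (X : C), HasInjectiveDimensionLT X n → HasInjectiveDimensionLT (E.functor.obj X) n := by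
  have hinj : ∀ (I : C), Injective I → Injective (E.functor.obj I) := fun I hI =>
    Injective.injective_of_adjoint (E.symm.toAdjunction) I
  have P0 : ∀ X : C, HasInjectiveDimensionLT X 0 → HasInjectiveDimensionLT (E.functor.obj X) 0 := by
    intro X hX
    exact (E.functor.map_isZero (isZero_of_hasInjectiveDimensionLT_zero X)).hasInjectiveDimensionLT_zero
  have P1 : ∀ X : C, HasInjectiveDimensionLT X 1 → HasInjectiveDimensionLT (E.functor.obj X) 1 := by
    intro X hX
    have hI : Injective X := injective_iff_hasInjectiveDimensionLT_one.2 hX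
    exact injective_iff_hasInjectiveDimensionLT_one.1 (hinj X hI)
  have step : ∀ n : ℕ, (∀ X : C, HasInjectiveDimensionLT X (n + 1) →
      HasInjectiveDimensionLT (E.functor.obj X) (n + 1)) →
      ∀ X : C, HasInjectiveDimensionLT X (n + 2) →
        HasInjectiveDimensionLT (E.functor.obj X) (n + 2) := by
    intro n ih X hX
    let S : ShortComplex C := ShortComplex.mk (Injective.ι X) (cokernel.π (Injective.ι X))
      (cokernel.condition _)
    have hS : S.ShortExact :=
      { exact := ShortComplex.exact_cokernel (Injective.ι X)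
        mono_f := inferInstanceAs (Mono (Injective.ι X))
        epi_g := inferInstanceAs (Epi (cokernel.π (Injective.ι X))) }
    have h2 : Injective S.X₂ := inferInstanceAs (Injective (Injective.under X))
    have hC : HasInjectiveDimensionLT S.X₃ (n + 1) := (hS.hasInjectiveDimensionLT_X₃_iff n h2).2 hX
    have hC' := ih _ hC
    have hS' : (S.map E.functor).ShortExact := hS.map_of_exact E.functor
    have h2' : Injective (S.map E.functor).X₂ := hinj _ h2
    exact (hS'.hasInjectiveDimensionLT_X₃_iff n h2').1 hC'
  intro n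
  induction n using Nat.strong_induction_on with
  | _ n ih =>
    match n, ih with
    | 0, _ => exact P0
    | 1, _ => exact P1
    | (n + 2), ih => exact step n (ih (n + 1) (by omega))

theorem gor_of_ringEquiv {A B : Type u} [CommRing A] [CommRing B] (e : A ≃+* B)
    [hA : LocCoh.IsGorensteinLocalRing A] : LocCoh.IsGorensteinLocalRing B := by
  haveI : IsNoetherianRing B := isNoetherianRing_of_ringEquiv A e
  haveI : IsLocalRing B := e.isLocalRing
  obtain ⟨n, hn⟩ := hA.exists_hasInjectiveDimensionLT
  refine { exists_hasInjectiveDimensionLT := ⟨n, ?_⟩ }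
  let E : ModuleCat.{u} A ≌ ModuleCat.{u} B := ModuleCat.restrictScalarsEquivalenceOfRingEquiv e.symm
  have h1 := hasInjDimLT_map_equiv E n _ hn
  let f : (E.functor.obj (ModuleCat.of A A)) ≃ₗ[B] B :=
    { toFun := fun a => e (show A from a)
      map_add' := fun a b => map_add e (show A from a) (show A from b)
      map_smul' := by
        intro b a
        change e (e.symm b * (show A from a)) = b * e (show A from a)
        rw [map_mul, RingEquiv.apply_symm_apply]
      invFun := fun b => (show A from e.symm b)
      left_inv := fun a => e.symm_apply_apply (show A from a)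
      right_inv := fun b => e.apply_symm_apply b }
  exact hasInjectiveDimensionLT_of_iso f.toModuleIso n

end Transport

theorem main3621 (X : Scheme.{u}) [IsLocallyNoetherian X] [∀ (U V : Scheme.{u}) (j : U ⟶ V) [IsOpenImmersion j], PreservesFiniteLimits (Scheme.Modules.restrictFunctor j)] [∀ (R : CommRingCat.{u}), PreservesFiniteLimits (tilde.functor R)] (K : DCoh.D X) (hK : Dual2.IsDualizingSch X K) : IsOpen {x : X | LocCoh.IsGorensteinLocalRing (X.presheaf.stalk x)} := by
  rw [isOpen_iff_forall_mem_open]
  intro x hx
  obtain ⟨_, ⟨U, hU : IsAffineOpen U, rfl⟩, hxU, -⟩ :=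
    X.isBasis_affineOpens.exists_subset_of_mem_open (Set.mem_univ x) isOpen_univ
  haveI : IsNoetherianRing Γ(X, U) := IsLocallyNoetherian.component_noetherian ⟨U, hU⟩
  obtain ⟨ω, hω, -⟩ := hK Γ(X, U) hU.fromSpec
  have hG := Groth.Agent.S0373.result Γ(X, U) ω hω
  have key : ∀ p : PrimeSpectrum Γ(X, U),
      (LocCoh.IsGorensteinLocalRing (Localization.AtPrime p.asIdeal) ↔
        LocCoh.IsGorensteinLocalRing (X.presheaf.stalk (hU.fromSpec p))) := by
    intro p
    haveI : p.asIdeal.IsPrime := p.2
    have hmem : hU.fromSpec p ∈ U := by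
      have := hU.range_fromSpec
      rw [← SetLike.mem_coe, ← this]
      exact ⟨p, rfl⟩
    letI := TopCat.Presheaf.algebra_section_stalk X.presheaf ⟨hU.fromSpec p, hmem⟩
    haveI : IsLocalization p.asIdeal.primeCompl (X.presheaf.stalk (hU.fromSpec p)) :=
      hU.isLocalization_stalk' p hmem
    let e := (IsLocalization.algEquiv p.asIdeal.primeCompl (Localization.AtPrime p.asIdeal)
      (X.presheaf.stalk (hU.fromSpec p))).toRingEquiv
    exact ⟨fun h => gor_of_ringEquiv e, fun h => gor_of_ringEquiv e.symm⟩
  refine ⟨hU.fromSpec '' {p : PrimeSpectrum Γ(X, U) | LocCoh.IsGorensteinLocalRing (Localization.AtPrime p.asIdeal)}, ?_,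
    hU.fromSpec.isOpenEmbedding.isOpenMap _ hG, ?_⟩
  · rintro _ ⟨p, hp, rfl⟩
    exact (key p).1 hp
  · refine ⟨hU.primeIdealOf ⟨x, hxU⟩, ?_, hU.fromSpec_primeIdealOf ⟨x, hxU⟩⟩
    apply (key _).2
    rw [hU.fromSpec_primeIdealOf ⟨x, hxU⟩]
    exact hx

end Groth.Agent.Lib.Helper14.GorSch
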