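import Mathlib
import Groth.Prelude.Def_Dual3
import Groth.Prelude.Def_DualSch
import Groth.Agent.Lib.Helper14.GorSch
import Groth.Agent.Lib.Helper14.DualGor
import Groth.Agent.Lib.Helper12.PointwiseDualizing
import Groth.Agent.Lib.QCoh.Helper74_LocFree
import Groth.Agent.S0371

set_option autoImplicit false
universe u
open CategoryTheory AlgebraicGeometry
attribute [local instance] HasDerivedCategory.standard

namespace Groth.Agent.Lib.Helper14.GorSch2
open CategoryTheory.Limits
open Groth.Agent.Lib.QCoh Groth.Agent.Lib.Helper14.GorSch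
open Groth.Agent.Lib.Helper12 Groth.Agent.Lib.Helper12.FlatHomBC
open Groth.Agent.Lib.Helper33.DualizingSelf
set_option linter.style.haveILetI false

section Ring
variable (A : Type u) [CommRing A] [IsNoetherianRing A]

/-- a Noetherian ring with a dualizing complex, all of whose local rings are Gorenstein, has `A[0]`
as a dualizing complex -/
theorem isDualizing_self_of_gor (ω : Dual.D A) (hω : Dual.IsDualizing A ω)
    (hG : ∀ p : PrimeSpectrum A, LocCoh.IsGorensteinLocalRing (Localization.AtPrime p.asIdeal)) :
    Dual.IsDualizing A (Dual.inD A A) := by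
  have hdim : ringKrullDim A < ⊤ := Groth.Agent.S0371.result A ω hω
  refine PtDual.isDualizing_of_pointwise hdim (Dual.inD A A) ?_ ⟨0, ?_⟩ ?_
  · intro i
    by_cases hi : i = 0
    · subst hi
      have hfin : Module.Finite A ((𝟭 (ModuleCat.{u} A)).obj (ModuleCat.of A A)) :=
        inferInstanceAs (Module.Finite A A)
      exact Module.Finite.equiv
        ((Groth.Agent.Lib.Helper12.HFSingleNatIso (A := A) 0).app (ModuleCat.of A A)).symm.toLinearEquiv
    · have hz : IsZero ((DerivedCategory.homologyFunctor (ModuleCat.{u} A) i).obj (Dual.inD A A)) := by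
        rcases lt_or_gt_of_ne hi with h | h
        · exact DerivedCategory.isZero_of_isGE _ 0 i h
        · exact DerivedCategory.isZero_of_isLE _ 0 i h
      have : Subsingleton (Dual.HD A (Dual.inD A A) i) := ModuleCat.subsingleton_of_isZero hz
      infer_instance
  · intro i hi
    have hz : IsZero ((DerivedCategory.homologyFunctor (ModuleCat.{u} A) i).obj (Dual.inD A A)) :=
      DerivedCategory.isZero_of_isGE _ 0 i hi
    exact ModuleCat.subsingleton_of_isZero hz
  · intro p
    let B := Localization.AtPrime p.asIdeal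
    haveI : Module.Flat A B := IsLocalization.flat _ p.asIdeal.primeCompl
    haveI hGB : LocCoh.IsGorensteinLocalRing B := hG p
    obtain ⟨n₀, hn₀⟩ := hGB.exists_hasInjectiveDimensionLT
    have hB : Dual.IsDualizing B (Dual.inD B B) :=
      isDualizing_inD_self B (n₀ : ℤ) (fun M _ _ i hi => by
        have := (hasInjectiveDimensionLT_iff_hom B (ModuleCat.of B B) n₀).1 hn₀ i.toNat (by omega)
          (ModuleCat.of B M)
        rw [Int.toNat_of_nonneg (by omega)] at this
        exact this)
    have e1 : (extScD A B).obj (Dual.inD A A) ≅ Dual.inD B (TensorProduct A B A) := extScD_inD A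
    have e2 : Dual.inD B (TensorProduct A B A) ≅ Dual.inD B B :=
      (DerivedCategory.singleFunctor (ModuleCat.{u} B) 0).mapIso
        (TensorProduct.AlgebraTensorModule.rid A B B).toModuleIso
    exact DualizingBC.isDualizing_of_iso (e1 ≪≫ e2).symm hB

end Ring


section Sch

/-- the structure sheaf in an affine chart is the derived tilde of `A[0]` -/
theorem nonempty_restrictD_structure_iso (X : Scheme.{u})
    [∀ (U : Scheme.{u}) (j : U ⟶ X) [IsOpenImmersion j], PreservesFiniteLimits (Scheme.Modules.restrictFunctor j)]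
    [∀ (R : CommRingCat.{u}), PreservesFiniteLimits (tilde.functor R)]
    (R : CommRingCat.{u}) (j : Spec R ⟶ X) [IsOpenImmersion j] :
    Nonempty ((DCoh.restrictD j).obj (DCoh.inD X (Coh.structureModule X)) ≅
      (tilde.functor R).mapDerivedCategory.obj
        ((DerivedCategory.singleFunctor (ModuleCat.{u} R) 0).obj (ModuleCat.of R R))) := by
  let a1 : (DCoh.restrictD j).obj (DCoh.inD X (Coh.structureModule X)) ≅
      (DerivedCategory.singleFunctor (Spec R).Modules 0).obj
        ((Scheme.Modules.restrictFunctor j).obj (Coh.structureModule X)) :=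
    ((Scheme.Modules.restrictFunctor j).mapDerivedCategorySingleFunctor 0).app (Coh.structureModule X)
  let a2 : (tilde.functor R).mapDerivedCategory.obj
        ((DerivedCategory.singleFunctor (ModuleCat.{u} R) 0).obj (ModuleCat.of R R)) ≅
      (DerivedCategory.singleFunctor (Spec R).Modules 0).obj
        ((tilde.functor R).obj (ModuleCat.of R R)) :=
    ((tilde.functor R).mapDerivedCategorySingleFunctor 0).app (ModuleCat.of R R)
  let m1 : (Scheme.Modules.restrictFunctor j).obj (Coh.structureModule X) ≅
      Coh.structureModule (Spec R) := Scheme.Modules.restrictUnitIso j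
  let b : Module.Basis (Fin 1) R (ModuleCat.of R R) := Module.Basis.singleton (Fin 1) R
  let m2 : (tilde.functor R).obj (ModuleCat.of R R) ≅ Coh.structureModule (Spec R) :=
    tildeIsoFreeModOfBasis b ≪≫ freeModOneIso (Spec R)
  exact ⟨a1 ≪≫ (DerivedCategory.singleFunctor (Spec R).Modules 0).mapIso (m1 ≪≫ m2.symm) ≪≫ a2.symm⟩

theorem gor_stalk_of_openImmersion {X Y : Scheme.{u}} (j : Y ⟶ X) [IsOpenImmersion j] (y : Y)
    (h : LocCoh.IsGorensteinLocalRing (X.presheaf.stalk (j y))) :
    LocCoh.IsGorensteinLocalRing (Y.presheaf.stalk y) :=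
  gor_of_ringEquiv (asIso (j.stalkMap y)).commRingCatIsoToRingEquiv

theorem main3622 (X : Scheme.{u}) (hX : Dual3.IsGorenstein X) [∀ (U V : Scheme.{u}) (j : U ⟶ V) [IsOpenImmersion j], PreservesFiniteLimits (Scheme.Modules.restrictFunctor j)] [∀ (R : CommRingCat.{u}), PreservesFiniteLimits (tilde.functor R)] : (∃ K : DCoh.D X, Dual2.IsDualizingSch X K) ↔ Dual2.IsDualizingSch X (DCoh.inD X (Coh.structureModule X)) := by
  constructor
  · rintro ⟨K, hK⟩
    intro A _ j _
    obtain ⟨ω, hω, -⟩ := hK A j
    haveI : IsNoetherianRing A := hω.isNoetherianRing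
    have hG : ∀ p : PrimeSpectrum A,
        LocCoh.IsGorensteinLocalRing (Localization.AtPrime p.asIdeal) := by
      intro p
      haveI h1 : LocCoh.IsGorensteinLocalRing ((Spec (CommRingCat.of A)).presheaf.stalk p) :=
        @gor_stalk_of_openImmersion X (Spec (CommRingCat.of A)) j _ p (hX.2 _)
      let e2 : Localization.AtPrime p.asIdeal ≃+* (Spec (CommRingCat.of A)).presheaf.stalk p :=
        (IsLocalization.algEquiv p.asIdeal.primeCompl (Localization.AtPrime p.asIdeal)
          ((Spec.structureSheaf A).presheaf.stalk p)).toRingEquiv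
      exact gor_of_ringEquiv e2.symm
    refine ⟨Dual.inD A A, isDualizing_self_of_gor A ω hω hG, ?_⟩
    exact nonempty_restrictD_structure_iso X (CommRingCat.of A) j
  · intro h
    exact ⟨_, h⟩

end Sch

end Groth.Agent.Lib.Helper14.GorSch2
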