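import Groth.Prelude.Def_QuadGrp
import Mathlib

/-!
The universal half-discriminant: its monomials either contain an off-diagonal variable or are
the single monomial `2^(n-1) ∏ A_ii`.  Consequence: an element killing the polar matrix kills the
half-discriminant.
-/

set_option autoImplicit false
universe u

namespace Groth.Agent.Lib.Helper14.HalfDisc

open QuadGrp MvPolynomial

variable {n : ℕ}

/-- the exponent vector of `∏ A_ii` -/
noncomputable def d₀ (n : ℕ) : Sym2 (Fin n) →₀ ℕ := ∑ i : Fin n, Finsupp.single (Sym2.mk i i) 1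

theorem prod_diag_eq : (∏ i : Fin n, (2 * X (Sym2.mk i i) : MvPolynomial (Sym2 (Fin n)) ℤ)) =
    monomial (d₀ n) ((2 : ℤ) ^ n) := by
  rw [Finset.prod_mul_distrib, Finset.prod_const, Finset.card_univ, Fintype.card_fin]
  have : (∏ i : Fin n, (X (Sym2.mk i i) : MvPolynomial (Sym2 (Fin n)) ℤ)) = monomial (d₀ n) 1 := by
    unfold d₀
    rw [MvPolynomial.monomial_sum_one]
    exact Finset.prod_congr rfl fun i _ => rfl
  rw [this]
  have h2 : (2 : MvPolynomial (Sym2 (Fin n)) ℤ) ^ n = C ((2 : ℤ) ^ n) := by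
    rw [map_pow]; rfl
  rw [h2, C_mul_monomial, mul_one]

theorem coeff_discUniv_of_diag (d : Sym2 (Fin n) →₀ ℕ) (hd : ∀ s ∈ d.support, s.IsDiag) :
    coeff d (discUniv n) = coeff d (monomial (d₀ n) ((2 : ℤ) ^ n)) := by
  classical
  rw [← prod_diag_eq, discUniv, Matrix.det_apply, coeff_sum, Finset.sum_eq_single 1]
  · simp only [Equiv.Perm.sign_one, one_smul, Equiv.Perm.coe_one, id_eq]
    congr 1
    refine Finset.prod_congr rfl fun i _ => ?_
    simp [univPolarMat]
  · intro σ _ hσ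
    obtain ⟨i₁, hi₁⟩ : ∃ i, σ i ≠ i := by
      by_contra hcon
      push Not at hcon
      exact hσ (Equiv.ext hcon)
    rw [Units.smul_def, coeff_smul]
    have hprod : (∏ i, univPolarMat n (σ i) i) =
        X (Sym2.mk (σ i₁) i₁) * ∏ i ∈ Finset.univ.erase i₁, univPolarMat n (σ i) i := by
      rw [← Finset.mul_prod_erase _ _ (Finset.mem_univ i₁)]
      congr 1
      simp [univPolarMat, hi₁]
    rw [hprod, coeff_X_mul', if_neg, smul_zero]
    intro hmem
    have := hd _ hmem
    rw [Sym2.mk_isDiag_iff] at this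
    exact hi₁ this
  · intro h; exact absurd (Finset.mem_univ _) h

variable {R : Type u} [CommRing R]

theorem d₀_apply_diag (i : Fin n) : d₀ n (Sym2.mk i i) ≠ 0 := by
  classical
  unfold d₀
  rw [Finsupp.finsetSum_apply]
  have : (Finsupp.single (Sym2.mk i i) 1 : Sym2 (Fin n) →₀ ℕ) (Sym2.mk i i) ≤
      ∑ j : Fin n, (Finsupp.single (Sym2.mk j j) 1 : Sym2 (Fin n) →₀ ℕ) (Sym2.mk i i) :=
    Finset.single_le_sum (f := fun j => (Finsupp.single (Sym2.mk j j) 1 : Sym2 (Fin n) →₀ ℕ)
      (Sym2.mk i i)) (fun _ _ => Nat.zero_le _) (Finset.mem_univ i)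
  rw [Finsupp.single_eq_same] at this
  omega

/-- An element killing all entries of the polar matrix kills the half-discriminant (`n ≥ 2`). -/
theorem mul_eval₂_halfDiscUniv_eq_zero (hn : 2 ≤ n) (a : R) (c : Sym2 (Fin n) → R)
    (hoff : ∀ i j : Fin n, i ≠ j → a * c (Sym2.mk i j) = 0)
    (hdiag : ∀ i : Fin n, a * (2 * c (Sym2.mk i i)) = 0) :
    a * eval₂ (Int.castRingHom R) c (halfDiscUniv n) = 0 := by
  classical
  rw [eval₂_eq, Finset.mul_sum]
  apply Finset.sum_eq_zero
  intro d _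
  by_cases hd : ∀ s ∈ d.support, s.IsDiag
  · rw [coeff_halfDiscUniv, coeff_discUniv_of_diag d hd, coeff_monomial]
    by_cases hdd : d₀ n = d
    · rw [if_pos hdd]
      subst hdd
      let i₀ : Fin n := ⟨0, by omega⟩
      have hmem : Sym2.mk i₀ i₀ ∈ (d₀ n).support := Finsupp.mem_support_iff.2 (d₀_apply_diag i₀)
      rw [← Finset.mul_prod_erase _ _ hmem]
      obtain ⟨k, hk⟩ := Nat.exists_eq_succ_of_ne_zero (d₀_apply_diag i₀)
      obtain ⟨m, hm⟩ : ∃ m, n = m + 2 := ⟨n - 2, by omega⟩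
      rw [hk, pow_succ']
      have h2 : ((2 : ℤ) ^ n / 2) = 2 * 2 ^ m := by
        rw [hm, pow_succ, pow_succ]
        omega
      rw [h2]
      simp only [eq_intCast]
      push_cast
      linear_combination ((2 : R) ^ m * c (Sym2.mk i₀ i₀) ^ k *
        ∏ x ∈ (d₀ n).support.erase (Sym2.mk i₀ i₀), c x ^ (d₀ n) x) * hdiag i₀
    · rw [if_neg hdd]
      simp
  · push Not at hd
    obtain ⟨s, hs, hsd⟩ := hd
    rw [← Finset.mul_prod_erase _ _ hs]
    obtain ⟨k, hk⟩ := Nat.exists_eq_succ_of_ne_zero (Finsupp.mem_support_iff.1 hs)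
    rw [hk, pow_succ']
    induction s using Sym2.ind with
    | _ i j =>
      have hij : i ≠ j := by
        intro h
        exact hsd (Sym2.mk_isDiag_iff.2 h)
      linear_combination ((Int.castRingHom R) (coeff d (halfDiscUniv n)) * c (Sym2.mk i j) ^ k *
        ∏ x ∈ d.support.erase (Sym2.mk i j), c x ^ d x) * hoff i j hij

end Groth.Agent.Lib.Helper14.HalfDisc
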