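import Groth.Prelude.Def_QuadGrp
import Mathlib

/-!
For odd `n`, twice the universal half-discriminant is the universal discriminant; and the
half-discriminant is multiplied by `det g ^ 2` under a linear substitution.
-/

set_option autoImplicit false
universe u

namespace Groth.Agent.Lib.Helper14.HalfDiscOdd

open QuadGrp MvPolynomial Matrix

section CharTwo

variable {S : Type*} [CommRing S] [CharP S 2] {n : ℕ}

/-- A symmetric matrix of odd size with zero diagonal over a ring of characteristic two has zero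
determinant. -/
theorem det_eq_zero_of_symm_zero_diag (hn : Odd n) (M : Matrix (Fin n) (Fin n) S)
    (hsymm : ∀ i j, M i j = M j i) (hdiag : ∀ i, M i i = 0) : M.det = 0 := by
  classical
  rw [Matrix.det_apply]
  refine Finset.sum_involution (fun σ _ => σ⁻¹) ?_ ?_ (fun _ _ => Finset.mem_univ _)
    (fun σ _ => inv_inv σ)
  · intro σ _
    have hprod : (∏ i, M (σ⁻¹ i) i) = ∏ i, M (σ i) i := by
      rw [← Equiv.prod_comp σ (fun i => M (σ⁻¹ i) i)]
      refine Finset.prod_congr rfl fun i _ => ?_
      rw [Equiv.Perm.inv_def, Equiv.symm_apply_apply, hsymm]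
    rw [Equiv.Perm.sign_inv, hprod]
    exact CharTwo.add_self_eq_zero _
  · intro σ _ hne hinv
    apply hne
    have hσ2 : σ ^ 2 = 1 := by
      rw [pow_two]
      nth_rewrite 1 [← hinv]
      exact inv_mul_cancel σ
    have h2 := Equiv.Perm.two_dvd_card_support hσ2
    obtain ⟨i, hi⟩ : ∃ i, σ i = i := by
      by_contra hcon
      push Not at hcon
      have : σ.support = Finset.univ := by
        ext i
        simp [Equiv.Perm.mem_support, hcon i]
      rw [this, Finset.card_univ, Fintype.card_fin] at h2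
      exact (Nat.not_even_iff_odd.2 hn) (even_iff_two_dvd.2 h2)
    have : (∏ j, M (σ j) j) = 0 := Finset.prod_eq_zero (Finset.mem_univ i) (by rw [hi, hdiag])
    rw [this, smul_zero]

end CharTwo

section Even

variable {n : ℕ}

theorem two_dvd_coeff_discUniv (hn : Odd n) (m : Sym2 (Fin n) →₀ ℕ) :
    (2 : ℤ) ∣ coeff m (discUniv n) := by
  have hchar : CharP (MvPolynomial (Sym2 (Fin n)) (ZMod 2)) 2 := inferInstance
  have h0 : MvPolynomial.map (Int.castRingHom (ZMod 2)) (discUniv n) = 0 := by
    rw [discUniv, RingHom.map_det]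
    apply det_eq_zero_of_symm_zero_diag hn
    · intro i j
      simp only [RingHom.mapMatrix_apply, Matrix.map_apply, univPolarMat, Matrix.of_apply]
      by_cases hij : i = j
      · subst hij; rfl
      · rw [if_neg hij, if_neg (fun h => hij h.symm), Sym2.eq_swap]
    · intro i
      simp only [RingHom.mapMatrix_apply, Matrix.map_apply, univPolarMat, Matrix.of_apply, if_true,
        map_mul, map_ofNat]
      rw [show (2 : MvPolynomial (Sym2 (Fin n)) (ZMod 2)) = 0 from CharTwo.two_eq_zero, zero_mul]
  have := congrArg (coeff m) h0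
  rw [coeff_map, coeff_zero] at this
  exact (ZMod.intCast_zmod_eq_zero_iff_dvd _ 2).1 this

theorem two_mul_halfDiscUniv (hn : Odd n) : (2 : MvPolynomial (Sym2 (Fin n)) ℤ) * halfDiscUniv n =
    discUniv n := by
  ext m
  rw [show (2 : MvPolynomial (Sym2 (Fin n)) ℤ) = C 2 from rfl, coeff_C_mul, coeff_halfDiscUniv]
  exact Int.mul_ediv_cancel' (two_dvd_coeff_discUniv hn m)

end Even

section Univ

variable {R : Type*} [CommRing R] {n : ℕ}

/-- the polar matrix of the quadratic form with coefficients `x` -/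
def pm (x : Sym2 (Fin n) → R) : Matrix (Fin n) (Fin n) R :=
  Matrix.of fun i j => if i = j then 2 * x (Sym2.mk i j) else x (Sym2.mk i j)

/-- the triangular matrix of the quadratic form with coefficients `x` -/
def tm (x : Sym2 (Fin n) → R) : Matrix (Fin n) (Fin n) R :=
  Matrix.of fun i j => if i = j then x (Sym2.mk i j) else if i < j then x (Sym2.mk i j) else 0

theorem pm_eq (x : Sym2 (Fin n) → R) : pm x = tm x + (tm x)ᵀ := by
  ext i j
  simp only [pm, tm, Matrix.of_apply, Matrix.add_apply, Matrix.transpose_apply]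
  rcases lt_trichotomy i j with h | h | h
  · rw [if_neg h.ne, if_neg h.ne, if_pos h, if_neg h.ne', if_neg (not_lt.2 h.le), add_zero]
  · subst h
    simp [two_mul]
  · rw [if_neg h.ne', if_neg h.ne', if_neg (not_lt.2 h.le), if_neg h.ne, if_pos h, zero_add,
      Sym2.eq_swap]

theorem pm_symm (x : Sym2 (Fin n) → R) : (pm x)ᵀ = pm x := by
  rw [pm_eq, Matrix.transpose_add, Matrix.transpose_transpose, add_comm]

/-- the half-discriminant as a function of the coefficients -/
noncomputable def hdv (x : Sym2 (Fin n) → R) : R :=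
  eval₂ (Int.castRingHom R) x (halfDiscUniv n)

theorem eval₂_discUniv (x : Sym2 (Fin n) → R) :
    eval₂ (Int.castRingHom R) x (discUniv n) = (pm x).det := by
  have : eval₂ (Int.castRingHom R) x (discUniv n) =
      (eval₂Hom (Int.castRingHom R) x) (discUniv n) := rfl
  rw [this, discUniv, RingHom.map_det]
  congr 1
  ext i j
  simp only [RingHom.mapMatrix_apply, Matrix.map_apply, univPolarMat, Matrix.of_apply, pm]
  by_cases hij : i = j
  · rw [if_pos hij, if_pos hij]
    simp
  · rw [if_neg hij, if_neg hij]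
    simp

theorem two_mul_hdv (hn : Odd n) (x : Sym2 (Fin n) → R) : 2 * hdv x = (pm x).det := by
  rw [← eval₂_discUniv, ← two_mul_halfDiscUniv hn, hdv, eval₂_mul]
  congr 1
  have : (2 : MvPolynomial (Sym2 (Fin n)) ℤ) = C 2 := rfl
  rw [this, eval₂_C]
  simp

/-- coefficients of `Q ∘ G` -/
def newc (x : Sym2 (Fin n) → R) (G : Matrix (Fin n) (Fin n) R) : Sym2 (Fin n) → R :=
  Sym2.lift ⟨fun i j => if i = j then (Gᵀ * tm x * G) i j else (Gᵀ * pm x * G) i j, fun i j => by
    by_cases hij : i = j
    · subst hij; rfl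
    · dsimp only
      rw [if_neg hij, if_neg (fun h => hij h.symm)]
      have : (Gᵀ * pm x * G)ᵀ = Gᵀ * pm x * G := by
        rw [Matrix.transpose_mul, Matrix.transpose_mul, Matrix.transpose_transpose, pm_symm,
          Matrix.mul_assoc]
      conv_lhs => rw [← this]
      rfl⟩

theorem newc_mk (x : Sym2 (Fin n) → R) (G : Matrix (Fin n) (Fin n) R) (i j : Fin n) :
    newc x G (Sym2.mk i j) = if i = j then (Gᵀ * tm x * G) i j else (Gᵀ * pm x * G) i j := rfl

theorem pm_newc (x : Sym2 (Fin n) → R) (G : Matrix (Fin n) (Fin n) R) :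
    pm (newc x G) = Gᵀ * pm x * G := by
  ext i j
  rw [show pm (newc x G) i j = if i = j then 2 * newc x G (Sym2.mk i j) else newc x G (Sym2.mk i j)
    from rfl, newc_mk]
  by_cases hij : i = j
  · subst hij
    rw [if_pos rfl, if_pos rfl]
    have h1 : (Gᵀ * (tm x)ᵀ * G) i i = (Gᵀ * tm x * G) i i := by
      have : Gᵀ * (tm x)ᵀ * G = (Gᵀ * tm x * G)ᵀ := by
        rw [Matrix.transpose_mul, Matrix.transpose_mul, Matrix.transpose_transpose,
          Matrix.mul_assoc]
      rw [this, Matrix.transpose_apply]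
    have h2 : (Gᵀ * (tm x + (tm x)ᵀ) * G) i i = (Gᵀ * tm x * G) i i + (Gᵀ * (tm x)ᵀ * G) i i := by
      rw [Matrix.mul_add, Matrix.add_mul, Matrix.add_apply]
    rw [pm_eq x, h2, h1, two_mul]
  · rw [if_neg hij, if_neg hij]

theorem hdv_newc_of_cancel (hn : Odd n) (h2 : ∀ a b : R, 2 * a = 2 * b → a = b)
    (x : Sym2 (Fin n) → R) (G : Matrix (Fin n) (Fin n) R) :
    hdv (newc x G) = G.det ^ 2 * hdv x := by
  apply h2
  rw [two_mul_hdv hn, pm_newc, Matrix.det_mul, Matrix.det_mul, Matrix.det_transpose,
    ← two_mul_hdv hn x]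
  ring

section Nat

variable {S : Type*} [CommRing S] (φ : S →+* R)

theorem map_hdv (x : Sym2 (Fin n) → S) : φ (hdv x) = hdv (fun s => φ (x s)) := by
  unfold hdv
  rw [← MvPolynomial.coe_eval₂Hom, ← RingHom.comp_apply, MvPolynomial.comp_eval₂Hom]
  have : φ.comp (Int.castRingHom S) = Int.castRingHom R := RingHom.ext_int _ _
  rw [this]
  rfl

theorem map_tm (x : Sym2 (Fin n) → S) : (tm x).map φ = tm (fun s => φ (x s)) := by
  ext i j
  simp only [tm, Matrix.map_apply, Matrix.of_apply]
  split_ifs <;> simp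

theorem map_pm (x : Sym2 (Fin n) → S) : (pm x).map φ = pm (fun s => φ (x s)) := by
  ext i j
  simp only [pm, Matrix.map_apply, Matrix.of_apply]
  split_ifs
  · rw [map_mul, map_ofNat]
  · rfl

theorem map_newc (x : Sym2 (Fin n) → S) (G : Matrix (Fin n) (Fin n) S) (s : Sym2 (Fin n)) :
    φ (newc x G s) = newc (fun s => φ (x s)) (G.map φ) s := by
  induction s using Sym2.ind with
  | _ i j =>
    rw [newc_mk, newc_mk, ← map_tm, ← map_pm, ← Matrix.transpose_map, ← Matrix.map_mul,
      ← Matrix.map_mul, ← Matrix.map_mul, ← Matrix.map_mul]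
    split_ifs <;> rfl

end Nat

/-- The half-discriminant of `Q ∘ G` is `det G ^ 2` times that of `Q` (odd rank, any ring). -/
theorem hdv_newc (hn : Odd n) (x : Sym2 (Fin n) → R) (G : Matrix (Fin n) (Fin n) R) :
    hdv (newc x G) = G.det ^ 2 * hdv x := by
  let U := MvPolynomial (Sym2 (Fin n) ⊕ Fin n × Fin n) ℤ
  let xU : Sym2 (Fin n) → U := fun s => X (Sum.inl s)
  let GU : Matrix (Fin n) (Fin n) U := Matrix.of fun i j => X (Sum.inr (i, j))
  obtain ⟨φ, hφx, hφG⟩ : ∃ φ : U →+* R, (∀ s, φ (X (Sum.inl s)) = x s) ∧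
      (∀ i j, φ (X (Sum.inr (i, j))) = G i j) :=
    ⟨eval₂Hom (Int.castRingHom R) (Sum.elim x (fun p => G p.1 p.2)),
      fun s => by rw [MvPolynomial.coe_eval₂Hom, eval₂_X]; rfl,
      fun i j => by rw [MvPolynomial.coe_eval₂Hom, eval₂_X]; rfl⟩
  have hx : (fun s => φ (xU s)) = x := funext fun s => hφx s
  have hG : GU.map φ = G := by
    ext i j
    exact hφG i j
  have hU : hdv (newc xU GU) = GU.det ^ 2 * hdv xU := by
    apply hdv_newc_of_cancel hn
    intro a b hab
    exact mul_left_cancel₀ (two_ne_zero) hab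
  have := congrArg φ hU
  rw [map_hdv, map_mul, map_pow, RingHom.map_det, map_hdv] at this
  simp only [map_newc, hx] at this
  rw [RingHom.mapMatrix_apply, hG] at this
  exact this

end Univ

section Link

variable {R : Type*} [CommRing R] {M : Type*} [AddCommGroup M] [Module R M] {n : ℕ}

theorem bilin_apply_comp (T : LinearMap.BilinMap R M R) (b : Module.Basis (Fin n) R M)
    (g : M →ₗ[R] M) (i j : Fin n) :
    T (g (b i)) (g (b j)) =
      ((LinearMap.toMatrix b b g)ᵀ * Matrix.of (fun k l => T (b k) (b l)) *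
        LinearMap.toMatrix b b g) i j := by
  have hg : ∀ i, g (b i) = ∑ k, LinearMap.toMatrix b b g k i • b k := by
    intro i
    conv_lhs => rw [← b.sum_repr (g (b i))]
    refine Finset.sum_congr rfl fun k _ => ?_
    rw [LinearMap.toMatrix_apply]
  rw [hg i, hg j, LinearMap.map_sum₂, Matrix.mul_apply]
  simp only [map_sum, Matrix.mul_apply, Finset.sum_mul, Matrix.transpose_apply, Matrix.of_apply,
    LinearMap.map_smul₂, map_smul, smul_eq_mul, LinearMap.smul_apply]
  rw [Finset.sum_comm]
  refine Finset.sum_congr rfl fun l _ => ?_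
  refine Finset.sum_congr rfl fun k _ => ?_
  ring

theorem coeffs_comp (b : Module.Basis (Fin n) R M) (Q : QuadraticForm R M) (g : M →ₗ[R] M) :
    coeffs b (LinearEquiv.refl R R) (Q.comp g) =
      newc (coeffs b (LinearEquiv.refl R R) Q) (LinearMap.toMatrix b b g) := by
  funext s
  induction s using Sym2.ind with
  | _ i j =>
    rw [coeffs_mk, newc_mk]
    by_cases hij : i = j
    · subst hij
      rw [if_pos rfl, if_pos rfl, LinearEquiv.refl_apply, QuadraticMap.comp_apply]
      have h1 : Q (g (b i)) = (Q.toBilin b) (g (b i)) (g (b i)) := by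
        conv_lhs => rw [← QuadraticMap.toQuadraticMap_toBilin Q b]
        rfl
      rw [h1, bilin_apply_comp]
      have hmat : Matrix.of (fun k l => (Q.toBilin b) (b k) (b l)) =
          tm (coeffs b (LinearEquiv.refl R R) Q) := by
        ext k l
        rw [Matrix.of_apply, QuadraticMap.toBilin_apply]
        simp only [tm, Matrix.of_apply, coeffs_mk, LinearEquiv.refl_apply]
        by_cases hkl : k = l
        · rw [if_pos hkl, if_pos hkl, if_pos hkl]
        · rw [if_neg hkl, if_neg hkl, if_neg hkl]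
      rw [hmat]
    · rw [if_neg hij, if_neg hij, LinearEquiv.refl_apply]
      have h1 : QuadraticMap.polar (Q.comp g) (b i) (b j) =
          (QuadraticMap.polarBilin Q) (g (b i)) (g (b j)) := by
        simp [QuadraticMap.polar, QuadraticMap.comp_apply]
      rw [h1, bilin_apply_comp]
      have hmat : Matrix.of (fun k l => (QuadraticMap.polarBilin Q) (b k) (b l)) =
          pm (coeffs b (LinearEquiv.refl R R) Q) := by
        ext k l
        simp only [pm, Matrix.of_apply, coeffs_mk, LinearEquiv.refl_apply,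
          QuadraticMap.polarBilin_apply_apply]
        by_cases hkl : k = l
        · subst hkl
          rw [if_pos rfl, if_pos rfl, QuadraticMap.polar_self, two_smul, two_mul]
        · rw [if_neg hkl, if_neg hkl]
      rw [hmat]

/-- `halfDisc (Q ∘ g) = det g ^ 2 * halfDisc Q` in odd rank. -/
theorem halfDisc_comp (hn : Odd n) (b : Module.Basis (Fin n) R M) (Q : QuadraticForm R M)
    (g : M →ₗ[R] M) :
    halfDisc b (LinearEquiv.refl R R) (Q.comp g) =
      LinearMap.det g ^ 2 * halfDisc b (LinearEquiv.refl R R) Q := by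
  have h1 : halfDisc b (LinearEquiv.refl R R) (Q.comp g) =
      hdv (coeffs b (LinearEquiv.refl R R) (Q.comp g)) := rfl
  have h2 : halfDisc b (LinearEquiv.refl R R) Q = hdv (coeffs b (LinearEquiv.refl R R) Q) := rfl
  rw [h1, h2, coeffs_comp, hdv_newc hn, LinearMap.det_toMatrix]

end Link

end Groth.Agent.Lib.Helper14.HalfDiscOdd
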