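import Mathlib

/-!
# Iterated equalizer subalgebras (finite epimorphisms, local version)
-/

open TensorProduct

namespace Groth.Agent.Lib.Helper14.IterEq

section Key

variable {A : Type*} [CommRing A]

/-- A finite algebra which is "an epimorphism after localizing at `p`" is, after localizing at `p`,
a quotient of `A`. -/
theorem exists_smul_eq_algebraMap (C : Type*) [CommRing C] [Algebra A C] [Module.Finite A C]
    (p : Ideal A) [p.IsPrime]
    (h : ∀ b : C, ∃ s ∈ p.primeCompl, s • ((b ⊗ₜ[A] (1 : C)) - (1 : C) ⊗ₜ[A] b) = 0) :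
    ∀ b : C, ∃ s ∈ p.primeCompl, ∃ a : A, s • b = algebraMap A C a := by
  classical
  let Ap := Localization.AtPrime p
  let C' := Ap ⊗[A] C
  let ψ : C ⊗[A] C →ₗ[A] C' ⊗[Ap] C' :=
    TensorProduct.lift (LinearMap.mk₂ A
      (fun x y => (((1 : Ap) ⊗ₜ[A] x : C') ⊗ₜ[Ap] ((1 : Ap) ⊗ₜ[A] y : C')))
      (fun x x' y => by simp only [tmul_add, add_tmul])
      (fun a x y => by
        show (((1 : Ap) ⊗ₜ[A] (a • x) : C') ⊗ₜ[Ap] ((1 : Ap) ⊗ₜ[A] y : C')) =
          a • (((1 : Ap) ⊗ₜ[A] x : C') ⊗ₜ[Ap] ((1 : Ap) ⊗ₜ[A] y : C'))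
        rw [tmul_smul, ← smul_tmul'])
      (fun x y y' => by simp only [tmul_add])
      (fun a x y => by simp only [tmul_smul]))
  have hψ : ∀ x y, ψ (x ⊗ₜ y) = (((1 : Ap) ⊗ₜ[A] x : C') ⊗ₜ[Ap] ((1 : Ap) ⊗ₜ[A] y : C')) :=
    fun x y => by simp [ψ]
  have hepi : Algebra.IsEpi Ap C' := by
    rw [Algebra.isEpi_iff_forall_one_tmul_eq]
    intro x
    induction x using TensorProduct.induction_on with
    | zero => simp
    | add x y hx hy => rw [tmul_add, add_tmul, hx, hy]
    | tmul r c =>
      have e1 : (r ⊗ₜ[A] c : C') = r • ((1 : Ap) ⊗ₜ[A] c : C') := by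
        rw [TensorProduct.smul_tmul', smul_eq_mul, mul_one]
      have key : ∀ (r : Ap) (y : C'), (1 : C') ⊗ₜ[Ap] y = y ⊗ₜ[Ap] (1 : C') →
          (1 : C') ⊗ₜ[Ap] (r • y) = (r • y) ⊗ₜ[Ap] (1 : C') :=
        fun r y hy => by rw [tmul_smul, ← smul_tmul', hy]
      rw [e1]
      apply key
      obtain ⟨s, hs, hz⟩ := h c
      have h1 : ψ (s • ((c ⊗ₜ[A] (1 : C)) - (1 : C) ⊗ₜ[A] c)) = 0 := by rw [hz, map_zero]
      rw [map_smul, map_sub, hψ, hψ] at h1
      have hu : IsUnit (algebraMap A Ap s) := IsLocalization.map_units Ap ⟨s, hs⟩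
      rw [← algebraMap_smul Ap s, hu.smul_eq_zero, sub_eq_zero] at h1
      have h11 : ((1 : Ap) ⊗ₜ[A] (1 : C) : C') = 1 := rfl
      rw [h11] at h1
      exact h1.symm
  have hsurj : Function.Surjective (algebraMap Ap C') :=
    Algebra.isEpi_iff_surjective_algebraMap_of_finite.mp hepi
  intro b
  obtain ⟨r, hr⟩ := hsurj ((1 : Ap) ⊗ₜ[A] b)
  obtain ⟨a, s, rfl⟩ := IsLocalization.exists_mk'_eq p.primeCompl r
  rw [Algebra.TensorProduct.algebraMap_apply] at hr
  have h2 : (TensorProduct.mk A Ap C 1) (s.1 • b - algebraMap A C a) = 0 := by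
    rw [map_sub, map_smul, sub_eq_zero]
    simp only [TensorProduct.mk_apply]
    rw [← hr, Algebra.algebraMap_self, RingHom.id_apply, smul_tmul', Algebra.smul_def,
      IsLocalization.mk'_spec', Algebra.algebraMap_eq_smul_one a, smul_tmul,
      ← Algebra.algebraMap_eq_smul_one]
  obtain ⟨t, ht⟩ := (IsLocalizedModule.eq_zero_iff p.primeCompl (TensorProduct.mk A Ap C 1)).mp h2
  refine ⟨t.1 * s.1, p.primeCompl.mul_mem t.2 s.2, t.1 * a, ?_⟩
  rw [Submonoid.smul_def, smul_sub, sub_eq_zero] at ht
  rw [mul_smul, ht, map_mul, Algebra.smul_def]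

end Key

section Artinian
universe v
theorem isArtinian_of_pow_smul_eq_bot {R : Type*} [CommRing R] [IsLocalRing R] [IsNoetherianRing R]
    (k : ℕ) : ∀ (P : Type v) [AddCommGroup P] [Module R P] [Module.Finite R P],
    (IsLocalRing.maximalIdeal R) ^ k • (⊤ : Submodule R P) = ⊥ → IsArtinian R P := by
  induction k with
  | zero =>
    intro P _ _ _ h
    rw [pow_zero, Ideal.one_eq_top, Submodule.top_smul] at h
    have : Subsingleton P := by
      rw [← Submodule.subsingleton_iff R]
      exact subsingleton_of_bot_eq_top h.symm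
    infer_instance
  | succ k ih =>
    intro P _ _ _ h
    let N : Submodule R P := (IsLocalRing.maximalIdeal R) • ⊤
    have hN : IsArtinian R N := by
      apply ih N
      rw [eq_bot_iff, Submodule.smul_le]
      intro r hr n _
      rw [Submodule.mem_bot]
      apply Subtype.ext
      have h1 : r • (n : P) ∈ (IsLocalRing.maximalIdeal R) ^ (k+1) • (⊤ : Submodule R P) := by
        rw [pow_succ, mul_smul]
        exact Submodule.smul_mem_smul hr n.2
      rw [h] at h1
      simpa using h1
    have hQ : IsArtinian R (P ⧸ N) := by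
      have h1 : IsArtinian (R ⧸ IsLocalRing.maximalIdeal R) (P ⧸ N) := by
        have : IsArtinianRing (R ⧸ IsLocalRing.maximalIdeal R) :=
          inferInstanceAs (IsArtinianRing (IsLocalRing.ResidueField R))
        have : Module.Finite (R ⧸ IsLocalRing.maximalIdeal R) (P ⧸ N) :=
          Module.Finite.of_restrictScalars_finite R _ _
        infer_instance
      exact isArtinian_of_surjective_algebraMap (R := R ⧸ IsLocalRing.maximalIdeal R)
        Ideal.Quotient.mk_surjective
    exact isArtinian_of_range_eq_ker N.subtype N.mkQ (by simp)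

end Artinian

section Main

universe u

variable (A B : Type u) [CommRing A] [CommRing B] [Algebra A B]

theorem exists_eq_bot [IsNoetherianRing A] [Module.Finite A B]
    (C : ℕ → Subalgebra A B)
    (hstep : ∀ (i : ℕ) (b : B), b ∈ C (i + 1) ↔ ∃ hb : b ∈ C i,
      ((⟨b, hb⟩ : C i) ⊗ₜ[A] (1 : C i) : C i ⊗[A] C i) = (1 : C i) ⊗ₜ[A] (⟨b, hb⟩ : C i)) :
    ∃ m : ℕ, C m = ⊥ := by
  classical
  have : IsNoetherian A B := isNoetherian_of_isNoetherianRing_of_finite A B
  have anti1 : ∀ i, C (i + 1) ≤ C i := fun i b hb => ((hstep i b).mp hb).1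
  have anti : Antitone C := antitone_nat_of_succ_le anti1
  let W : Submodule A B := Subalgebra.toSubmodule (⊥ : Subalgebra A B)
  have hW : ∀ b, b ∈ W ↔ ∃ a, algebraMap A B a = b := fun b => by
    show b ∈ Subalgebra.toSubmodule (⊥ : Subalgebra A B) ↔ _
    rw [Subalgebra.mem_toSubmodule, Algebra.mem_bot]; rfl
  have hWC : ∀ i b, b ∈ W → b ∈ C i := fun i b hb => by
    obtain ⟨a, rfl⟩ := (hW b).mp hb
    exact (C i).algebraMap_mem a
  let M : ℕ → Submodule A (B ⧸ W) := fun i => (Subalgebra.toSubmodule (C i)).map W.mkQ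
  have Manti : Antitone M := fun i j hij => Submodule.map_mono (fun x hx => anti hij hx)
  let ann : ℕ →o Ideal A :=
    ⟨fun i => (M i).annihilator, fun i j hij => Submodule.annihilator_mono (Manti hij)⟩
  obtain ⟨N, hN⟩ := monotone_stabilizes_iff_noetherian.mpr inferInstance ann
  by_cases htop : (M N).annihilator = ⊤
  · refine ⟨N, eq_bot_iff.mpr fun b hb => ?_⟩
    rw [Submodule.annihilator_eq_top_iff] at htop
    have h1 : W.mkQ b ∈ M N := ⟨b, hb, rfl⟩
    rw [htop, Submodule.mem_bot, Submodule.mkQ_apply, Submodule.Quotient.mk_eq_zero] at h1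
    exact h1
  · exfalso
    obtain ⟨⟨p, hp⟩⟩ := Ideal.nonempty_minimalPrimes htop
    have : p.IsPrime := hp.1.1
    have hap : (M N).annihilator ≤ p := hp.1.2
    let Ap := Localization.AtPrime p
    let f := LocalizedModule.mkLinearMap p.primeCompl (B ⧸ W)
    let L : ℕ → Submodule Ap (LocalizedModule p.primeCompl (B ⧸ W)) :=
      fun i => (M i).localized' Ap p.primeCompl f
    have Lanti : Antitone L := fun i j hij =>
      (Submodule.localized'gi Ap p.primeCompl f).gc.monotone_l (Manti hij)
    -- Claim A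
    have claimA : ∀ i, N ≤ i → L i = L (i + 1) → False := by
      intro i hi hL
      have ha : ∀ b ∈ C i, ∃ s ∈ p.primeCompl, s • b ∈ C (i + 1) := by
        intro b hb
        have h1 : f (W.mkQ b) ∈ L i :=
          ⟨W.mkQ b, ⟨b, hb, rfl⟩, 1, IsLocalizedModule.mk'_one p.primeCompl f _⟩
        rw [hL] at h1
        obtain ⟨m, ⟨c, hc, rfl⟩, s, hs⟩ := h1
        rw [IsLocalizedModule.mk'_eq_iff, Submonoid.smul_def, ← map_smul] at hs
        obtain ⟨t, ht⟩ := IsLocalizedModule.exists_of_eq (S := p.primeCompl) hs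
        refine ⟨t.1 * s.1, p.primeCompl.mul_mem t.2 s.2, ?_⟩
        have h2 : (t.1 * s.1) • b - t.1 • c ∈ W := by
          rw [← Submodule.Quotient.mk_eq_zero, Submodule.Quotient.mk_sub, sub_eq_zero]
          simp only [Submonoid.smul_def, Submodule.mkQ_apply] at ht
          rw [mul_smul, Submodule.Quotient.mk_smul, Submodule.Quotient.mk_smul, ← ht,
            Submodule.Quotient.mk_smul]
        have h3 := (C (i+1)).add_mem (hWC (i+1) _ h2) ((C (i+1)).smul_mem hc t.1)
        simpa using h3
      have : Module.Finite A (C i) :=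
        Module.Finite.of_injective (C i).val.toLinearMap Subtype.val_injective
      have hb : ∀ b : C i, ∃ s ∈ p.primeCompl, ∃ a : A, s • b = algebraMap A (C i) a := by
        apply exists_smul_eq_algebraMap (C i) p
        intro b
        obtain ⟨s, hs, hsb⟩ := ha b.1 b.2
        obtain ⟨hb', he⟩ := (hstep i _).mp hsb
        refine ⟨s, hs, ?_⟩
        have e : (⟨s • b.1, hb'⟩ : C i) = s • b := Subtype.ext rfl
        rw [e] at he
        rw [smul_sub, smul_tmul', ← tmul_smul, he, sub_self]
      have hc : (⟨p, inferInstance⟩ : PrimeSpectrum A) ∉ Module.support A (M i) := by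
        rw [Module.notMem_support_iff']
        rintro ⟨x, b, hb1, rfl⟩
        obtain ⟨s, hs, a, hsa⟩ := hb ⟨b, hb1⟩
        refine ⟨s, hs, ?_⟩
        apply Subtype.ext
        show s • W.mkQ b = 0
        rw [← map_smul, Submodule.mkQ_apply, Submodule.Quotient.mk_eq_zero, hW]
        exact ⟨a, by simpa using (congrArg Subtype.val hsa).symm⟩
      have : Module.Finite A (M i) := Module.IsNoetherian.finite A _
      rw [Module.mem_support_iff_of_finite] at hc
      apply hc
      have : (M i).annihilator = (M N).annihilator := (hN i hi).symm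
      show (M i).annihilator ≤ p
      rw [this]; exact hap
    -- Claim B
    have : Module.Finite Ap (L N) := by
      rw [Module.Finite.iff_fg]
      obtain ⟨T, hT⟩ : (M N).FG := IsNoetherian.noetherian _
      show ((M N).localized' Ap p.primeCompl f).FG
      rw [← hT, Submodule.localized'_span]
      exact ⟨T.image f, by simp⟩
    have hrad : (((M N).annihilator).map (algebraMap A Ap)).radical = p.map (algebraMap A Ap) :=
      IsLocalization.AtPrime.radical_map_of_mem_minimalPrimes (A := Ap) p _ hp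
    rw [Localization.AtPrime.map_eq_maximalIdeal] at hrad
    obtain ⟨k, hk⟩ := Ideal.exists_pow_le_of_le_radical_of_fg hrad.ge
      (IsNoetherian.noetherian (IsLocalRing.maximalIdeal Ap))
    have hannL : ((M N).annihilator).map (algebraMap A Ap) ≤ Module.annihilator Ap (L N) := by
      rw [Ideal.map_le_iff_le_comap]
      intro r hr
      rw [Ideal.mem_comap, Module.mem_annihilator]
      rintro ⟨x, m, hm, s, rfl⟩
      apply Subtype.ext
      show algebraMap A Ap r • IsLocalizedModule.mk' f m s = 0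
      rw [algebraMap_smul, ← IsLocalizedModule.mk'_smul, Submodule.mem_annihilator.mp hr m hm,
        IsLocalizedModule.mk'_zero]
    have hart : IsArtinian Ap (L N) := by
      refine isArtinian_of_pow_smul_eq_bot (R := Ap) k (L N) ?_
      rw [eq_bot_iff, Submodule.smul_le]
      intro r hr n _
      rw [Submodule.mem_bot]
      exact Module.mem_annihilator.mp (hannL (hk hr)) n
    let g : ℕ →o (Submodule Ap (L N))ᵒᵈ :=
      ⟨fun j => OrderDual.toDual (Submodule.comap (L N).subtype (L (N + j))),
        fun i j hij => Submodule.comap_mono (Lanti (Nat.add_le_add_left hij N))⟩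
    obtain ⟨n, hn⟩ := IsArtinian.monotone_stabilizes g
    have hgn : Submodule.comap (L N).subtype (L (N + n)) =
        Submodule.comap (L N).subtype (L (N + (n + 1))) :=
      congrArg OrderDual.ofDual (hn (n + 1) (Nat.le_succ n))
    apply claimA (N + n) (Nat.le_add_right N n)
    apply le_antisymm _ (Lanti (Nat.le_succ _))
    intro x hx
    have hxN : x ∈ L N := Lanti (Nat.le_add_right N n) hx
    have h1 : (⟨x, hxN⟩ : L N) ∈ Submodule.comap (L N).subtype (L (N + n)) := hx
    rw [hgn] at h1
    exact h1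

end Main

end Groth.Agent.Lib.Helper14.IterEq
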