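import Mathlib

/-!
# `A[T_1..T_r]/(F_1..F_r)` with `F_i = T_i^{d_i} + Σ_{k<d_i} c_{ik} T_i^k`, `c_{ik}` in a square-zero (or nilpotent) ideal

* `ev0 J` : evaluation at `T = 0`, `A' → A/J` for `J ∋ c_{i0}`.
* `isNilpotent_of_ev0_eq_zero`, `isLocalRing`.
-/

set_option autoImplicit false
set_option linter.unusedSectionVars false
universe u

namespace Groth.Agent.Lib.Helper14.MonicQuot

open MvPolynomial

variable {A : Type u} [CommRing A] {r : ℕ} (d : Fin r → ℕ) (c : Fin r → ℕ → A)

/-- the polynomials `F_i` -/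
noncomputable def F (i : Fin r) : MvPolynomial (Fin r) A :=
  X i ^ d i + (Finset.range (d i)).sum fun k => C (c i k) * X i ^ k

/-- the quotient ring -/
abbrev Q : Type u := MvPolynomial (Fin r) A ⧸ Ideal.span (Set.range (F d c))

variable {d c}

theorem eval₂_F (J : Ideal A) (hd : ∀ i, 1 ≤ d i) (i : Fin r) :
    eval₂Hom (Ideal.Quotient.mk J) (fun _ : Fin r => (0 : A ⧸ J)) (F d c i) =
      Ideal.Quotient.mk J (c i 0) := by
  have hdi : d i ≠ 0 := Nat.one_le_iff_ne_zero.1 (hd i)
  rw [F, map_add, map_pow, map_sum]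
  simp only [map_mul, map_pow, coe_eval₂Hom, eval₂_X, eval₂_C, zero_pow hdi, zero_add]
  rw [Finset.sum_eq_single 0]
  · simp
  · intro k _ hk
    rw [zero_pow hk, mul_zero]
  · intro h0
    exact absurd (Finset.mem_range.2 (Nat.pos_of_ne_zero hdi)) h0

/-- evaluation at zero, modulo an ideal containing the constant terms -/
noncomputable def ev0 (J : Ideal A) (hd : ∀ i, 1 ≤ d i) (hJ : ∀ i, c i 0 ∈ J) : Q d c →+* A ⧸ J :=
  Ideal.Quotient.lift _ (eval₂Hom (Ideal.Quotient.mk J) (fun _ : Fin r => (0 : A ⧸ J))) (by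
    intro a ha
    induction ha using Submodule.span_induction with
    | mem x hx =>
      obtain ⟨i, rfl⟩ := hx
      change eval₂Hom (Ideal.Quotient.mk J) (fun _ : Fin r => (0 : A ⧸ J)) (F d c i) = 0
      rw [eval₂_F J hd i]
      exact Ideal.Quotient.eq_zero_iff_mem.2 (hJ i)
    | zero => simp
    | add x y _ _ hx hy => rw [map_add, hx, hy, add_zero]
    | smul a x _ hx => rw [smul_eq_mul, map_mul, hx, mul_zero])

theorem ev0_mk (J : Ideal A) (hd : ∀ i, 1 ≤ d i) (hJ : ∀ i, c i 0 ∈ J) (P : MvPolynomial (Fin r) A) :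
    ev0 J hd hJ (Ideal.Quotient.mk _ P) = Ideal.Quotient.mk J (constantCoeff P) := by
  rw [ev0, Ideal.Quotient.lift_mk]
  induction P using MvPolynomial.induction_on with
  | C a => simp
  | add p q hp hq => rw [map_add, hp, hq, map_add, map_add]
  | mul_X p i hp => simp

theorem ev0_algebraMap (J : Ideal A) (hd : ∀ i, 1 ≤ d i) (hJ : ∀ i, c i 0 ∈ J) (a : A) :
    ev0 J hd hJ (algebraMap A (Q d c) a) = Ideal.Quotient.mk J a := by
  have : algebraMap A (Q d c) a = Ideal.Quotient.mk _ (C a) := rfl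
  rw [this, ev0_mk, constantCoeff_C]

theorem sub_C_mem_span_X (P : MvPolynomial (Fin r) A) :
    P - C (constantCoeff P) ∈ Ideal.span (Set.range (X : Fin r → MvPolynomial (Fin r) A)) := by
  induction P using MvPolynomial.induction_on with
  | C a => simp
  | add p q hp hq =>
    have := Ideal.add_mem _ hp hq
    rw [map_add, map_add]
    convert this using 1
    ring
  | mul_X p i hp =>
    simp only [map_mul, constantCoeff_X, mul_zero, map_zero, sub_zero]
    exact Ideal.mul_mem_left _ _ (Ideal.subset_span ⟨i, rfl⟩)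

section Nilp

variable (I : Ideal A) (hI : I ^ 2 = ⊥) (hc : ∀ i k, c i k ∈ I)
include hI hc

theorem mk_C_sq (a : A) (ha : a ∈ I) :
    (Ideal.Quotient.mk (Ideal.span (Set.range (F d c))) (C a)) ^ 2 = 0 := by
  have h0 : a ^ 2 = 0 := by
    have : a ^ 2 ∈ I ^ 2 := Ideal.pow_mem_pow ha 2
    rwa [hI] at this
  rw [← map_pow, ← map_pow, h0, map_zero, map_zero]

theorem mk_X_pow (i : Fin r) :
    (Ideal.Quotient.mk (Ideal.span (Set.range (F d c))) (X i)) ^ d i =
      - (Finset.range (d i)).sum fun k =>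
        Ideal.Quotient.mk (Ideal.span (Set.range (F d c))) (C (c i k)) *
          (Ideal.Quotient.mk (Ideal.span (Set.range (F d c))) (X i)) ^ k := by
  have h : Ideal.Quotient.mk (Ideal.span (Set.range (F d c))) (F d c i) = 0 :=
    Ideal.Quotient.eq_zero_iff_mem.2 (Ideal.subset_span ⟨i, rfl⟩)
  rw [F, map_add, map_pow, map_sum] at h
  simp only [map_mul, map_pow] at h
  exact eq_neg_of_add_eq_zero_left h

theorem mk_X_nilp (i : Fin r) :
    IsNilpotent (Ideal.Quotient.mk (Ideal.span (Set.range (F d c))) (X i)) := by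
  refine ⟨d i * 2, ?_⟩
  have hneg : ∀ S : MvPolynomial (Fin r) A ⧸ Ideal.span (Set.range (F d c)), (-S) ^ 2 = S * S :=
    fun S => by ring
  rw [pow_mul, mk_X_pow I hI hc i, hneg, Finset.sum_mul_sum]
  apply Finset.sum_eq_zero
  intro k _
  apply Finset.sum_eq_zero
  intro l _
  have h0 : c i k * c i l = 0 := by
    have : c i k * c i l ∈ I ^ 2 := by
      rw [sq]; exact Ideal.mul_mem_mul (hc i k) (hc i l)
    rwa [hI] at this
  rw [mul_mul_mul_comm, ← map_mul, ← map_mul, h0, map_zero, map_zero, zero_mul]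

/-- elements whose constant coefficient lies in `I` are nilpotent in the quotient -/
theorem isNilpotent_mk (P : MvPolynomial (Fin r) A) (hP : constantCoeff P ∈ I) :
    IsNilpotent (Ideal.Quotient.mk (Ideal.span (Set.range (F d c))) P) := by
  have h1 : P = C (constantCoeff P) + (P - C (constantCoeff P)) := by ring
  rw [h1, map_add]
  have hn1 : IsNilpotent (Ideal.Quotient.mk (Ideal.span (Set.range (F d c)))
      (C (constantCoeff P))) := ⟨2, mk_C_sq I hI hc _ hP⟩
  have hn2 : IsNilpotent (Ideal.Quotient.mk (Ideal.span (Set.range (F d c)))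
      (P - C (constantCoeff P))) := by
    rw [← mem_nilradical]
    have hle : Ideal.span (Set.range (X : Fin r → MvPolynomial (Fin r) A)) ≤
        Ideal.comap (Ideal.Quotient.mk (Ideal.span (Set.range (F d c)))) (nilradical _) := by
      rw [Ideal.span_le]
      rintro _ ⟨i, rfl⟩
      exact mk_X_nilp I hI hc i
    exact hle (sub_C_mem_span_X P)
  exact (Commute.all _ _).isNilpotent_add hn1 hn2

end Nilp

section Local

open IsLocalRing

variable [IsLocalRing A] (hd : ∀ i, 1 ≤ d i) (hI : maximalIdeal A ^ 2 = ⊥)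
  (hc : ∀ i k, c i k ∈ maximalIdeal A)
include hd hI hc

theorem isUnit_of_ev0_ne_zero (x : Q d c)
    (hx : ev0 (maximalIdeal A) hd (fun i => hc i 0) x ≠ 0) : IsUnit x := by
  obtain ⟨P, rfl⟩ := Ideal.Quotient.mk_surjective x
  rw [ev0_mk] at hx
  have ha : IsUnit (constantCoeff P) := by
    by_contra hnu
    exact hx (Ideal.Quotient.eq_zero_iff_mem.2 ((mem_maximalIdeal _).2 hnu))
  have h1 : P = C (constantCoeff P) + (P - C (constantCoeff P)) := by ring
  rw [h1, map_add]
  have hn : IsNilpotent (Ideal.Quotient.mk (Ideal.span (Set.range (F d c)))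
      (P - C (constantCoeff P))) := by
    apply isNilpotent_mk (maximalIdeal A) hI hc
    simp
  have hu : IsUnit (Ideal.Quotient.mk (Ideal.span (Set.range (F d c)))
      (C (constantCoeff P))) := (ha.map C).map _
  exact hn.isUnit_add_left_of_commute hu (Commute.all _ _)

theorem nontrivial_Q : Nontrivial (Q d c) := by
  refine ⟨⟨0, 1, fun h => ?_⟩⟩
  have := congrArg (ev0 (maximalIdeal A) hd (fun i => hc i 0)) h
  rw [map_zero, map_one] at this
  exact zero_ne_one this

theorem isLocalRing_Q : IsLocalRing (Q d c) := by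
  haveI := nontrivial_Q hd hI hc
  apply IsLocalRing.of_isUnit_or_isUnit_one_sub_self
  intro x
  by_cases hx : ev0 (maximalIdeal A) hd (fun i => hc i 0) x = 0
  · right
    apply isUnit_of_ev0_ne_zero hd hI hc
    rw [map_sub, map_one, hx, sub_zero]
    exact one_ne_zero
  · left
    exact isUnit_of_ev0_ne_zero hd hI hc x hx

theorem mem_maximalIdeal_iff [IsLocalRing (Q d c)] (x : Q d c) :
    x ∈ maximalIdeal (Q d c) ↔ ev0 (maximalIdeal A) hd (fun i => hc i 0) x = 0 := by
  rw [mem_maximalIdeal, mem_nonunits_iff]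
  constructor
  · intro hnu
    by_contra hx
    exact hnu (isUnit_of_ev0_ne_zero hd hI hc x hx)
  · intro hx hu
    have := hu.map (ev0 (maximalIdeal A) hd (fun i => hc i 0))
    rw [hx] at this
    exact not_isUnit_zero this

end Local

end Groth.Agent.Lib.Helper14.MonicQuot
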