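import Mathlib
import Groth.Agent.Lib.Helper14.MonicQuot
import Groth.Agent.Lib.Helper11.IntegralDim
import Groth.Agent.Lib.Helper33.RegularRing
import Groth.Agent.S0558

/-!
# `A' = A[T_1..T_r]/(F_1..F_r)`, `F_i = T_i^{d_i} + Σ_{k<d_i} c_{ik} T_i^k`, `c_{ik} ∈ m_A` (helper14)

* `A'` is integral over `A`, local with residue field `K`, `A → A'` injective when `A` is a domain,
  `dim A' = dim A`.
* for `A` regular local and `d_i ≥ 2`: `A'` is regular iff the `c_{i0}` are independent in `m/m²`.
-/

set_option autoImplicit false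
set_option linter.unusedSectionVars false
universe u

namespace Groth.Agent.Lib.Helper14.MonicQuot

open MvPolynomial IsLocalRing

variable {A : Type u} [CommRing A] {r : ℕ} {d : Fin r → ℕ} {c : Fin r → ℕ → A}

/-- one-variable version of `F_i` -/
noncomputable def f (d : Fin r → ℕ) (c : Fin r → ℕ → A) (i : Fin r) : Polynomial A :=
  Polynomial.X ^ d i + (Finset.range (d i)).sum fun k => Polynomial.C (c i k) * Polynomial.X ^ k

theorem f_degree_lt (i : Fin r) :
    ((Finset.range (d i)).sum fun k => Polynomial.C (c i k) * Polynomial.X ^ k).degree <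
      ((d i : ℕ) : WithBot ℕ) := by
  refine (Polynomial.degree_sum_le _ _).trans_lt ?_
  rw [Finset.sup_lt_iff (by exact WithBot.bot_lt_coe _)]
  intro k hk
  exact (Polynomial.degree_C_mul_X_pow_le _ _).trans_lt (by exact_mod_cast Finset.mem_range.1 hk)

theorem f_monic (i : Fin r) : (f d c i).Monic :=
  Polynomial.monic_X_pow_add (f_degree_lt i)

theorem f_degree [Nontrivial A] (i : Fin r) : (f d c i).degree = ((d i : ℕ) : WithBot ℕ) := by
  rw [f, Polynomial.degree_add_eq_left_of_degree_lt, Polynomial.degree_X_pow]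
  rw [Polynomial.degree_X_pow]
  exact f_degree_lt i

theorem eval₂_f {S : Type*} [CommRing S] (φ : A →+* S) (s : S) (i : Fin r) :
    Polynomial.eval₂ φ s (f d c i) = s ^ d i + (Finset.range (d i)).sum fun k => φ (c i k) * s ^ k := by
  rw [f, Polynomial.eval₂_add, Polynomial.eval₂_pow, Polynomial.eval₂_X,
    Polynomial.eval₂_finsetSum]
  simp only [Polynomial.eval₂_mul, Polynomial.eval₂_pow, Polynomial.eval₂_X, Polynomial.eval₂_C]

theorem map_F {S : Type*} [CommRing S] (ψ : MvPolynomial (Fin r) A →+* S) (i : Fin r) :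
    ψ (F d c i) = ψ (X i) ^ d i + (Finset.range (d i)).sum fun k => ψ (C (c i k)) * ψ (X i) ^ k := by
  rw [F, map_add, map_pow, map_sum]
  simp only [map_mul, map_pow]

theorem mk_F_eq_zero (i : Fin r) :
    Ideal.Quotient.mk (Ideal.span (Set.range (F d c))) (F d c i) = 0 :=
  Ideal.Quotient.eq_zero_iff_mem.2 (Ideal.subset_span ⟨i, rfl⟩)

theorem mk_F_expand (i : Fin r) :
    (Ideal.Quotient.mk (Ideal.span (Set.range (F d c))) (X i)) ^ d i +
      (Finset.range (d i)).sum (fun k => algebraMap A (Q d c) (c i k) *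
        (Ideal.Quotient.mk (Ideal.span (Set.range (F d c))) (X i)) ^ k) = 0 := by
  have h := mk_F_eq_zero (d := d) (c := c) i
  rw [map_F] at h
  exact h

theorem isIntegral_mk_X (i : Fin r) :
    IsIntegral A (Ideal.Quotient.mk (Ideal.span (Set.range (F d c))) (X i)) := by
  refine ⟨f d c i, f_monic i, ?_⟩
  rw [eval₂_f]
  exact mk_F_expand i

instance isIntegral_Q : Algebra.IsIntegral A (Q d c) := by
  refine ⟨fun q => ?_⟩
  obtain ⟨p, rfl⟩ := Ideal.Quotient.mk_surjective q
  induction p using MvPolynomial.induction_on with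
  | C a => exact isIntegral_algebraMap
  | add p q hp hq => rw [map_add]; exact hp.add hq
  | mul_X p i hp => rw [map_mul]; exact hp.mul (isIntegral_mk_X i)

theorem mk_sub_algebraMap_mem (p : MvPolynomial (Fin r) A) :
    Ideal.Quotient.mk (Ideal.span (Set.range (F d c))) p - algebraMap A (Q d c) (constantCoeff p) ∈
      Ideal.span (Set.range fun i => Ideal.Quotient.mk (Ideal.span (Set.range (F d c))) (X i)) := by
  have h := sub_C_mem_span_X p
  have hle : Ideal.span (Set.range (X : Fin r → MvPolynomial (Fin r) A)) ≤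
      (Ideal.span (Set.range fun i =>
        Ideal.Quotient.mk (Ideal.span (Set.range (F d c))) (X i))).comap
        (Ideal.Quotient.mk (Ideal.span (Set.range (F d c)))) := by
    rw [Ideal.span_le]
    rintro _ ⟨i, rfl⟩
    exact Ideal.subset_span ⟨i, rfl⟩
  have := hle h
  rw [Ideal.mem_comap, map_sub] at this
  exact this

section Local

variable [IsLocalRing A] (hd : ∀ i, 1 ≤ d i) (hc : ∀ i k, c i k ∈ maximalIdeal A)
include hc

theorem algebraMap_mem_of_isMaximal (M : Ideal (Q d c)) [M.IsMaximal] (a : A)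
    (ha : a ∈ maximalIdeal A) : algebraMap A (Q d c) a ∈ M := by
  have hmax : (M.comap (algebraMap A (Q d c))).IsMaximal :=
    Ideal.isMaximal_comap_of_isIntegral_of_isMaximal M
  have h1 := IsLocalRing.eq_maximalIdeal hmax
  have h2 : a ∈ M.comap (algebraMap A (Q d c)) := by rw [h1]; exact ha
  exact h2

include hd

theorem mk_X_mem_of_isMaximal (M : Ideal (Q d c)) [hM : M.IsMaximal] (i : Fin r) :
    Ideal.Quotient.mk (Ideal.span (Set.range (F d c))) (X i) ∈ M := by
  have h := mk_F_expand (d := d) (c := c) i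
  have h2 : (Ideal.Quotient.mk (Ideal.span (Set.range (F d c))) (X i)) ^ d i ∈ M := by
    rw [eq_neg_of_add_eq_zero_left h]
    apply neg_mem
    apply sum_mem
    intro k _
    exact M.mul_mem_right _ (algebraMap_mem_of_isMaximal hc M _ (hc i k))
  exact hM.isPrime.mem_of_pow_mem _ h2

theorem span_mk_X_le_of_isMaximal (M : Ideal (Q d c)) [hM : M.IsMaximal] :
    Ideal.span (Set.range fun i => Ideal.Quotient.mk (Ideal.span (Set.range (F d c))) (X i)) ≤ M := by
  rw [Ideal.span_le]
  rintro _ ⟨i, rfl⟩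
  exact mk_X_mem_of_isMaximal hd hc M i

theorem ker_ev0_le (M : Ideal (Q d c)) [hM : M.IsMaximal] :
    RingHom.ker (ev0 (maximalIdeal A) hd (fun i => hc i 0)) ≤ M := by
  intro q hq
  obtain ⟨p, rfl⟩ := Ideal.Quotient.mk_surjective q
  rw [RingHom.mem_ker, ev0_mk, Ideal.Quotient.eq_zero_iff_mem] at hq
  have h1 := span_mk_X_le_of_isMaximal hd hc M (mk_sub_algebraMap_mem (d := d) (c := c) p)
  have h2 := algebraMap_mem_of_isMaximal hc M _ hq
  have := M.add_mem h1 h2
  rwa [sub_add_cancel] at this

theorem ev0_surjective : Function.Surjective (ev0 (maximalIdeal A) hd (fun i => hc i 0)) := by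
  intro y
  obtain ⟨a, rfl⟩ := Ideal.Quotient.mk_surjective y
  exact ⟨algebraMap A (Q d c) a, ev0_algebraMap _ _ _ a⟩

theorem ker_ev0_isMaximal : (RingHom.ker (ev0 (maximalIdeal A) hd (fun i => hc i 0))).IsMaximal := by
  let _ := Ideal.Quotient.field (maximalIdeal A)
  exact RingHom.ker_isMaximal_of_surjective _ (ev0_surjective hd hc)

theorem isLocalRing_Q' : IsLocalRing (Q d c) := by
  have hmax := ker_ev0_isMaximal hd hc
  refine IsLocalRing.of_unique_max_ideal ⟨_, hmax, fun M hM => ?_⟩
  have := hM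
  exact (hmax.eq_of_le hM.ne_top (ker_ev0_le hd hc M)).symm

theorem maximalIdeal_Q [IsLocalRing (Q d c)] :
    maximalIdeal (Q d c) = RingHom.ker (ev0 (maximalIdeal A) hd (fun i => hc i 0)) :=
  (IsLocalRing.eq_maximalIdeal (ker_ev0_isMaximal hd hc)).symm

theorem residue_surjective (M : Ideal (Q d c)) [hM : M.IsMaximal] :
    Function.Surjective ((Ideal.Quotient.mk M).comp (algebraMap A (Q d c))) := by
  intro y
  obtain ⟨q, rfl⟩ := Ideal.Quotient.mk_surjective y
  obtain ⟨p, rfl⟩ := Ideal.Quotient.mk_surjective q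
  refine ⟨constantCoeff p, ?_⟩
  rw [RingHom.comp_apply]
  symm
  rw [Ideal.Quotient.eq]
  exact span_mk_X_le_of_isMaximal hd hc M (mk_sub_algebraMap_mem (d := d) (c := c) p)

end Local

section Inj

theorem algebraMap_Q_injective [IsDomain A] (hd : ∀ i, 1 ≤ d i) :
    Function.Injective (algebraMap A (Q d c)) := by
  let L := AlgebraicClosure (FractionRing A)
  let φ : A →+* L := (algebraMap (FractionRing A) L).comp (algebraMap A (FractionRing A))
  have hφ : Function.Injective φ :=
    (algebraMap (FractionRing A) L).injective.comp (IsFractionRing.injective A (FractionRing A))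
  have hroot : ∀ i, ∃ ρ : L, Polynomial.eval₂ φ ρ (f d c i) = 0 := by
    intro i
    apply IsAlgClosed.exists_eval₂_eq_zero_of_injective φ hφ
    rw [f_degree]
    have := hd i
    exact_mod_cast (by omega : d i ≠ 0)
  choose ρ hρ using hroot
  let ψ : Q d c →+* L := Ideal.Quotient.lift _ (eval₂Hom φ ρ) (by
    intro a ha
    induction ha using Submodule.span_induction with
    | mem x hx =>
      obtain ⟨i, rfl⟩ := hx
      rw [map_F]
      have := hρ i
      rw [eval₂_f] at this
      simpa using this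
    | zero => simp
    | add x y _ _ hx hy => rw [map_add, hx, hy, add_zero]
    | smul a x _ hx => rw [smul_eq_mul, map_mul, hx, mul_zero])
  have hψ : ∀ a, ψ (algebraMap A (Q d c) a) = φ a := by
    intro a
    have : algebraMap A (Q d c) a = Ideal.Quotient.mk _ (C a) := rfl
    rw [this, Ideal.Quotient.lift_mk]
    simp
  intro a b hab
  apply hφ
  rw [← hψ, hab, hψ]

theorem ringKrullDim_Q [IsDomain A] (hd : ∀ i, 1 ≤ d i) :
    ringKrullDim (Q d c) = ringKrullDim A :=
  Groth.Agent.Lib.Helper11.IntegralDim.ringKrullDim_eq_of_isIntegral_of_injective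
    (algebraMap_Q_injective hd)

end Inj

section Psi

variable [IsLocalRing A]

/-- the ideal `(m, T)` of polynomials with constant coefficient in `m`, as an `A`-submodule -/
noncomputable def nn (A : Type u) [CommRing A] [IsLocalRing A] (r : ℕ) : Submodule A (MvPolynomial (Fin r) A) :=
  Submodule.comap (MvPolynomial.lcoeff A (0 : Fin r →₀ ℕ)) (maximalIdeal A)

theorem mem_nn (p : MvPolynomial (Fin r) A) : p ∈ nn A r ↔ coeff 0 p ∈ maximalIdeal A := Iff.rfl

theorem coeff_zero_mul' (h p : MvPolynomial (Fin r) A) : coeff 0 (h * p) = coeff 0 h * coeff 0 p := by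
  have := map_mul (constantCoeff : MvPolynomial (Fin r) A →+* A) h p
  simpa [constantCoeff_eq] using this

theorem coeff_single_mul' (i : Fin r) (h p : MvPolynomial (Fin r) A) :
    coeff (Finsupp.single i 1) (h * p) =
      coeff 0 h * coeff (Finsupp.single i 1) p + coeff (Finsupp.single i 1) h * coeff 0 p := by
  classical
  rw [coeff_mul, Finsupp.antidiagonal_single]
  simp [Finset.Nat.antidiagonal_succ]

theorem mul_mem_nn (h p : MvPolynomial (Fin r) A) (hp : p ∈ nn A r) : h * p ∈ nn A r := by
  rw [mem_nn, coeff_zero_mul']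
  exact Ideal.mul_mem_left _ _ hp

variable (U : Submodule (ResidueField A) (CotangentSpace A))

noncomputable def Psi1 : nn A r →ₗ[A] (CotangentSpace A ⧸ U) :=
  (U.mkQ.restrictScalars A) ∘ₗ ((maximalIdeal A).toCotangent) ∘ₗ
    ((MvPolynomial.lcoeff A (0 : Fin r →₀ ℕ)).restrict (fun _ hp => hp))

noncomputable def Psi2 : nn A r →ₗ[A] (Fin r → ResidueField A) :=
  (LinearMap.pi fun i => (Algebra.linearMap A (ResidueField A)) ∘ₗ
     (MvPolynomial.lcoeff A (Finsupp.single i 1))) ∘ₗ (nn A r).subtype

noncomputable def Psi : nn A r →ₗ[A] (CotangentSpace A ⧸ U) × (Fin r → ResidueField A) :=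
  (Psi1 U).prod Psi2

theorem Psi1_apply (p : MvPolynomial (Fin r) A) (hp : p ∈ nn A r) :
    Psi1 U ⟨p, hp⟩ = U.mkQ ((maximalIdeal A).toCotangent ⟨coeff 0 p, hp⟩) := rfl

theorem Psi2_apply (p : MvPolynomial (Fin r) A) (hp : p ∈ nn A r) (i : Fin r) :
    Psi2 ⟨p, hp⟩ i = residue A (coeff (Finsupp.single i 1) p) := rfl

theorem Psi_mul (h p : MvPolynomial (Fin r) A) (hp : p ∈ nn A r) :
    Psi U ⟨h * p, mul_mem_nn h p hp⟩ = coeff 0 h • Psi U ⟨p, hp⟩ := by
  refine Prod.ext ?_ ?_
  · change Psi1 U ⟨h * p, _⟩ = coeff 0 h • Psi1 U ⟨p, hp⟩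
    rw [Psi1_apply, Psi1_apply]
    have h1 : (⟨coeff 0 (h * p), mul_mem_nn h p hp⟩ : maximalIdeal A) =
        coeff 0 h • (⟨coeff 0 p, hp⟩ : maximalIdeal A) := Subtype.ext (coeff_zero_mul' h p)
    rw [h1, map_smul]
    rfl
  · change Psi2 ⟨h * p, _⟩ = coeff 0 h • Psi2 ⟨p, hp⟩
    funext i
    rw [Pi.smul_apply, Psi2_apply, Psi2_apply, coeff_single_mul', map_add, map_mul, map_mul,
      (residue_eq_zero_iff (coeff 0 p)).2 hp, mul_zero, add_zero, Algebra.smul_def]
    rfl

theorem coeff_zero_F (hd : ∀ i, 1 ≤ d i) (l : Fin r) : coeff 0 (F d c l) = c l 0 := by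
  have hdi : d l ≠ 0 := Nat.one_le_iff_ne_zero.1 (hd l)
  have h1 : coeff 0 (F d c l) = constantCoeff (F d c l) := (congrFun constantCoeff_eq _).symm
  rw [h1, map_F]
  simp only [constantCoeff_X, constantCoeff_C, zero_pow hdi, zero_add]
  rw [Finset.sum_eq_single 0]
  · simp
  · intro k _ hk
    rw [zero_pow hk, mul_zero]
  · intro h0
    exact absurd (Finset.mem_range.2 (Nat.pos_of_ne_zero hdi)) h0

theorem coeff_single_F_mem (hd2 : ∀ i, 2 ≤ d i) (hc : ∀ i k, c i k ∈ maximalIdeal A) (i l : Fin r) :
    coeff (Finsupp.single i 1) (F d c l) ∈ maximalIdeal A := by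
  classical
  rw [F, coeff_add, coeff_sum]
  refine Ideal.add_mem _ ?_ (sum_mem fun k _ => ?_)
  · rw [X_pow_eq_monomial, coeff_monomial, if_neg]
    · exact zero_mem _
    · intro h
      have h2 := DFunLike.congr_fun h l
      have h3 := hd2 l
      rw [Finsupp.single_eq_same, Finsupp.single_apply] at h2
      split_ifs at h2 <;> omega
  · rw [coeff_C_mul]
    exact Ideal.mul_mem_right _ _ (hc l k)

theorem F_mem_nn (hd : ∀ i, 1 ≤ d i) (hc : ∀ i k, c i k ∈ maximalIdeal A) (l : Fin r) :
    F d c l ∈ nn A r := by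
  rw [mem_nn, coeff_zero_F hd]
  exact hc l 0

theorem Psi_F (hd2 : ∀ i, 2 ≤ d i) (hc : ∀ i k, c i k ∈ maximalIdeal A)
    (hU : ∀ l, (maximalIdeal A).toCotangent ⟨c l 0, hc l 0⟩ ∈ U) (l : Fin r) :
    Psi U ⟨F d c l, F_mem_nn (fun i => le_trans (by norm_num) (hd2 i)) hc l⟩ = 0 := by
  have hd : ∀ i, 1 ≤ d i := fun i => le_trans (by norm_num) (hd2 i)
  refine Prod.ext ?_ ?_
  · change Psi1 U ⟨F d c l, _⟩ = 0
    rw [Psi1_apply, Submodule.mkQ_apply, Submodule.Quotient.mk_eq_zero]
    have h1 : (⟨coeff 0 (F d c l), F_mem_nn hd hc l⟩ : maximalIdeal A) = ⟨c l 0, hc l 0⟩ :=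
      Subtype.ext (coeff_zero_F hd l)
    rw [h1]
    exact hU l
  · change Psi2 ⟨F d c l, _⟩ = 0
    funext i
    rw [Psi2_apply, Pi.zero_apply, residue_eq_zero_iff]
    exact coeff_single_F_mem hd2 hc i l

theorem Psi_surjective : Function.Surjective (Psi (r := r) U) := by
  classical
  rintro ⟨w1, w2⟩
  obtain ⟨v, rfl⟩ := U.mkQ_surjective w1
  obtain ⟨⟨a, ha⟩, rfl⟩ := (maximalIdeal A).toCotangent_surjective v
  choose b hb using fun i => IsLocalRing.residue_surjective (w2 i)
  let p : MvPolynomial (Fin r) A := C a + ∑ j, C (b j) * X j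
  have h0 : coeff 0 p = a := by
    simp [p, coeff_sum, coeff_C_mul, coeff_zero_X]
  have h1 : ∀ i, coeff (Finsupp.single i 1) p = b i := by
    intro i
    have hne : (0 : Fin r →₀ ℕ) ≠ Finsupp.single i 1 := fun h => by
      have := DFunLike.congr_fun h i
      simp at this
    simp [p, coeff_sum, coeff_C_mul, coeff_X, Finsupp.single_left_inj, coeff_C, hne]
  have hp : p ∈ nn A r := by rw [mem_nn, h0]; exact ha
  refine ⟨⟨p, hp⟩, Prod.ext ?_ ?_⟩
  · change Psi1 U ⟨p, hp⟩ = _
    rw [Psi1_apply]
    have : (⟨coeff 0 p, hp⟩ : maximalIdeal A) = ⟨a, ha⟩ := Subtype.ext h0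
    rw [this]
  · change Psi2 ⟨p, hp⟩ = w2
    funext i
    rw [Psi2_apply, h1, hb]

/-- total version of `Psi` -/
noncomputable def PsiT (p : MvPolynomial (Fin r) A) :
    (CotangentSpace A ⧸ U) × (Fin r → ResidueField A) := by
  classical
  exact if hp : p ∈ nn A r then Psi U ⟨p, hp⟩ else 0

theorem PsiT_of_mem (p : MvPolynomial (Fin r) A) (hp : p ∈ nn A r) : PsiT U p = Psi U ⟨p, hp⟩ := by
  rw [PsiT, dif_pos hp]

theorem PsiT_add (p q : MvPolynomial (Fin r) A) (hp : p ∈ nn A r) (hq : q ∈ nn A r) :
    PsiT U (p + q) = PsiT U p + PsiT U q := by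
  rw [PsiT_of_mem U p hp, PsiT_of_mem U q hq, PsiT_of_mem U (p + q) (add_mem hp hq), ← map_add]
  rfl

theorem PsiT_mul (h p : MvPolynomial (Fin r) A) (hp : p ∈ nn A r) :
    PsiT U (h * p) = coeff 0 h • PsiT U p := by
  rw [PsiT_of_mem U p hp, PsiT_of_mem U (h * p) (mul_mem_nn h p hp), Psi_mul]

end Psi

section Converse

variable [IsRegularLocalRing A]

theorem linearIndependent_of_isRegularLocalRing (hd2 : ∀ i, 2 ≤ d i)
    (hc : ∀ i k, c i k ∈ maximalIdeal A) [IsRegularLocalRing (Q d c)] :
    LinearIndependent (ResidueField A)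
      (fun i => (maximalIdeal A).toCotangent ⟨c i 0, hc i 0⟩) := by
  classical
  have hd : ∀ i, 1 ≤ d i := fun i => le_trans (by norm_num) (hd2 i)
  have hdom : IsDomain A := Groth.Agent.S0558.result A
  set cbar : Fin r → CotangentSpace A :=
    fun i => (maximalIdeal A).toCotangent ⟨c i 0, hc i 0⟩ with hcbar
  set U : Submodule (ResidueField A) (CotangentSpace A) :=
    Submodule.span (ResidueField A) (Set.range cbar) with hUdef
  have hU : ∀ l, (maximalIdeal A).toCotangent ⟨c l 0, hc l 0⟩ ∈ U :=
    fun l => Submodule.subset_span ⟨l, rfl⟩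
  -- numerics
  have hn : ((Module.finrank (ResidueField A) (CotangentSpace A) : ℕ) : WithBot ℕ∞) =
      ringKrullDim A := (IsRegularLocalRing.iff_finrank_cotangentSpace A).1 inferInstance
  have hdim : ringKrullDim (Q d c) = ringKrullDim A := ringKrullDim_Q hd
  have hN : ((maximalIdeal (Q d c)).spanFinrank : WithBot ℕ∞) = ringKrullDim (Q d c) :=
    IsRegularLocalRing.spanFinrank_maximalIdeal
  have hN' : (maximalIdeal (Q d c)).spanFinrank =
      Module.finrank (ResidueField A) (CotangentSpace A) := by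
    have := hN.trans (hdim.trans hn.symm)
    exact_mod_cast this
  -- generators
  have hfg : Submodule.FG (maximalIdeal (Q d c)) := IsNoetherian.noetherian _
  set gens := (maximalIdeal (Q d c)).generators with hgens
  have hgfin : gens.Finite := (Submodule.FG.finite_generators hfg)
  have hgcard : gens.ncard = Module.finrank (ResidueField A) (CotangentSpace A) :=
    (Submodule.FG.generators_ncard hfg).trans hN'
  have hgspan : Ideal.span gens = maximalIdeal (Q d c) := Submodule.span_generators _
  -- lifts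
  have hmk := Ideal.Quotient.mk_surjective (I := Ideal.span (Set.range (F d c)))
  choose G hG using hmk
  have hmax := maximalIdeal_Q hd hc
  have mem_nn_of : ∀ p, Ideal.Quotient.mk (Ideal.span (Set.range (F d c))) p ∈
      maximalIdeal (Q d c) → p ∈ nn A r := by
    intro p hp
    rw [hmax, RingHom.mem_ker, ev0_mk, Ideal.Quotient.eq_zero_iff_mem] at hp
    rw [mem_nn, ← constantCoeff_eq]
    exact hp
  have mk_mem_of : ∀ p, p ∈ nn A r → Ideal.Quotient.mk (Ideal.span (Set.range (F d c))) p ∈
      maximalIdeal (Q d c) := by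
    intro p hp
    rw [hmax, RingHom.mem_ker, ev0_mk, Ideal.Quotient.eq_zero_iff_mem]
    rw [mem_nn, ← constantCoeff_eq] at hp
    exact hp
  -- the ideal `(F)` is killed
  have hI : ∀ u ∈ Ideal.span (Set.range (F d c)), u ∈ nn A r ∧ PsiT U u = 0 := by
    intro u hu
    induction hu using Submodule.span_induction with
    | mem x hx =>
      obtain ⟨l, rfl⟩ := hx
      exact ⟨F_mem_nn hd hc l, by rw [PsiT_of_mem U _ (F_mem_nn hd hc l)]; exact Psi_F U hd2 hc hU l⟩
    | zero => exact ⟨zero_mem _, by rw [PsiT_of_mem U _ (zero_mem _)]; exact map_zero _⟩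
    | add x y _ _ hx hy =>
      exact ⟨add_mem hx.1 hy.1, by rw [PsiT_add U x y hx.1 hy.1, hx.2, hy.2, add_zero]⟩
    | smul a x _ hx =>
      exact ⟨mul_mem_nn a x hx.1, by rw [smul_eq_mul, PsiT_mul U a x hx.1, hx.2, smul_zero]⟩
  have hsub : ∀ p q, p ∈ nn A r → Ideal.Quotient.mk (Ideal.span (Set.range (F d c))) q =
      Ideal.Quotient.mk (Ideal.span (Set.range (F d c))) p → PsiT U q = PsiT U p := by
    intro p q hp hpq
    have h1 : q - p ∈ Ideal.span (Set.range (F d c)) := Ideal.Quotient.eq.1 hpq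
    obtain ⟨h2, h3⟩ := hI _ h1
    have h4 : q = p + (q - p) := by ring
    rw [h4, PsiT_add U p (q - p) hp h2, h3, add_zero]
  set S : Submodule A ((CotangentSpace A ⧸ U) × (Fin r → ResidueField A)) :=
    Submodule.span A ((fun g => PsiT U (G g)) '' gens) with hS
  have key : ∀ q ∈ Ideal.span gens, ∀ p, Ideal.Quotient.mk (Ideal.span (Set.range (F d c))) p = q →
      PsiT U p ∈ S := by
    intro q hq
    induction hq using Submodule.span_induction with
    | mem g hg =>
      intro p hp
      have hGg : G g ∈ nn A r := mem_nn_of _ (by rw [hG, ← hgspan]; exact Ideal.subset_span hg)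
      rw [hsub (G g) p hGg (by rw [hp, hG])]
      exact Submodule.subset_span ⟨g, hg, rfl⟩
    | zero =>
      intro p hp
      rw [(hI p (Ideal.Quotient.eq_zero_iff_mem.1 hp)).2]
      exact zero_mem _
    | add x y hx hy ihx ihy =>
      intro p hp
      have hGx : G x ∈ nn A r := mem_nn_of _ (by rw [hG, ← hgspan]; exact hx)
      have hGy : G y ∈ nn A r := mem_nn_of _ (by rw [hG, ← hgspan]; exact hy)
      rw [hsub (G x + G y) p (add_mem hGx hGy) (by rw [hp, map_add, hG, hG]),
        PsiT_add U _ _ hGx hGy]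
      exact add_mem (ihx _ (hG x)) (ihy _ (hG y))
    | smul a x hx ihx =>
      intro p hp
      have hGx : G x ∈ nn A r := mem_nn_of _ (by rw [hG, ← hgspan]; exact hx)
      rw [hsub (G a * G x) p (mul_mem_nn _ _ hGx) (by rw [hp, map_mul, hG, hG, smul_eq_mul]),
        PsiT_mul U _ _ hGx]
      exact S.smul_mem _ (ihx _ (hG x))
  have hStop : ∀ w, w ∈ S := by
    intro w
    obtain ⟨⟨p, hp⟩, rfl⟩ := Psi_surjective (r := r) U w
    rw [← PsiT_of_mem U p hp]
    exact key _ (by rw [hgspan]; exact mk_mem_of p hp) p rfl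
  -- pass to `K`-span
  have hKspan : Submodule.span (ResidueField A) ((fun g => PsiT U (G g)) '' gens) = ⊤ := by
    rw [eq_top_iff]
    intro w _
    have h1 := hStop w
    rw [hS, ← Submodule.restrictScalars_span A (ResidueField A)
      IsLocalRing.residue_surjective] at h1
    exact h1
  have hfin : Module.finrank (ResidueField A)
      ((CotangentSpace A ⧸ U) × (Fin r → ResidueField A)) ≤
      Module.finrank (ResidueField A) (CotangentSpace A) := by
    have h1 : ((fun g => PsiT U (G g)) '' gens) =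
        ↑(Finset.image (fun g => PsiT U (G g)) hgfin.toFinset) := by
      rw [Finset.coe_image, Set.Finite.coe_toFinset]
    have h2 := finrank_span_finset_le_card (R := ResidueField A)
      (Finset.image (fun g => PsiT U (G g)) hgfin.toFinset)
    rw [Set.finrank, ← h1, hKspan, finrank_top] at h2
    refine h2.trans (Finset.card_image_le.trans ?_)
    rw [← Set.ncard_eq_toFinset_card gens hgfin, hgcard]
  rw [Module.finrank_prod, Module.finrank_fin_fun] at hfin
  have h5 := Submodule.finrank_quotient_add_finrank U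
  rw [linearIndependent_iff_card_le_finrank_span, Fintype.card_fin]
  change r ≤ Module.finrank (ResidueField A) U
  omega

end Converse

section Direct

theorem ncard_range_le_card {ι α : Type*} [Fintype ι] (g : ι → α) :
    (Set.range g).ncard ≤ Fintype.card ι := by
  rw [← Set.image_univ]
  refine (Set.ncard_image_le (Set.finite_univ)).trans ?_
  rw [Set.ncard_univ, Nat.card_eq_fintype_card]

theorem algebraMap_c0_mem (hd : ∀ i, 1 ≤ d i) (i : Fin r) :
    algebraMap A (Q d c) (c i 0) ∈
      Ideal.span (Set.range fun i => Ideal.Quotient.mk (Ideal.span (Set.range (F d c))) (X i)) := by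
  have h := mk_F_expand (d := d) (c := c) i
  obtain ⟨e, he⟩ : ∃ e, d i = e + 1 := ⟨d i - 1, by have := hd i; omega⟩
  rw [he, Finset.sum_range_succ', pow_zero, mul_one] at h
  have h2 : algebraMap A (Q d c) (c i 0) =
      -((Ideal.Quotient.mk (Ideal.span (Set.range (F d c))) (X i)) ^ (e + 1) +
        (Finset.range e).sum (fun k => algebraMap A (Q d c) (c i (k + 1)) *
          (Ideal.Quotient.mk (Ideal.span (Set.range (F d c))) (X i)) ^ (k + 1))) := by
    linear_combination h
  rw [h2]
  apply neg_mem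
  apply add_mem
  · rw [pow_succ]
    exact Ideal.mul_mem_left _ _ (Ideal.subset_span ⟨i, rfl⟩)
  · apply sum_mem
    intro k _
    rw [pow_succ, ← mul_assoc]
    exact Ideal.mul_mem_left _ _ (Ideal.subset_span ⟨i, rfl⟩)

variable [IsRegularLocalRing A]

theorem isRegularLocalRing_of_linearIndependent (hd : ∀ i, 1 ≤ d i)
    (hc : ∀ i k, c i k ∈ maximalIdeal A) [IsLocalRing (Q d c)]
    (hli : LinearIndependent (ResidueField A)
      (fun i => (maximalIdeal A).toCotangent ⟨c i 0, hc i 0⟩)) :
    IsRegularLocalRing (Q d c) := by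
  classical
  have hdom : IsDomain A := Groth.Agent.S0558.result A
  apply IsRegularLocalRing.of_spanFinrank_maximalIdeal_le
  set cbar : Fin r → CotangentSpace A :=
    fun i => (maximalIdeal A).toCotangent ⟨c i 0, hc i 0⟩ with hcbar
  set U : Submodule (ResidueField A) (CotangentSpace A) :=
    Submodule.span (ResidueField A) (Set.range cbar) with hUdef
  obtain ⟨W, hW⟩ := Submodule.exists_isCompl U
  have hUr : Module.finrank (ResidueField A) U = r := by
    rw [hUdef, finrank_span_eq_card hli, Fintype.card_fin]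
  have hUW := Submodule.finrank_add_eq_of_isCompl hW
  let bW := Module.finBasis (ResidueField A) W
  choose y hy using fun j => (maximalIdeal A).toCotangent_surjective (bW j : CotangentSpace A)
  set s : Set (maximalIdeal A) :=
    Set.range (fun i => (⟨c i 0, hc i 0⟩ : maximalIdeal A)) ∪ Set.range y with hs_def
  have hs : Submodule.span (ResidueField A) ((maximalIdeal A).toCotangent '' s) = ⊤ := by
    rw [hs_def, Set.image_union, Submodule.span_union, ← Set.range_comp, ← Set.range_comp]
    have h1 : Submodule.span (ResidueField A) (Set.range ((maximalIdeal A).toCotangent ∘ y)) = W := by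
      have h2 : (maximalIdeal A).toCotangent ∘ y = W.subtype ∘ bW := funext fun j => hy j
      rw [h2, Set.range_comp, ← Submodule.map_span, bW.span_eq, Submodule.map_top,
        Submodule.range_subtype]
    rw [h1]
    exact hW.sup_eq_top
  have hs' : Submodule.span A s = ⊤ := IsLocalRing.CotangentSpace.span_image_eq_top_iff.1 hs
  set T : Ideal (Q d c) := Ideal.span (Set.range (fun j => algebraMap A (Q d c) (y j)) ∪
    Set.range (fun i => Ideal.Quotient.mk (Ideal.span (Set.range (F d c))) (X i))) with hT_def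
  have hxT : Ideal.span (Set.range fun i =>
      Ideal.Quotient.mk (Ideal.span (Set.range (F d c))) (X i)) ≤ T :=
    Ideal.span_mono Set.subset_union_right
  have hmT : ∀ a ∈ maximalIdeal A, algebraMap A (Q d c) a ∈ T := by
    intro a ha
    have h1 : (⟨a, ha⟩ : maximalIdeal A) ∈ Submodule.span A s := by rw [hs']; trivial
    have h2 : ∀ z ∈ Submodule.span A s, algebraMap A (Q d c) (z : A) ∈ T := by
      intro z hz
      induction hz using Submodule.span_induction with
      | mem z hz =>
        rcases hz with ⟨i, rfl⟩ | ⟨j, rfl⟩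
        · exact hxT (algebraMap_c0_mem hd i)
        · exact Ideal.subset_span (Or.inl ⟨j, rfl⟩)
      | zero => simp
      | add z w _ _ hz hw => rw [Submodule.coe_add, map_add]; exact add_mem hz hw
      | smul a z _ hz =>
        rw [Submodule.coe_smul, smul_eq_mul, map_mul]; exact T.mul_mem_left _ hz
    exact h2 _ h1
  have hmax := maximalIdeal_Q hd hc
  have hle : maximalIdeal (Q d c) ≤ T := by
    intro q hq
    obtain ⟨p, rfl⟩ := Ideal.Quotient.mk_surjective q
    rw [hmax, RingHom.mem_ker, ev0_mk, Ideal.Quotient.eq_zero_iff_mem] at hq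
    have h1 := hxT (mk_sub_algebraMap_mem (d := d) (c := c) p)
    have h2 := hmT _ hq
    have := T.add_mem h1 h2
    rwa [sub_add_cancel] at this
  have hge : T ≤ maximalIdeal (Q d c) := by
    rw [hT_def, Ideal.span_le]
    rintro _ (⟨j, rfl⟩ | ⟨i, rfl⟩)
    · rw [SetLike.mem_coe, hmax, RingHom.mem_ker, ev0_algebraMap, Ideal.Quotient.eq_zero_iff_mem]
      exact (y j).2
    · rw [SetLike.mem_coe, hmax, RingHom.mem_ker, ev0_mk, constantCoeff_X, map_zero]
  have hT : maximalIdeal (Q d c) = T := le_antisymm hle hge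
  have hn : ((Module.finrank (ResidueField A) (CotangentSpace A) : ℕ) : WithBot ℕ∞) =
      ringKrullDim A := (IsRegularLocalRing.iff_finrank_cotangentSpace A).1 inferInstance
  have hdim : ringKrullDim (Q d c) = ringKrullDim A := ringKrullDim_Q hd
  rw [hdim, ← hn, hT]
  have hcount : T.spanFinrank ≤ Module.finrank (ResidueField A) (CotangentSpace A) := by
    refine (Submodule.spanFinrank_span_le_ncard_of_finite
      ((Set.finite_range _).union (Set.finite_range _))).trans ?_
    refine (Set.ncard_union_le _ _).trans ?_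
    have h1 := ncard_range_le_card (fun j => algebraMap A (Q d c) (y j))
    have h2 := ncard_range_le_card
      (fun i => Ideal.Quotient.mk (Ideal.span (Set.range (F d c))) (X i))
    rw [Fintype.card_fin] at h1 h2
    omega
  exact_mod_cast hcount

end Direct

end Groth.Agent.Lib.Helper14.MonicQuot
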