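import Mathlib

/-!
# Topological Krull dimension of spaces whose specialization order is given

Generic lemmas: a quasi-sober T0 space with a partial order `x ≤ y ↔ y ∈ closure {x}` has
`topologicalKrullDim = Order.krullDim`; closed subspaces inherit everything; irreducible components
of such spaces are closures of minimal points.
-/

open Set Topology TopologicalSpace Order

namespace Groth.Agent.Lib.Helper14.PD1

/-- the partial order on `X` is the (reverse) specialization order -/
def SpecOrd (X : Type*) [TopologicalSpace X] [PartialOrder X] : Prop :=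
  ∀ x y : X, x ≤ y ↔ y ∈ closure ({x} : Set X)

theorem SpecOrd.subtype {X : Type*} [TopologicalSpace X] [PartialOrder X] (h : SpecOrd X)
    (Y : Set X) : SpecOrd ↥Y := by
  intro x y
  rw [closure_subtype, image_singleton, ← h]
  rfl

theorem quasiSober_subtype {X : Type*} [TopologicalSpace X] [QuasiSober X] {Y : Set X}
    (hY : IsClosed Y) : QuasiSober ↥Y :=
  hY.isClosedEmbedding_subtypeVal.quasiSober

/-- order iso between irreducible closed subsets and points -/
noncomputable def irrEquiv (X : Type*) [TopologicalSpace X] [QuasiSober X] [T0Space X]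
    [PartialOrder X] (h : SpecOrd X) : IrreducibleCloseds X ≃o Xᵒᵈ where
  toFun s := OrderDual.toDual s.2.genericPoint
  invFun x := ⟨closure ({OrderDual.ofDual x} : Set X), isIrreducible_singleton.closure,
    isClosed_closure⟩
  left_inv s := by
    refine IrreducibleCloseds.ext ?_
    change closure {s.2.genericPoint} = (s : Set X)
    rw [IsIrreducible.genericPoint_closure_eq, closure_eq_iff_isClosed.mpr s.3]
    rfl
  right_inv x := by
    apply congrArg OrderDual.toDual
    exact isIrreducible_singleton.closure.isGenericPoint_genericPoint_closure.eq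
      (by rw [closure_closure]; exact isGenericPoint_closure)
  map_rel_iff' := by
    rintro ⟨s, hs, hs'⟩ ⟨t, ht, ht'⟩
    change OrderDual.toDual hs.genericPoint ≤ OrderDual.toDual ht.genericPoint ↔ s ⊆ t
    rw [OrderDual.toDual_le_toDual, h]
    have e1 : closure {ht.genericPoint} = t := by
      rw [IsIrreducible.genericPoint_closure_eq, closure_eq_iff_isClosed.mpr ht']
    have e2 : closure {hs.genericPoint} = s := by
      rw [IsIrreducible.genericPoint_closure_eq, closure_eq_iff_isClosed.mpr hs']
    rw [e1]
    constructor
    · intro hmem
      rw [← e2]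
      exact closure_minimal (singleton_subset_iff.mpr hmem) ht'
    · intro hle
      apply hle
      have : hs.genericPoint ∈ closure {hs.genericPoint} := subset_closure rfl
      rwa [e2] at this

theorem topologicalKrullDim_eq (X : Type*) [TopologicalSpace X] [QuasiSober X] [T0Space X]
    [PartialOrder X] (h : SpecOrd X) : topologicalKrullDim X = krullDim X := by
  unfold topologicalKrullDim
  rw [krullDim_eq_of_orderIso (irrEquiv X h), krullDim_orderDual]

theorem topologicalKrullDim_subtype_eq {X : Type*} [TopologicalSpace X] [QuasiSober X] [T0Space X]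
    [PartialOrder X] (h : SpecOrd X) {Y : Set X} (hY : IsClosed Y) :
    topologicalKrullDim ↥Y = krullDim ↥Y := by
  have := quasiSober_subtype hY
  exact topologicalKrullDim_eq ↥Y (h.subtype Y)

/-- a closed set is an upper set for the specialization order -/
theorem mem_of_le {X : Type*} [TopologicalSpace X] [PartialOrder X] (h : SpecOrd X)
    {Y : Set X} (hY : IsClosed Y) {x y : X} (hx : x ∈ Y) (hxy : x ≤ y) : y ∈ Y := by
  rw [h] at hxy
  exact closure_minimal (singleton_subset_iff.mpr hx) hY hxy

theorem closure_singleton_eq {X : Type*} [TopologicalSpace X] [PartialOrder X] (h : SpecOrd X)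
    (x : X) : closure ({x} : Set X) = {y | x ≤ y} := by
  ext y
  rw [Set.mem_ofPred_eq, h]

/-- irreducible closed sets are "intervals" `{y | x ≤ y}` -/
theorem exists_eq_Ici {X : Type*} [TopologicalSpace X] [QuasiSober X] [PartialOrder X]
    (h : SpecOrd X) {Z : Set X} (hZ : IsIrreducible Z) (hZc : IsClosed Z) :
    ∃ x : X, Z = {y | x ≤ y} := by
  obtain ⟨x, hx⟩ := QuasiSober.sober hZ hZc
  exact ⟨x, by rw [← closure_singleton_eq h, hx.def]⟩

/-- irreducible components are closures of minimal points -/
theorem exists_minimal_of_mem_irreducibleComponents {X : Type*} [TopologicalSpace X]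
    [QuasiSober X] [PartialOrder X] (h : SpecOrd X) {C : Set X}
    (hC : C ∈ irreducibleComponents X) :
    ∃ x : X, C = {y | x ≤ y} ∧ ∀ y : X, y ≤ x → y = x := by
  obtain ⟨x, hx⟩ := exists_eq_Ici h hC.1 (isClosed_of_mem_irreducibleComponents C hC)
  refine ⟨x, hx, fun y hy => ?_⟩
  have h1 : IsIrreducible (closure ({y} : Set X)) := isIrreducible_singleton.closure
  have h2 : C ⊆ closure ({y} : Set X) := by
    rw [hx, closure_singleton_eq h]
    intro z hz
    exact le_trans hy hz
  have h3 : closure ({y} : Set X) ⊆ C := hC.2 h1 h2
  have h4 : y ∈ C := h3 (subset_closure rfl)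
  rw [hx] at h4
  exact le_antisymm hy h4

/-- conversely closures of minimal points are irreducible components -/
theorem mem_irreducibleComponents_of_minimal {X : Type*} [TopologicalSpace X]
    [QuasiSober X] [PartialOrder X] (h : SpecOrd X) (x : X) (hx : ∀ y : X, y ≤ x → y = x) :
    {y | x ≤ y} ∈ irreducibleComponents X := by
  rw [← closure_singleton_eq h]
  refine ⟨isIrreducible_singleton.closure, fun D hD hle => ?_⟩
  have hD' : IsIrreducible (closure D) := hD.closure
  obtain ⟨z, hz⟩ := exists_eq_Ici h hD' isClosed_closure
  have h1 : x ∈ closure D := subset_closure (hle (subset_closure rfl))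
  rw [hz] at h1
  have h2 := hx z h1
  subst h2
  rw [closure_singleton_eq h, ← hz]
  exact subset_closure

/-- dimension of an irreducible component of a closed subspace, computed in the ambient space -/
theorem exists_minimal_of_mem_irreducibleComponents_subtype {X : Type*} [TopologicalSpace X]
    [QuasiSober X] [T0Space X] [PartialOrder X] (h : SpecOrd X) {W : Set X} (hW : IsClosed W)
    {C : Set ↥W} (hC : C ∈ irreducibleComponents ↥W) :
    ∃ x : X, x ∈ W ∧ (∀ y ∈ W, y ≤ x → y = x) ∧
      topologicalKrullDim ↥C = krullDim ↥{y : X | x ≤ y} := by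
  have := quasiSober_subtype hW
  obtain ⟨x, hx, hmin⟩ := exists_minimal_of_mem_irreducibleComponents (h.subtype W) hC
  refine ⟨x.1, x.2, fun y hy hyx => ?_, ?_⟩
  · have := hmin ⟨y, hy⟩ hyx
    exact congrArg Subtype.val this
  · have hCc : IsClosed C := isClosed_of_mem_irreducibleComponents C hC
    rw [topologicalKrullDim_subtype_eq (h.subtype W) hCc]
    subst hx
    refine krullDim_eq_of_orderIso
      { toFun := fun y => ⟨y.1.1, y.2⟩
        invFun := fun z => ⟨⟨z.1, mem_of_le h hW x.2 z.2⟩, z.2⟩
        left_inv := fun y => rfl
        right_inv := fun z => rfl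
        map_rel_iff' := Iff.rfl }

theorem topologicalKrullDim_mono {X : Type*} [TopologicalSpace X] {A B : Set X} (hAB : A ⊆ B) :
    topologicalKrullDim ↥A ≤ topologicalKrullDim ↥B :=
  (IsEmbedding.inclusion hAB).isInducing.topologicalKrullDim_le

/-- cancellation of `+ 1` in `WithBot ℕ∞` -/
theorem add_one_cancel {a b : WithBot ℕ∞} (h : a + 1 = b + 1) : a = b := by
  induction a using WithBot.recBotCoe with
  | bot =>
    induction b using WithBot.recBotCoe with
    | bot => rfl
    | coe b =>
      rw [WithBot.bot_add] at h
      exact absurd h.symm (by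
        have : ((b : WithBot ℕ∞) + 1) = ((b + 1 : ℕ∞) : WithBot ℕ∞) := rfl
        rw [this]; exact WithBot.coe_ne_bot)
  | coe a =>
    induction b using WithBot.recBotCoe with
    | bot =>
      rw [WithBot.bot_add] at h
      exact absurd h (by
        have : ((a : WithBot ℕ∞) + 1) = ((a + 1 : ℕ∞) : WithBot ℕ∞) := rfl
        rw [this]; exact WithBot.coe_ne_bot)
    | coe b =>
      have h' : ((a + 1 : ℕ∞) : WithBot ℕ∞) = ((b + 1 : ℕ∞) : WithBot ℕ∞) := h
      have h'' : a + 1 = b + 1 := WithBot.coe_injective h'
      have : a = b := by
        induction a using ENat.recTopCoe with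
        | top =>
          induction b using ENat.recTopCoe with
          | top => rfl
          | coe b =>
            exfalso
            rw [top_add] at h''
            have : ((b : ℕ∞) + 1) = ((b + 1 : ℕ) : ℕ∞) := by push_cast; rfl
            rw [this] at h''
            exact ENat.top_ne_natCast _ h''
        | coe a =>
          induction b using ENat.recTopCoe with
          | top =>
            exfalso
            rw [top_add] at h''
            have : ((a : ℕ∞) + 1) = ((a + 1 : ℕ) : ℕ∞) := by push_cast; rfl
            rw [this] at h''
            exact ENat.natCast_ne_top _ h''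
          | coe b =>
            have : (a + 1 : ℕ) = (b + 1 : ℕ) := by exact_mod_cast h''
            have : a = b := by omega
            rw [this]
      rw [this]

theorem add_one_le_add_one {a b : WithBot ℕ∞} (h : a + 1 ≤ b + 1) (hb : b ≠ ⊤) : a ≤ b := by
  induction a using WithBot.recBotCoe with
  | bot => exact bot_le
  | coe a =>
    induction b using WithBot.recBotCoe with
    | bot =>
      rw [WithBot.bot_add, le_bot_iff] at h
      exact absurd h (by
        have : ((a : WithBot ℕ∞) + 1) = ((a + 1 : ℕ∞) : WithBot ℕ∞) := rfl
        rw [this]; exact WithBot.coe_ne_bot)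
    | coe b =>
      have h' : ((a + 1 : ℕ∞) : WithBot ℕ∞) ≤ ((b + 1 : ℕ∞) : WithBot ℕ∞) := h
      have h'' : a + 1 ≤ b + 1 := WithBot.coe_le_coe.mp h'
      have hb' : b ≠ ⊤ := by
        rintro rfl
        exact hb rfl
      have : a ≤ b := by
        induction b using ENat.recTopCoe with
        | top => exact absurd rfl hb'
        | coe b =>
          induction a using ENat.recTopCoe with
          | top =>
            exfalso
            rw [top_add, top_le_iff] at h''
            have : ((b : ℕ∞) + 1) = ((b + 1 : ℕ) : ℕ∞) := by push_cast; rfl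
            rw [this] at h''
            exact ENat.natCast_ne_top _ h''
          | coe a =>
            have : (a + 1 : ℕ) ≤ (b + 1 : ℕ) := by exact_mod_cast h''
            have : a ≤ b := by omega
            exact_mod_cast this
      exact WithBot.coe_le_coe.mpr this

end Groth.Agent.Lib.Helper14.PD1
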