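import Mathlib
import Groth.Agent.Lib.Helper14.PD1
import Groth.Agent.Lib.Helper87.HilbFnG
import Groth.Agent.Lib.Helper87.HilbFnI
import Groth.Agent.Lib.Helper73.DimField

/-!
# Dimension theory of projective space over a field: the dictionary with homogeneous primes
-/

set_option autoImplicit false
set_option linter.style.haveILetI false
universe u
open MvPolynomial Order

namespace Groth.Agent.Lib.Helper14.PD2

open Groth.Agent.Lib.Helper14.PD1
open Groth.Agent.Lib.Helper73.DimFormula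
open Groth.Agent.Lib.Helper87.HilbFnG Groth.Agent.Lib.Helper87.HilbFnE
open Groth.Agent.Lib.Helper87.HilbFnI

section general

theorem exists_nat_dim {k : Type u} [Field k] {R : Type u} [CommRing R] [Algebra k R]
    [Algebra.FiniteType k R] (P : Ideal R) [P.IsPrime] : ∃ d : ℕ, ringKrullDim (R ⧸ P) = d := by
  haveI : Algebra.FiniteType k (R ⧸ P) :=
    Algebra.FiniteType.of_surjective (Ideal.Quotient.mkₐ k P) (Ideal.Quotient.mkₐ_surjective k P)
  obtain ⟨n, -, hd, -, -⟩ := exists_trdeg_eq_ringKrullDim k (R ⧸ P)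
  exact ⟨n, hd⟩

/-- in a finite type algebra over a field, `dim R/P = ht (Q/P) + dim R/Q` -/
theorem dim_quot_eq_height_add {k : Type u} [Field k] {R : Type u} [CommRing R] [Algebra k R]
    [Algebra.FiniteType k R] (P Q : Ideal R) [hP : P.IsPrime] [hQ : Q.IsPrime] (hPQ : P ≤ Q) :
    ringKrullDim (R ⧸ P) =
      ((Q.map (Ideal.Quotient.mk P)).height : WithBot ℕ∞) + ringKrullDim (R ⧸ Q) := by
  haveI : IsNoetherianRing R := Algebra.FiniteType.isNoetherianRing k R
  haveI : Algebra.FiniteType k (R ⧸ P) :=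
    Algebra.FiniteType.of_surjective (Ideal.Quotient.mkₐ k P) (Ideal.Quotient.mkₐ_surjective k P)
  set Q' : Ideal (R ⧸ P) := Q.map (Ideal.Quotient.mk P) with hQ'
  haveI hQ'p : Q'.IsPrime :=
    Ideal.map_isPrime_of_surjective Ideal.Quotient.mk_surjective (by rwa [Ideal.mk_ker])
  haveI : Algebra.FiniteType k ((R ⧸ P) ⧸ Q') :=
    Algebra.FiniteType.of_surjective (Ideal.Quotient.mkₐ k Q') (Ideal.Quotient.mkₐ_surjective k Q')
  obtain ⟨n₁, hn₁, hd₁, -, hht⟩ := exists_trdeg_eq_ringKrullDim k (R ⧸ P)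
  obtain ⟨n₂, hn₂, hd₂, -, -⟩ := exists_trdeg_eq_ringKrullDim k ((R ⧸ P) ⧸ Q')
  have h4 := height_add_trdeg_eq_of_field k (R ⧸ P) Q'
  rw [hn₁, hn₂] at h4
  have hfin : Q'.height ≤ n₁ := hht Q'
  obtain ⟨h, hh⟩ : ∃ h : ℕ, Q'.height = h := by
    refine ⟨Q'.height.toNat, (ENat.natCast_toNat ?_).symm⟩
    intro htop
    rw [htop] at hfin
    exact absurd hfin (by simp)
  rw [hh] at h4
  have h5 : h + n₂ = n₁ := by exact_mod_cast h4
  have h6 : ringKrullDim (R ⧸ Q) = ringKrullDim ((R ⧸ P) ⧸ Q') :=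
    (ringKrullDim_eq_of_ringEquiv (DoubleQuot.quotQuotEquivQuotOfLE hPQ)).symm
  rw [h6, hd₁, hd₂, hh, ← h5]
  push_cast
  rfl

/-- Krull's height theorem in dimension form -/
theorem dim_le_add_of_mem_minimalPrimes {k : Type u} [Field k] {R : Type u} [CommRing R]
    [Algebra k R] [Algebra.FiniteType k R] (P Q : Ideal R) [hP : P.IsPrime] (r : ℕ) (f : Fin r → R)
    (hQ : Q ∈ (P ⊔ Ideal.span (Set.range f)).minimalPrimes) :
    ringKrullDim (R ⧸ P) ≤ ringKrullDim (R ⧸ Q) + (r : WithBot ℕ∞) := by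
  classical
  haveI : IsNoetherianRing R := Algebra.FiniteType.isNoetherianRing k R
  haveI hQp : Q.IsPrime := hQ.1.1
  have hPQ : P ≤ Q := le_sup_left.trans hQ.1.2
  rw [dim_quot_eq_height_add (k := k) P Q hPQ, add_comm]
  gcongr
  -- the height bound
  set Q' : Ideal (R ⧸ P) := Q.map (Ideal.Quotient.mk P) with hQ'
  have hmin : Q' ∈ (Ideal.span (Set.range (fun i => Ideal.Quotient.mk P (f i)))).minimalPrimes := by
    have h1 : Ideal.span (Set.range (fun i => Ideal.Quotient.mk P (f i))) =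
        (P ⊔ Ideal.span (Set.range f)).map (Ideal.Quotient.mk P) := by
      rw [Ideal.map_sup, Ideal.map_quotient_self, bot_sup_eq, Ideal.map_span, ← Set.range_comp]
      rfl
    rw [h1, Ideal.minimalPrimes_map_of_surjective Ideal.Quotient.mk_surjective]
    refine ⟨Q, ?_, rfl⟩
    rw [Ideal.mk_ker]
    have : P ⊔ Ideal.span (Set.range f) ⊔ P = P ⊔ Ideal.span (Set.range f) := by
      rw [sup_comm, ← sup_assoc, sup_idem]
    rw [this]
    exact hQ
  have hfin : (Set.range (fun i => Ideal.Quotient.mk P (f i))).Finite := Set.finite_range _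
  have h2 := Ideal.height_le_card_of_mem_minimalPrimes_span hfin hmin
  have h3 : (Set.range (fun i => Ideal.Quotient.mk P (f i))).ncard ≤ r := by
    rw [← Set.image_univ]
    refine (Set.ncard_image_le Set.finite_univ).trans ?_
    rw [Set.ncard_univ, Nat.card_fin]
  have h5 : Q'.height ≤ (r : ℕ∞) := h2.trans (by exact_mod_cast h3)
  exact_mod_cast h5

end general

section poly

variable {k : Type u} [Field k] {σ : Type} [Finite σ]

attribute [local instance] MvPolynomial.gradedAlgebra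

local notation "𝒜" => homogeneousSubmodule σ k

omit [Finite σ] in
theorem irrelevant_eq_irr : (HomogeneousIdeal.irrelevant 𝒜).toIdeal = irr k σ := by
  ext f
  change GradedRing.proj 𝒜 0 f = 0 ↔ _
  rw [mem_irr, GradedRing.proj_apply]
  have h1 : (DirectSum.decompose 𝒜 f 0 : MvPolynomial σ k) = homogeneousComponent 0 f :=
    decomposition.decompose'_apply f 0
  rw [h1, homogeneousComponent_zero, ← constantCoeff_eq]
  constructor
  · intro h
    have := congrArg constantCoeff h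
    simpa using this
  · intro h
    rw [h, C_0]

omit [Finite σ] in
theorem le_irr_of_isHomogeneous {J : Ideal (MvPolynomial σ k)} (hJ : J.IsHomogeneous 𝒜)
    (hJtop : J ≠ ⊤) : J ≤ irr k σ := fun _ hf =>
  mem_irr.mpr (constantCoeff_eq_zero_of_mem hJ hJtop hf)

omit [Finite σ] in
theorem irr_isHomogeneous : (irr k σ).IsHomogeneous 𝒜 := by
  rw [← irrelevant_eq_irr]
  exact (HomogeneousIdeal.irrelevant 𝒜).isHomogeneous

omit [Finite σ] in
/-- a homogeneous prime is irrelevant iff its quotient has dimension zero -/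
theorem dim_eq_zero_iff {p : Ideal (MvPolynomial σ k)} [hp : p.IsPrime] (hph : p.IsHomogeneous 𝒜) :
    ringKrullDim (MvPolynomial σ k ⧸ p) = 0 ↔ (HomogeneousIdeal.irrelevant 𝒜).toIdeal ≤ p := by
  rw [irrelevant_eq_irr]
  have hle := le_irr_of_isHomogeneous hph hp.ne_top
  constructor
  · intro h0
    by_contra hne
    have hlt : p < irr k σ := lt_of_le_of_ne hle (fun h => hne h.ge)
    have h1 : (1 : WithBot ℕ∞) ≤ ringKrullDim (MvPolynomial σ k ⧸ p) := by
      rw [ringKrullDim_quotient, Order.one_le_krullDim_iff]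
      refine ⟨⟨⟨p, hp⟩, fun _ h => h⟩, ⟨⟨irr k σ, inferInstance⟩, hle⟩, ?_⟩
      exact hlt
    rw [h0] at h1
    exact absurd h1 (by simp)
  · intro h
    have heq : p = irr k σ := le_antisymm hle h
    have hmax : p.IsMaximal := heq ▸ irr_isMaximal
    letI := Ideal.Quotient.field p
    exact ringKrullDim_eq_zero_of_field _

theorem one_le_dim_of_relevant {p : Ideal (MvPolynomial σ k)} [hp : p.IsPrime]
    (hph : p.IsHomogeneous 𝒜) (hrel : ¬ (HomogeneousIdeal.irrelevant 𝒜).toIdeal ≤ p) :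
    ∃ d : ℕ, ringKrullDim (MvPolynomial σ k ⧸ p) = ((d + 1 : ℕ) : WithBot ℕ∞) := by
  obtain ⟨d, hd⟩ := exists_nat_dim (k := k) p
  rcases Nat.eq_zero_or_pos d with h0 | hpos
  · exfalso
    apply hrel
    rw [← dim_eq_zero_iff hph, hd, h0]
    rfl
  · exact ⟨d - 1, by rw [hd]; congr 1; omega⟩

/-- the point of `Proj` attached to a relevant homogeneous prime -/
def mkPt (p : Ideal (MvPolynomial σ k)) (hp : p.IsPrime) (hph : p.IsHomogeneous 𝒜)
    (hrel : ¬ (HomogeneousIdeal.irrelevant 𝒜).toIdeal ≤ p) : ProjectiveSpectrum 𝒜 :=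
  ⟨⟨p, hph⟩, hp, fun h => hrel h⟩

omit [Finite σ] in
@[simp] theorem mkPt_toIdeal (p : Ideal (MvPolynomial σ k)) (hp : p.IsPrime)
    (hph : p.IsHomogeneous 𝒜) (hrel : ¬ (HomogeneousIdeal.irrelevant 𝒜).toIdeal ≤ p) :
    (mkPt p hp hph hrel).asHomogeneousIdeal.toIdeal = p := rfl

omit [Finite σ] in
theorem specOrd : SpecOrd (ProjectiveSpectrum 𝒜) := fun x y =>
  ProjectiveSpectrum.le_iff_mem_closure 𝒜 x y

instance : QuasiSober (ProjectiveSpectrum 𝒜) :=
  inferInstanceAs (QuasiSober (AlgebraicGeometry.Proj 𝒜))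

instance : T0Space (ProjectiveSpectrum 𝒜) :=
  inferInstanceAs (T0Space (AlgebraicGeometry.Proj 𝒜))

omit [Finite σ] in
theorem le_iff (x y : ProjectiveSpectrum 𝒜) :
    x ≤ y ↔ x.asHomogeneousIdeal.toIdeal ≤ y.asHomogeneousIdeal.toIdeal := Iff.rfl

omit [Finite σ] in
theorem zeroLocus_eq_Ici (x : ProjectiveSpectrum 𝒜) :
    ProjectiveSpectrum.zeroLocus 𝒜 (x.asHomogeneousIdeal.toIdeal : Set (MvPolynomial σ k)) =
      {y | x ≤ y} := rfl

omit [Finite σ] in
/-- exists a variable outside a relevant prime -/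
theorem exists_X_notMem (x : ProjectiveSpectrum 𝒜) :
    ∃ i, (X i : MvPolynomial σ k) ∉ x.asHomogeneousIdeal.toIdeal := by
  by_contra hall
  push Not at hall
  apply x.not_irrelevant_le
  change (HomogeneousIdeal.irrelevant 𝒜).toIdeal ≤ x.asHomogeneousIdeal.toIdeal
  rw [irrelevant_eq_irr]
  have h0 := dim_eq_zero_of_X_mem (p := x.asHomogeneousIdeal.toIdeal) hall
  rw [dim_eq_zero_iff x.asHomogeneousIdeal.isHomogeneous, irrelevant_eq_irr] at h0
  exact h0

/-- cutting by a hypersurface not containing the point -/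
theorem exists_gt_of_dim (x : ProjectiveSpectrum 𝒜) (d : ℕ)
    (hd : ringKrullDim (MvPolynomial σ k ⧸ x.asHomogeneousIdeal.toIdeal) = ((d + 2 : ℕ) : WithBot ℕ∞)) :
    ∃ y : ProjectiveSpectrum 𝒜, x < y ∧
      ringKrullDim (MvPolynomial σ k ⧸ y.asHomogeneousIdeal.toIdeal) = ((d + 1 : ℕ) : WithBot ℕ∞) := by
  obtain ⟨i, hi⟩ := exists_X_notMem x
  set p := x.asHomogeneousIdeal.toIdeal with hp
  have hph : p.IsHomogeneous 𝒜 := x.asHomogeneousIdeal.isHomogeneous
  have hne := sup_span_X_ne_top hph (x.isPrime.ne_top) i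
  obtain ⟨q, hq⟩ := Ideal.nonempty_minimalPrimes hne
  haveI hqp : q.IsPrime := hq.1.1
  have hI'h : (p ⊔ Ideal.span {(X i : MvPolynomial σ k)}).IsHomogeneous 𝒜 := by
    refine hph.sup (Ideal.homogeneous_span _ _ ?_)
    intro z hz
    rw [Set.mem_singleton_iff] at hz
    subst hz
    exact ⟨1, isHomogeneous_X k i⟩
  have hqh := isHomogeneous_of_mem_minimalPrimes hI'h hq
  have hdrop := dim_drop_prime (k := k) p q (X i) hi hq
  rw [hd] at hdrop
  have hdq : ringKrullDim (MvPolynomial σ k ⧸ q) = ((d + 1 : ℕ) : WithBot ℕ∞) := by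
    apply add_one_cancel
    rw [← hdrop]
    push_cast
    rfl
  have hrel : ¬ (HomogeneousIdeal.irrelevant 𝒜).toIdeal ≤ q := by
    rw [← dim_eq_zero_iff hqh, hdq]
    intro h
    have : ((d + 1 : ℕ) : WithBot ℕ∞) = ((0 : ℕ) : WithBot ℕ∞) := h
    have : d + 1 = 0 := by exact_mod_cast this
    omega
  refine ⟨mkPt q hqp hqh hrel, ?_, hdq⟩
  have hle : p ≤ q := le_sup_left.trans hq.1.2
  have hiq : (X i : MvPolynomial σ k) ∈ q :=
    hq.1.2 (Ideal.mem_sup_right (Ideal.mem_span_singleton_self _))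
  refine lt_of_le_of_ne hle ?_
  intro h
  apply hi
  have : (X i : MvPolynomial σ k) ∈ (mkPt q hqp hqh hrel).asHomogeneousIdeal.toIdeal := hiq
  rw [← h] at this
  exact this

theorem le_krullDim_Ici : ∀ (d : ℕ) (x : ProjectiveSpectrum 𝒜),
    ringKrullDim (MvPolynomial σ k ⧸ x.asHomogeneousIdeal.toIdeal) = ((d + 1 : ℕ) : WithBot ℕ∞) →
    (d : WithBot ℕ∞) ≤ krullDim ↥{y : ProjectiveSpectrum 𝒜 | x ≤ y} := by
  intro d
  induction d with
  | zero =>
    intro x _
    haveI : Nonempty ↥{y : ProjectiveSpectrum 𝒜 | x ≤ y} := ⟨⟨x, le_refl x⟩⟩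
    exact krullDim_nonneg
  | succ d ih =>
    intro x hx
    obtain ⟨y, hxy, hy⟩ := exists_gt_of_dim x d hx
    have h1 := ih y hy
    haveI : Nonempty ↥{z : ProjectiveSpectrum 𝒜 | y ≤ z} := ⟨⟨y, le_refl y⟩⟩
    let φ : WithBot ↥{z : ProjectiveSpectrum 𝒜 | y ≤ z} → ↥{z : ProjectiveSpectrum 𝒜 | x ≤ z} :=
      fun w => WithBot.recBotCoe ⟨x, le_refl x⟩ (fun z => ⟨z.1, hxy.le.trans z.2⟩) w
    have hφ : StrictMono φ := by
      rw [WithBot.strictMono_iff]
      refine ⟨fun a b hab => hab, fun z => ?_⟩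
      change x < z.1
      exact lt_of_lt_of_le hxy z.2
    have h2 := krullDim_le_of_strictMono φ hφ
    rw [krullDim_withBot] at h2
    refine le_trans ?_ h2
    push_cast
    gcongr

/-- **dimension of the cone**: `dim {y ≥ x} + 1 = dim S/x` -/
theorem krullDim_Ici_add_one (x : ProjectiveSpectrum 𝒜) :
    krullDim ↥{y : ProjectiveSpectrum 𝒜 | x ≤ y} + 1 =
      ringKrullDim (MvPolynomial σ k ⧸ x.asHomogeneousIdeal.toIdeal) := by
  set p := x.asHomogeneousIdeal.toIdeal with hp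
  have hph : p.IsHomogeneous 𝒜 := x.asHomogeneousIdeal.isHomogeneous
  have hrel : ¬ (HomogeneousIdeal.irrelevant 𝒜).toIdeal ≤ p := x.not_irrelevant_le
  obtain ⟨d, hd⟩ := one_le_dim_of_relevant hph hrel
  have h1 := le_krullDim_Ici d x hd
  haveI : Nonempty ↥{y : ProjectiveSpectrum 𝒜 | x ≤ y} := ⟨⟨x, le_refl x⟩⟩
  have hirr : p ≤ irr k σ := le_irr_of_isHomogeneous hph x.isPrime.ne_top
  let φ : WithTop ↥{y : ProjectiveSpectrum 𝒜 | x ≤ y} →
      ↥(PrimeSpectrum.zeroLocus (R := MvPolynomial σ k) (p : Set (MvPolynomial σ k))) :=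
    fun w => WithTop.recTopCoe ⟨⟨irr k σ, inferInstance⟩, hirr⟩
      (fun z => ⟨⟨z.1.asHomogeneousIdeal.toIdeal, z.1.isPrime⟩, z.2⟩) w
  have hφ : StrictMono φ := by
    rw [WithTop.strictMono_iff]
    refine ⟨fun a b hab => hab, fun z => ?_⟩
    change z.1.asHomogeneousIdeal.toIdeal < irr k σ
    refine lt_of_le_of_ne (le_irr_of_isHomogeneous z.1.asHomogeneousIdeal.isHomogeneous
      z.1.isPrime.ne_top) ?_
    intro h
    apply z.1.not_irrelevant_le
    change (HomogeneousIdeal.irrelevant 𝒜).toIdeal ≤ z.1.asHomogeneousIdeal.toIdeal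
    rw [irrelevant_eq_irr, h]
  have h2 := krullDim_le_of_strictMono φ hφ
  rw [krullDim_WithTop, ← ringKrullDim_quotient, hd] at h2
  have h3 : krullDim ↥{y : ProjectiveSpectrum 𝒜 | x ≤ y} ≤ (d : WithBot ℕ∞) := by
    apply add_one_le_add_one
    · refine h2.trans (le_of_eq ?_)
      push_cast
      rfl
    · intro h
      have : ((d : ℕ∞) : WithBot ℕ∞) = ((⊤ : ℕ∞) : WithBot ℕ∞) := h
      have := WithBot.coe_injective this
      exact ENat.natCast_ne_top _ this
  rw [hd, le_antisymm h3 h1]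
  push_cast
  rfl

/-- topological dimension of `V_+(x)` -/
theorem topologicalKrullDim_zeroLocus_add_one (x : ProjectiveSpectrum 𝒜) :
    topologicalKrullDim ↥(ProjectiveSpectrum.zeroLocus 𝒜
        (x.asHomogeneousIdeal.toIdeal : Set (MvPolynomial σ k))) + 1 =
      ringKrullDim (MvPolynomial σ k ⧸ x.asHomogeneousIdeal.toIdeal) := by
  rw [topologicalKrullDim_subtype_eq specOrd (ProjectiveSpectrum.isClosed_zeroLocus 𝒜 _),
    zeroLocus_eq_Ici]
  exact krullDim_Ici_add_one x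

end poly

end Groth.Agent.Lib.Helper14.PD2
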