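import Mathlib
import Groth.Agent.Lib.Helper14.PD2

/-!
# Hauptidealsatz in projective space over a field
-/

set_option autoImplicit false
set_option linter.style.haveILetI false
universe u
open MvPolynomial Order

namespace Groth.Agent.Lib.Helper14.PD3

open Groth.Agent.Lib.Helper14.PD1 Groth.Agent.Lib.Helper14.PD2
open Groth.Agent.Lib.Helper73.DimFormula
open Groth.Agent.Lib.Helper87.HilbFnG Groth.Agent.Lib.Helper87.HilbFnE
open Groth.Agent.Lib.Helper87.HilbFnI

variable {k : Type u} [Field k] {σ : Type} [Finite σ]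

attribute [local instance] MvPolynomial.gradedAlgebra

local notation "𝒜" => homogeneousSubmodule σ k

omit [Finite σ] in
/-- closed irreducible subsets are `V_+(x)` -/
theorem exists_point_of_irreducible {X : Set (ProjectiveSpectrum 𝒜)} (hXc : IsClosed X)
    (hXi : IsIrreducible X) : ∃ x : ProjectiveSpectrum 𝒜, X = {y | x ≤ y} :=
  exists_eq_Ici specOrd hXi hXc

omit [Finite σ] in
/-- a minimal prime below a relevant prime gives a point -/
theorem exists_minimal_point {I : Ideal (MvPolynomial σ k)} (hI : I.IsHomogeneous 𝒜)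
    (y : ProjectiveSpectrum 𝒜) (hy : I ≤ y.asHomogeneousIdeal.toIdeal) :
    ∃ z : ProjectiveSpectrum 𝒜, z ≤ y ∧ z.asHomogeneousIdeal.toIdeal ∈ I.minimalPrimes := by
  obtain ⟨q, hq, hqy⟩ := Ideal.exists_minimalPrimes_le hy
  have hqp : q.IsPrime := hq.1.1
  have hqh := isHomogeneous_of_mem_minimalPrimes hI hq
  have hrel : ¬ (HomogeneousIdeal.irrelevant 𝒜).toIdeal ≤ q := fun h =>
    y.not_irrelevant_le (h.trans hqy)
  exact ⟨mkPt q hqp hqh hrel, hqy, hq⟩

/-- irreducible components of `V_+(I)` come from minimal primes, with their dimension -/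
theorem comp_dim {I : Ideal (MvPolynomial σ k)} (hI : I.IsHomogeneous 𝒜)
    (W : Set (ProjectiveSpectrum 𝒜))
    (hW : W = ProjectiveSpectrum.zeroLocus 𝒜 (I : Set (MvPolynomial σ k)))
    (C : Set ↥W) (hC : C ∈ irreducibleComponents ↥W) :
    ∃ y : ProjectiveSpectrum 𝒜, y.asHomogeneousIdeal.toIdeal ∈ I.minimalPrimes ∧
      topologicalKrullDim ↥C + 1 = ringKrullDim (MvPolynomial σ k ⧸ y.asHomogeneousIdeal.toIdeal) := by
  subst hW
  obtain ⟨y, hyW, hmin, hdim⟩ := exists_minimal_of_mem_irreducibleComponents_subtype specOrd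
    (ProjectiveSpectrum.isClosed_zeroLocus 𝒜 _) hC
  refine ⟨y, ?_, ?_⟩
  · obtain ⟨z, hzy, hz⟩ := exists_minimal_point hI y hyW
    have := hmin z hz.1.2 hzy
    rw [← this]
    exact hz
  · rw [hdim]
    exact krullDim_Ici_add_one y

omit [Finite σ] in
theorem zeroLocus_sup_span (x : ProjectiveSpectrum 𝒜) (s : Set (MvPolynomial σ k)) :
    {y | x ≤ y} ∩ ProjectiveSpectrum.zeroLocus 𝒜 s =
      ProjectiveSpectrum.zeroLocus 𝒜
        ((x.asHomogeneousIdeal.toIdeal ⊔ Ideal.span s : Ideal (MvPolynomial σ k)) :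
          Set (MvPolynomial σ k)) := by
  rw [ProjectiveSpectrum.zeroLocus_sup_ideal, ProjectiveSpectrum.zeroLocus_span]
  rfl

omit [Finite σ] in
theorem sup_span_isHomogeneous (x : ProjectiveSpectrum 𝒜) (s : Set (MvPolynomial σ k))
    (hs : ∀ f ∈ s, ∃ d, f.IsHomogeneous d) :
    (x.asHomogeneousIdeal.toIdeal ⊔ Ideal.span s).IsHomogeneous 𝒜 := by
  refine x.asHomogeneousIdeal.isHomogeneous.sup (Ideal.homogeneous_span _ _ ?_)
  intro z hz
  obtain ⟨d, hd⟩ := hs z hz
  exact ⟨d, hd⟩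

omit [Finite σ] in
theorem sup_span_ne_top (x : ProjectiveSpectrum 𝒜) (s : Set (MvPolynomial σ k))
    (hs : ∀ f ∈ s, f ∈ irr k σ) :
    x.asHomogeneousIdeal.toIdeal ⊔ Ideal.span s ≠ ⊤ := by
  intro h
  have hle : x.asHomogeneousIdeal.toIdeal ⊔ Ideal.span s ≤ irr k σ :=
    sup_le (le_irr_of_isHomogeneous x.asHomogeneousIdeal.isHomogeneous x.isPrime.ne_top)
      (Ideal.span_le.mpr hs)
  rw [h, top_le_iff] at hle
  exact (irr_isMaximal (k := k) (σ := σ)).ne_top hle

/-- the dimension of `V_+(x)` as a natural number -/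
theorem exists_nat_dim_point (x : ProjectiveSpectrum 𝒜) :
    ∃ e : ℕ, ringKrullDim (MvPolynomial σ k ⧸ x.asHomogeneousIdeal.toIdeal) = ((e + 1 : ℕ) : WithBot ℕ∞) ∧
      topologicalKrullDim ↥{y : ProjectiveSpectrum 𝒜 | x ≤ y} = (e : WithBot ℕ∞) := by
  obtain ⟨e, he⟩ := one_le_dim_of_relevant x.asHomogeneousIdeal.isHomogeneous x.not_irrelevant_le
  refine ⟨e, he, ?_⟩
  apply add_one_cancel
  have := topologicalKrullDim_zeroLocus_add_one x
  rw [zeroLocus_eq_Ici] at this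
  rw [this, he]
  push_cast
  rfl

omit [Finite σ] in
/-- a homogeneous prime with positive dimensional quotient is relevant -/
theorem relevant_of_dim {q : Ideal (MvPolynomial σ k)} [hq : q.IsPrime] (hqh : q.IsHomogeneous 𝒜)
    (d : ℕ) (hd : ringKrullDim (MvPolynomial σ k ⧸ q) = ((d + 1 : ℕ) : WithBot ℕ∞)) :
    ¬ (HomogeneousIdeal.irrelevant 𝒜).toIdeal ≤ q := by
  rw [← dim_eq_zero_iff hqh, hd]
  intro h
  have : ((d + 1 : ℕ) : WithBot ℕ∞) = ((0 : ℕ) : WithBot ℕ∞) := h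
  have : d + 1 = 0 := by exact_mod_cast this
  omega

/-- **Krull's Hauptidealsatz in projective space** -/
theorem hauptidealsatz (x : ProjectiveSpectrum 𝒜) (f : MvPolynomial σ k) (d : ℕ)
    (hf : f.IsHomogeneous d) (hfirr : f ∈ irr k σ)
    (hfx : f ∉ x.asHomogeneousIdeal.toIdeal)
    (hXd : 0 < topologicalKrullDim ↥{y : ProjectiveSpectrum 𝒜 | x ≤ y}) :
    ({y : ProjectiveSpectrum 𝒜 | x ≤ y} ∩ ProjectiveSpectrum.zeroLocus 𝒜 {f}).Nonempty ∧
      ∀ C ∈ irreducibleComponents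
          ↥({y : ProjectiveSpectrum 𝒜 | x ≤ y} ∩ ProjectiveSpectrum.zeroLocus 𝒜 {f}),
        topologicalKrullDim ↥C + 1 = topologicalKrullDim ↥{y : ProjectiveSpectrum 𝒜 | x ≤ y} := by
  obtain ⟨e, he, htop⟩ := exists_nat_dim_point x
  have hepos : 1 ≤ e := by
    rw [htop] at hXd
    have : ((0 : ℕ) : WithBot ℕ∞) < (e : WithBot ℕ∞) := hXd
    have : 0 < e := by exact_mod_cast this
    omega
  set I := x.asHomogeneousIdeal.toIdeal ⊔ Ideal.span {f} with hIdef
  have hIh : I.IsHomogeneous 𝒜 := sup_span_isHomogeneous x {f} (by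
    intro g hg
    rw [Set.mem_singleton_iff] at hg
    exact ⟨d, hg ▸ hf⟩)
  have hItop : I ≠ ⊤ := sup_span_ne_top x {f} (by
    intro g hg
    rw [Set.mem_singleton_iff] at hg
    exact hg ▸ hfirr)
  have hWeq := zeroLocus_sup_span x {f}
  have hdrop : ∀ q ∈ I.minimalPrimes,
      ringKrullDim (MvPolynomial σ k ⧸ q) = ((e : ℕ) : WithBot ℕ∞) := by
    intro q hq
    have h1 := dim_drop_prime (k := k) x.asHomogeneousIdeal.toIdeal q f hfx hq
    rw [he] at h1
    apply add_one_cancel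
    rw [← h1]
    push_cast
    rfl
  constructor
  · obtain ⟨q, hq⟩ := Ideal.nonempty_minimalPrimes hItop
    haveI hqp : q.IsPrime := hq.1.1
    have hqh := isHomogeneous_of_mem_minimalPrimes hIh hq
    have hdq := hdrop q hq
    have hrel : ¬ (HomogeneousIdeal.irrelevant 𝒜).toIdeal ≤ q :=
      relevant_of_dim hqh (e - 1) (by rw [hdq]; congr 1; omega)
    refine ⟨mkPt q hqp hqh hrel, ?_⟩
    rw [hWeq]
    exact hq.1.2
  · intro C hC
    obtain ⟨y, hy, hdim⟩ := comp_dim hIh _ hWeq C hC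
    rw [hdrop _ hy] at hdim
    rw [hdim, htop]

/-- **codimension of intersections with `r` hypersurfaces** -/
theorem codim_le (x : ProjectiveSpectrum 𝒜) (r : ℕ) (f : Fin r → MvPolynomial σ k)
    (d : Fin r → ℕ) (hf : ∀ i, (f i).IsHomogeneous (d i)) (hd : ∀ i, 0 < d i) :
    (∀ C ∈ irreducibleComponents
          ↥({y : ProjectiveSpectrum 𝒜 | x ≤ y} ∩ ProjectiveSpectrum.zeroLocus 𝒜 (Set.range f)),
        topologicalKrullDim ↥{y : ProjectiveSpectrum 𝒜 | x ≤ y} ≤
          topologicalKrullDim ↥C + (r : WithBot ℕ∞)) ∧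
      ((r : WithBot ℕ∞) ≤ topologicalKrullDim ↥{y : ProjectiveSpectrum 𝒜 | x ≤ y} →
        ({y : ProjectiveSpectrum 𝒜 | x ≤ y} ∩
          ProjectiveSpectrum.zeroLocus 𝒜 (Set.range f)).Nonempty) := by
  obtain ⟨e, he, htop⟩ := exists_nat_dim_point x
  set I := x.asHomogeneousIdeal.toIdeal ⊔ Ideal.span (Set.range f) with hIdef
  have hIh : I.IsHomogeneous 𝒜 := sup_span_isHomogeneous x _ (by
    rintro g ⟨i, rfl⟩
    exact ⟨d i, hf i⟩)
  have hItop : I ≠ ⊤ := sup_span_ne_top x _ (by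
    rintro g ⟨i, rfl⟩
    exact mem_irr_of_isHomogeneous (hf i) (hd i))
  have hWeq := zeroLocus_sup_span x (Set.range f)
  have hbound : ∀ q ∈ I.minimalPrimes, ringKrullDim (MvPolynomial σ k ⧸ x.asHomogeneousIdeal.toIdeal)
      ≤ ringKrullDim (MvPolynomial σ k ⧸ q) + (r : WithBot ℕ∞) := fun q hq =>
    dim_le_add_of_mem_minimalPrimes (k := k) x.asHomogeneousIdeal.toIdeal q r f hq
  constructor
  · intro C hC
    obtain ⟨y, hy, hdim⟩ := comp_dim hIh _ hWeq C hC
    obtain ⟨ey, hey, -⟩ := exists_nat_dim_point y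
    have h1 := hbound _ hy
    rw [he, hey] at h1
    have h2 : e + 1 ≤ ey + 1 + r := by exact_mod_cast h1
    have h3 : topologicalKrullDim ↥C = (ey : WithBot ℕ∞) := by
      apply add_one_cancel
      rw [hdim, hey]
      push_cast
      rfl
    rw [htop, h3]
    have : e ≤ ey + r := by omega
    exact_mod_cast this
  · intro hr
    rw [htop] at hr
    have hr' : r ≤ e := by exact_mod_cast hr
    obtain ⟨q, hq⟩ := Ideal.nonempty_minimalPrimes hItop
    haveI hqp : q.IsPrime := hq.1.1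
    have hqh := isHomogeneous_of_mem_minimalPrimes hIh hq
    obtain ⟨dq, hdq⟩ := exists_nat_dim (k := k) q
    have h1 := hbound q hq
    rw [he, hdq] at h1
    have h2 : e + 1 ≤ dq + r := by exact_mod_cast h1
    have hrel : ¬ (HomogeneousIdeal.irrelevant 𝒜).toIdeal ≤ q :=
      relevant_of_dim hqh (dq - 1) (by rw [hdq]; congr 1; omega)
    refine ⟨mkPt q hqp hqh hrel, ?_⟩
    rw [hWeq]
    exact hq.1.2

end Groth.Agent.Lib.Helper14.PD3
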