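import Mathlib
import Groth.Agent.Lib.Helper14.PD2

/-!
# The affine dimension theorem for polynomial rings over a field

For primes `p, q` of `S = k[x_1..x_N]` and a minimal prime `m` over `p + q`:
`dim S/p + dim S/q ≤ dim S/m + N`.  Proof by reduction to the diagonal in `(S/p)[y]`.
-/

set_option autoImplicit false
set_option linter.style.haveILetI false
universe u
open MvPolynomial Order

namespace Groth.Agent.Lib.Helper14.PD4

open Groth.Agent.Lib.Helper14.PD1 Groth.Agent.Lib.Helper14.PD2
open Groth.Agent.Lib.Helper73.DimFormula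

/-- for a finite type domain over a field: `dim D = ht Q + dim D/Q` -/
theorem dim_eq_height_add {k : Type u} [Field k] {D : Type u} [CommRing D] [IsDomain D]
    [Algebra k D] [Algebra.FiniteType k D] (Q : Ideal D) [Q.IsPrime] :
    ∃ h dq : ℕ, Q.height = h ∧ ringKrullDim (D ⧸ Q) = dq ∧
      ringKrullDim D = ((h + dq : ℕ) : WithBot ℕ∞) := by
  haveI : Algebra.FiniteType k (D ⧸ Q) :=
    Algebra.FiniteType.of_surjective (Ideal.Quotient.mkₐ k Q) (Ideal.Quotient.mkₐ_surjective k Q)
  obtain ⟨n₁, hn₁, hd₁, -, hht⟩ := exists_trdeg_eq_ringKrullDim k D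
  obtain ⟨n₂, hn₂, hd₂, -, -⟩ := exists_trdeg_eq_ringKrullDim k (D ⧸ Q)
  have h4 := height_add_trdeg_eq_of_field k D Q
  rw [hn₁, hn₂] at h4
  have hfin : Q.height ≤ n₁ := hht Q
  obtain ⟨h, hh⟩ : ∃ h : ℕ, Q.height = h := by
    refine ⟨Q.height.toNat, (ENat.natCast_toNat ?_).symm⟩
    intro htop
    rw [htop] at hfin
    exact absurd hfin (by simp)
  rw [hh] at h4
  have h5 : h + n₂ = n₁ := by exact_mod_cast h4
  exact ⟨h, n₂, hh, hd₂, by rw [hd₁, h5]⟩

variable {k : Type u} [Field k] {N : ℕ}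

attribute [local instance] MvPolynomial.algebraMvPolynomial

theorem flat_poly (A : Type u) [CommRing A] [Algebra k A] :
    Module.Flat (MvPolynomial (Fin N) k) (MvPolynomial (Fin N) A) :=
  Module.Flat.isBaseChange k (MvPolynomial (Fin N) k) A (MvPolynomial (Fin N) A)
    (Algebra.IsPushout.out)

theorem under_eq_of_minimal (A : Type u) [CommRing A] [Algebra k A]
    (q : Ideal (MvPolynomial (Fin N) k)) [hq : q.IsPrime] (P : Ideal (MvPolynomial (Fin N) A))
    (hP : P ∈ (q.map (algebraMap (MvPolynomial (Fin N) k) (MvPolynomial (Fin N) A))).minimalPrimes) :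
    P.under (MvPolynomial (Fin N) k) = q := by
  haveI := flat_poly (k := k) (N := N) A
  haveI hPp : P.IsPrime := hP.1.1
  have hle : q ≤ P.under (MvPolynomial (Fin N) k) := by
    rw [Ideal.under_def]
    exact Ideal.le_comap_of_map_le hP.1.2
  obtain ⟨P', hP'le, hP'prime, hP'over⟩ := Ideal.exists_ideal_le_liesOver_of_le
    (p := q) (q := P.under (MvPolynomial (Fin N) k)) P hle
  have h1 : q.map (algebraMap (MvPolynomial (Fin N) k) (MvPolynomial (Fin N) A)) ≤ P' := by
    rw [Ideal.map_le_iff_le_comap]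
    exact le_of_eq hP'over.over
  have h2 : P ≤ P' := hP.2 ⟨hP'prime, h1⟩ hP'le
  have h3 : P = P' := le_antisymm h2 hP'le
  rw [h3]
  exact hP'over.over.symm

theorem ringKrullDim_mvPolynomial_field : ringKrullDim (MvPolynomial (Fin N) k) = (N : WithBot ℕ∞) := by
  rw [MvPolynomial.ringKrullDim_of_isNoetherianRing, ringKrullDim_eq_zero_of_field, zero_add,
    Nat.card_fin]

/-- minimal primes of `q A[y]` have dimension `dim A + dim S/q` -/
theorem dim_minimal (A : Type u) [CommRing A] [IsDomain A] [Algebra k A] [Algebra.FiniteType k A]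
    (q : Ideal (MvPolynomial (Fin N) k)) [hq : q.IsPrime]
    (P : Ideal (MvPolynomial (Fin N) A))
    (hP : P ∈ (q.map (algebraMap (MvPolynomial (Fin N) k)
      (MvPolynomial (Fin N) A))).minimalPrimes) :
    ringKrullDim A + ringKrullDim (MvPolynomial (Fin N) k ⧸ q) =
      ringKrullDim (MvPolynomial (Fin N) A ⧸ P) := by
  haveI := flat_poly (k := k) (N := N) A
  haveI hPp : P.IsPrime := hP.1.1
  haveI : IsNoetherianRing A := Algebra.FiniteType.isNoetherianRing k A
  haveI : P.LiesOver q := ⟨(under_eq_of_minimal A q P hP).symm⟩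
  have hht := Ideal.height_eq_height_add_of_liesOver_of_hasGoingDown q P
  set I := q.map (algebraMap (MvPolynomial (Fin N) k) (MvPolynomial (Fin N) A)) with hI
  have hzero : (P.map (Ideal.Quotient.mk I)).height = 0 := by
    haveI : (P.map (Ideal.Quotient.mk I)).IsPrime :=
      Ideal.map_isPrime_of_surjective Ideal.Quotient.mk_surjective
        (by rw [Ideal.mk_ker]; exact hP.1.2)
    rw [Ideal.height_eq_zero_iff]
    have h1 := Ideal.minimalPrimes_map_of_surjective (f := Ideal.Quotient.mk I)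
      Ideal.Quotient.mk_surjective (I := I)
    rw [Ideal.map_quotient_self, Ideal.mk_ker, sup_idem] at h1
    change P.map (Ideal.Quotient.mk I) ∈ (⊥ : _root_.Ideal _).minimalPrimes
    rw [h1]
    exact ⟨P, hP, rfl⟩
  rw [hzero, add_zero] at hht
  obtain ⟨h, b, hh, hb, hS⟩ := dim_eq_height_add (k := k) q
  obtain ⟨h', c, hh', hc, hD⟩ := dim_eq_height_add (k := k) P
  obtain ⟨a, ha⟩ : ∃ a : ℕ, ringKrullDim A = a := by
    obtain ⟨n, -, hd, -, -⟩ := exists_trdeg_eq_ringKrullDim k A
    exact ⟨n, hd⟩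
  rw [ringKrullDim_mvPolynomial_field] at hS
  rw [MvPolynomial.ringKrullDim_of_isNoetherianRing, ha, Nat.card_fin] at hD
  rw [hh, hh'] at hht
  have e1 : h' = h := by exact_mod_cast hht
  have e2 : N = h + b := by exact_mod_cast hS
  have e3 : a + N = h' + c := by exact_mod_cast hD
  rw [hb, hc, ha]
  have : a + b = c := by omega
  exact_mod_cast this

section diag

variable {A : Type u} [CommRing A] [Algebra k A] (π : MvPolynomial (Fin N) k →ₐ[k] A)

/-- evaluation `A[y] → A`, `y_i ↦ π x_i` -/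
noncomputable def ev : MvPolynomial (Fin N) A →ₐ[A] A :=
  aeval (fun i => π (X i))

/-- the diagonal ideal -/
noncomputable def Δ : Ideal (MvPolynomial (Fin N) A) :=
  Ideal.span (Set.range (fun i : Fin N => (X i - C (π (X i)) : MvPolynomial (Fin N) A)))

theorem sub_C_ev_mem (F : MvPolynomial (Fin N) A) : F - C (ev π F) ∈ Δ π := by
  induction F using MvPolynomial.induction_on with
  | C a =>
    have : ev π (C a) = a := by
      unfold ev
      rw [aeval_C]
      rfl
    rw [this, sub_self]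
    exact (Δ π).zero_mem
  | add F G hF hG =>
    have : F + G - C (ev π (F + G)) = (F - C (ev π F)) + (G - C (ev π G)) := by
      rw [map_add, C_add]; ring
    rw [this]
    exact (Δ π).add_mem hF hG
  | mul_X F i hF =>
    have h1 : ev π (F * X i) = ev π F * π (X i) := by
      rw [map_mul]
      congr 1
      unfold ev
      rw [aeval_X]
    have : F * X i - C (ev π (F * X i)) =
        F * (X i - C (π (X i))) + (F - C (ev π F)) * C (π (X i)) := by
      rw [h1, C_mul]; ring
    rw [this]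
    refine (Δ π).add_mem ((Δ π).mul_mem_left _ (Ideal.subset_span ⟨i, rfl⟩)) ((Δ π).mul_mem_right _ hF)

theorem ev_algebraMap (g : MvPolynomial (Fin N) k) :
    ev π (algebraMap (MvPolynomial (Fin N) k) (MvPolynomial (Fin N) A) g) = π g := by
  induction g using MvPolynomial.induction_on with
  | C a =>
    rw [MvPolynomial.algebraMap_def, map_C]
    unfold ev
    rw [aeval_C]
    have : (C a : MvPolynomial (Fin N) k) = algebraMap k _ a := rfl
    rw [this, AlgHom.commutes]
    rfl
  | add F G hF hG => rw [map_add, map_add, hF, hG, map_add]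
  | mul_X F i hF =>
    rw [map_mul, map_mul, hF, map_mul, MvPolynomial.algebraMap_def, map_X]
    congr 1
    unfold ev
    rw [aeval_X]

theorem ev_surjective : Function.Surjective (ev π) := fun a => ⟨C a, by
  unfold ev
  rw [aeval_C]
  rfl⟩

end diag

/-- affine dimension theorem, general form -/
theorem affine_dim_aux (A : Type u) [CommRing A] [IsDomain A] [Algebra k A]
    (π : MvPolynomial (Fin N) k →ₐ[k] A) (hπ : Function.Surjective π)
    (q m : Ideal (MvPolynomial (Fin N) k)) [hq : q.IsPrime]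
    (hm : m ∈ (RingHom.ker π ⊔ q).minimalPrimes) :
    ringKrullDim A + ringKrullDim (MvPolynomial (Fin N) k ⧸ q) ≤
      ringKrullDim (MvPolynomial (Fin N) k ⧸ m) + (N : WithBot ℕ∞) := by
  haveI hmp : m.IsPrime := hm.1.1
  have hpm : RingHom.ker π ≤ m := le_sup_left.trans hm.1.2
  have hqm : q ≤ m := le_sup_right.trans hm.1.2
  haveI : Algebra.FiniteType k A := Algebra.FiniteType.of_surjective π hπ
  let ι : MvPolynomial (Fin N) k →+* MvPolynomial (Fin N) A :=
    algebraMap (MvPolynomial (Fin N) k) (MvPolynomial (Fin N) A)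
  -- the prime `M = π(m)` of `A`
  set M : Ideal A := m.map π with hM
  have hMmem : ∀ g, π g ∈ M ↔ g ∈ m := by
    intro g
    constructor
    · intro hg
      obtain ⟨g', hg', hgg'⟩ := (Ideal.mem_map_iff_of_surjective π hπ).mp hg
      have : g - g' ∈ RingHom.ker π := by
        rw [RingHom.mem_ker, map_sub, hgg', sub_self]
      have h2 := m.add_mem (hpm this) hg'
      rwa [sub_add_cancel] at h2
    · intro hg
      exact Ideal.mem_map_of_mem π hg
  let θ : MvPolynomial (Fin N) A →+* A ⧸ M := (Ideal.Quotient.mk M).comp (ev π).toRingHom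
  have hθ : Function.Surjective θ := Ideal.Quotient.mk_surjective.comp (ev_surjective π)
  have hθmem : ∀ F, θ F = 0 ↔ ev π F ∈ M := fun F => Ideal.Quotient.eq_zero_iff_mem
  let θ₂ : MvPolynomial (Fin N) k →+* A ⧸ M := (Ideal.Quotient.mk M).comp π.toRingHom
  have hθ₂ : Function.Surjective θ₂ := Ideal.Quotient.mk_surjective.comp hπ
  have hkerθ₂ : RingHom.ker θ₂ = m := by
    ext g
    rw [RingHom.mem_ker]
    change Ideal.Quotient.mk M (π g) = 0 ↔ _
    rw [Ideal.Quotient.eq_zero_iff_mem, hMmem]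
  haveI hMp : M.IsPrime := by
    have : M = (RingHom.ker θ₂).map π := by rw [hkerθ₂]
    apply Ideal.map_isPrime_of_surjective hπ
    exact hpm
  set m' := RingHom.ker θ with hm'
  haveI hm'p : m'.IsPrime := RingHom.ker_isPrime θ
  have hdim' : ringKrullDim (MvPolynomial (Fin N) A ⧸ m') = ringKrullDim (MvPolynomial (Fin N) k ⧸ m) := by
    rw [ringKrullDim_eq_of_ringEquiv (RingHom.quotientKerEquivOfSurjective hθ),
      ← ringKrullDim_eq_of_ringEquiv (RingHom.quotientKerEquivOfSurjective hθ₂), hkerθ₂]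
  have hmem' : ∀ F, F ∈ m' ↔ ev π F ∈ M := by
    intro F
    rw [hm', RingHom.mem_ker]
    exact hθmem F
  -- q^e and Δ are in m'
  have hqe : q.map ι ≤ m' := by
    rw [Ideal.map_le_iff_le_comap]
    intro g hg
    rw [Ideal.mem_comap, hmem', ev_algebraMap, hMmem]
    exact hqm hg
  have hΔ : Δ π ≤ m' := by
    unfold Δ
    rw [Ideal.span_le]
    rintro _ ⟨i, rfl⟩
    rw [SetLike.mem_coe, hmem']
    have : ev π (X i - C (π (X i))) = 0 := by
      rw [map_sub]
      unfold ev
      rw [aeval_X, aeval_C]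
      exact sub_self _
    rw [this]
    exact M.zero_mem
  -- minimality
  have hmin : ∀ P₁ : Ideal (MvPolynomial (Fin N) A), P₁.IsPrime → q.map ι ≤ P₁ → Δ π ≤ P₁ →
      P₁ ≤ m' → m' ≤ P₁ := by
    intro P₁ hP₁ h1 h2 h3
    have hn₁ : (P₁.comap ι).IsPrime := Ideal.comap_isPrime ι P₁
    have hpn : RingHom.ker π ≤ P₁.comap ι := by
      intro g hg
      rw [Ideal.mem_comap]
      have h4 := sub_C_ev_mem π (ι g)
      rw [ev_algebraMap, (RingHom.mem_ker).mp hg, C_0, sub_zero] at h4
      exact h2 h4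
    have hqn : q ≤ P₁.comap ι := Ideal.map_le_iff_le_comap.mp h1
    have hnm : P₁.comap ι ≤ m := by
      intro g hg
      have := h3 hg
      rw [hmem', ev_algebraMap, hMmem] at this
      exact this
    have hmn : m ≤ P₁.comap ι := hm.2 ⟨hn₁, sup_le hpn hqn⟩ hnm
    intro F hF
    rw [hmem'] at hF
    obtain ⟨g, hg, hgF⟩ := (Ideal.mem_map_iff_of_surjective π hπ).mp hF
    have h5 := sub_C_ev_mem π F
    have h6 := sub_C_ev_mem π (ι g)
    rw [ev_algebraMap, hgF] at h6
    have h7 : ι g ∈ P₁ := hmn hg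
    have : F = (F - C (ev π F)) - (ι g - C (ev π F)) + ι g := by ring
    rw [this]
    exact P₁.add_mem (P₁.sub_mem (h2 h5) (h2 h6)) h7
  -- choose a minimal prime over q^e below m'
  obtain ⟨P, hP, hPm'⟩ := Ideal.exists_minimalPrimes_le hqe
  haveI hPp : P.IsPrime := hP.1.1
  have hdimP := dim_minimal A q P hP
  have hm'min : m' ∈ (P ⊔ Ideal.span (Set.range (fun i : Fin N =>
      (X i - C (π (X i)) : MvPolynomial (Fin N) A)))).minimalPrimes := by
    refine ⟨⟨hm'p, sup_le hPm' hΔ⟩, ?_⟩
    rintro P₁ ⟨hP₁, hle⟩ hP₁m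
    exact hmin P₁ hP₁ (hP.1.2.trans (le_sup_left.trans hle)) (le_sup_right.trans hle) hP₁m
  have hfin := dim_le_add_of_mem_minimalPrimes (k := k) P m' N _ hm'min
  rw [hdimP, ← hdim']
  exact hfin

/-- **affine dimension theorem** -/
theorem affine_dim (p q m : Ideal (MvPolynomial (Fin N) k)) [hp : p.IsPrime] [hq : q.IsPrime]
    (hm : m ∈ (p ⊔ q).minimalPrimes) :
    ringKrullDim (MvPolynomial (Fin N) k ⧸ p) + ringKrullDim (MvPolynomial (Fin N) k ⧸ q) ≤
      ringKrullDim (MvPolynomial (Fin N) k ⧸ m) + (N : WithBot ℕ∞) := by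
  have hker : RingHom.ker (Ideal.Quotient.mkₐ k p) = p := Ideal.Quotient.mkₐ_ker k p
  exact affine_dim_aux (MvPolynomial (Fin N) k ⧸ p) (Ideal.Quotient.mkₐ k p)
    (Ideal.Quotient.mkₐ_surjective k p) q m (by rw [hker]; exact hm)

end Groth.Agent.Lib.Helper14.PD4
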