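import Mathlib
import Groth.Agent.Lib.Helper14.PD3

/-!
# Codimension one in projective space: height-one points are `V_+(f)`, `f` irreducible homogeneous
-/

set_option autoImplicit false
set_option linter.style.haveILetI false
universe u
open MvPolynomial Order

namespace Groth.Agent.Lib.Helper14.PD5

open Groth.Agent.Lib.Helper14.PD1 Groth.Agent.Lib.Helper14.PD2 Groth.Agent.Lib.Helper14.PD3
open Groth.Agent.Lib.Helper87.HilbFnG Groth.Agent.Lib.Helper87.HilbFnE
open Groth.Agent.Lib.Helper87.HilbFnI

variable {k : Type u} [Field k] {σ : Type}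

attribute [local instance] MvPolynomial.gradedAlgebra

local notation "𝒜" => homogeneousSubmodule σ k

/-- the top homogeneous component of a nonzero polynomial is nonzero -/
theorem homogeneousComponent_totalDegree_ne_zero {f : MvPolynomial σ k} (hf : f ≠ 0) :
    homogeneousComponent f.totalDegree f ≠ 0 := by
  classical
  have hne : f.support.Nonempty := by
    rw [Finset.nonempty_iff_ne_empty, Ne, MvPolynomial.support_eq_empty]
    exact hf
  obtain ⟨s, hs, hsd⟩ := Finset.exists_mem_eq_sup f.support hne (fun s => s.sum fun _ e => e)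
  intro h0
  have h1 : coeff s (homogeneousComponent f.totalDegree f) = coeff s f := by
    rw [coeff_homogeneousComponent, if_pos]
    rw [Finsupp.degree_apply]
    exact hsd.symm
  rw [h0, coeff_zero] at h1
  exact (MvPolynomial.mem_support_iff.mp hs) h1.symm

/-- a generator of a nonzero homogeneous principal ideal is homogeneous -/
theorem isHomogeneous_of_span {f : MvPolynomial σ k} (hf : f ≠ 0)
    (h : (Ideal.span {f}).IsHomogeneous 𝒜) : f.IsHomogeneous f.totalDegree := by
  set d := f.totalDegree with hd
  have h1 : (DirectSum.decompose 𝒜 f d : MvPolynomial σ k) = homogeneousComponent d f :=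
    decomposition.decompose'_apply f d
  have h2 : homogeneousComponent d f ∈ Ideal.span {f} := by
    rw [← h1]
    exact h d (Ideal.mem_span_singleton_self f)
  obtain ⟨g, hg⟩ := Ideal.mem_span_singleton.mp h2
  have htop := homogeneousComponent_totalDegree_ne_zero hf
  have hg0 : g ≠ 0 := by
    rintro rfl
    rw [mul_zero] at hg
    exact htop hg
  have h3 := totalDegree_mul_of_isDomain hf hg0
  rw [← hg] at h3
  have h4 : (homogeneousComponent d f).totalDegree ≤ d :=
    (homogeneousComponent_isHomogeneous d f).totalDegree_le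
  have h5 : g.totalDegree = 0 := by omega
  obtain ⟨c, rfl⟩ : ∃ c, g = C c := ⟨_, totalDegree_eq_zero_iff_eq_C.mp h5⟩
  have hc0 : c ≠ 0 := by
    rintro rfl
    exact hg0 C_0
  have h6 : f = C c⁻¹ * homogeneousComponent d f := by
    rw [hg, mul_comm f, ← mul_assoc, ← C_mul, inv_mul_cancel₀ hc0, C_1, one_mul]
  rw [h6]
  have := (isHomogeneous_C σ c⁻¹).mul (homogeneousComponent_isHomogeneous d f)
  rwa [zero_add] at this

/-- the generic point of projective space -/
noncomputable def origin (x : ProjectiveSpectrum 𝒜) : ProjectiveSpectrum 𝒜 :=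
  mkPt ⊥ Ideal.isPrime_bot (Ideal.IsHomogeneous.bot 𝒜) (fun h =>
    x.not_irrelevant_le (show (HomogeneousIdeal.irrelevant 𝒜).toIdeal ≤ x.asHomogeneousIdeal.toIdeal
      from h.trans bot_le))

theorem origin_le (x y : ProjectiveSpectrum 𝒜) : origin x ≤ y := by
  change (⊥ : Ideal (MvPolynomial σ k)) ≤ y.asHomogeneousIdeal.toIdeal
  exact bot_le

/-- the map to the prime spectrum -/
noncomputable def toSpec (x : ProjectiveSpectrum 𝒜) : PrimeSpectrum (MvPolynomial σ k) :=
  ⟨x.asHomogeneousIdeal.toIdeal, x.isPrime⟩

theorem toSpec_strictMono : StrictMono (toSpec (k := k) (σ := σ)) := fun _ _ h => h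

theorem height_le_height (x : ProjectiveSpectrum 𝒜) :
    height x ≤ x.asHomogeneousIdeal.toIdeal.height := by
  have := height_le_height_apply_of_strictMono _ (toSpec_strictMono (k := k) (σ := σ)) x
  rwa [← PrimeSpectrum.height_eq_orderHeight] at this

theorem height_eq_one_of_span [Finite σ] (x : ProjectiveSpectrum 𝒜) (f : MvPolynomial σ k)
    (hf : Irreducible f) (hx : x.asHomogeneousIdeal.toIdeal = Ideal.span {f}) :
    height x = 1 := by
  apply le_antisymm
  · refine (height_le_height x).trans ?_
    rw [hx]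
    exact Ideal.height_span_singleton_le_one hf.not_isUnit
  · have hlt : origin x < x := by
      refine lt_of_le_of_ne (origin_le x x) ?_
      intro h
      have : x.asHomogeneousIdeal.toIdeal = ⊥ := by rw [← h]; rfl
      rw [hx, Ideal.span_singleton_eq_bot] at this
      exact hf.ne_zero this
    have := height_add_one_le hlt
    exact le_trans (by simp) this

theorem exists_of_height_eq_one [Finite σ] (x : ProjectiveSpectrum 𝒜) (hx : height x = 1) :
    ∃ (d : ℕ) (f : MvPolynomial σ k), f.IsHomogeneous d ∧ Irreducible f ∧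
      x.asHomogeneousIdeal.toIdeal = Ideal.span {f} := by
  set p := x.asHomogeneousIdeal.toIdeal with hp
  have hph : p.IsHomogeneous 𝒜 := x.asHomogeneousIdeal.isHomogeneous
  -- `p ≠ ⊥`
  have hp0 : p ≠ ⊥ := by
    intro h
    have hmin : IsMin x := by
      intro y hy
      change y.asHomogeneousIdeal.toIdeal ≤ x.asHomogeneousIdeal.toIdeal at hy
      change x.asHomogeneousIdeal.toIdeal ≤ y.asHomogeneousIdeal.toIdeal
      rw [← hp, h]
      exact bot_le
    rw [← height_eq_zero] at hmin
    rw [hmin] at hx
    exact zero_ne_one hx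
  -- a nonzero homogeneous element
  obtain ⟨g, hg, hg0⟩ := Submodule.exists_mem_ne_zero_of_ne_bot hp0
  obtain ⟨i, hi⟩ : ∃ i, homogeneousComponent i g ≠ 0 := by
    by_contra hall
    push Not at hall
    apply hg0
    rw [← sum_homogeneousComponent g]
    exact Finset.sum_eq_zero (fun i _ => hall i)
  set gi := homogeneousComponent i g with hgi
  have hgip : gi ∈ p := by
    have h1 : (DirectSum.decompose 𝒜 g i : MvPolynomial σ k) = homogeneousComponent i g :=
      decomposition.decompose'_apply g i
    rw [hgi, ← h1]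
    exact hph i hg
  have hIh : (Ideal.span {gi}).IsHomogeneous 𝒜 := by
    refine Ideal.homogeneous_span _ _ ?_
    intro z hz
    rw [Set.mem_singleton_iff] at hz
    subst hz
    exact ⟨i, homogeneousComponent_isHomogeneous i g⟩
  obtain ⟨z, hzx, hz⟩ := exists_minimal_point hIh x
    ((Ideal.span_singleton_le_iff_mem _).mpr hgip)
  have hzx' : z = x := by
    by_contra hne
    have hlt : z < x := lt_of_le_of_ne hzx hne
    have hoz : origin x < z := by
      refine lt_of_le_of_ne (origin_le x z) ?_
      intro h
      have h1 : z.asHomogeneousIdeal.toIdeal = ⊥ := by rw [← h]; rfl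
      have h2 : gi ∈ z.asHomogeneousIdeal.toIdeal :=
        hz.1.2 (Ideal.mem_span_singleton_self gi)
      rw [h1, Ideal.mem_bot] at h2
      exact hi h2
    have h1 := height_add_one_le hoz
    have h2 := height_add_one_le hlt
    have h3 : (2 : ℕ∞) ≤ height x := by
      calc (2 : ℕ∞) = 0 + 1 + 1 := by norm_num
        _ ≤ height (origin x) + 1 + 1 := by gcongr; exact bot_le
        _ ≤ height z + 1 := by gcongr
        _ ≤ height x := h2
    rw [hx] at h3
    exact absurd h3 (by norm_num)
  rw [hzx'] at hz
  -- height one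
  have hht : p.height = 1 := by
    apply le_antisymm
    · exact Ideal.height_le_one_of_isPrincipal_of_mem_minimalPrimes _ p hz
    · rw [Order.one_le_iff_ne_zero, Ne, Ideal.height_eq_zero_iff_eq_bot]
      exact hp0
  obtain ⟨f, hfp, hfprime⟩ := Ideal.IsPrime.exists_mem_prime_of_ne_bot x.isPrime hp0
  have hpf : p = Ideal.span {f} := p.eq_span_singleton_of_height_eq_one hht hfp hfprime
  refine ⟨f.totalDegree, f, ?_, hfprime.irreducible, hpf⟩
  exact isHomogeneous_of_span hfprime.ne_zero (hpf ▸ hph)

theorem height_eq_one_iff [Finite σ] (x : ProjectiveSpectrum 𝒜) :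
    height x = 1 ↔ ∃ (d : ℕ) (f : MvPolynomial σ k), f.IsHomogeneous d ∧ Irreducible f ∧
      x.asHomogeneousIdeal.toIdeal = Ideal.span {f} :=
  ⟨exists_of_height_eq_one x, fun ⟨_, f, _, hf, hx⟩ => height_eq_one_of_span x f hf hx⟩

/-- coheight of an irreducible closed set is the height of its generic point -/
theorem coheight_eq_height (Z : TopologicalSpace.IrreducibleCloseds (ProjectiveSpectrum 𝒜))
    (x : ProjectiveSpectrum 𝒜) (hZ : (Z : Set (ProjectiveSpectrum 𝒜)) = {y | x ≤ y}) :
    coheight Z = height x := by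
  have h1 : Z = (irrEquiv (ProjectiveSpectrum 𝒜) specOrd).symm (OrderDual.toDual x) := by
    apply TopologicalSpace.IrreducibleCloseds.ext
    rw [hZ, ← closure_singleton_eq specOrd]
    rfl
  rw [h1, coheight_orderIso, coheight_toDual]

/-- an irreducible homogeneous polynomial whose zero locus is nonempty gives a point -/
theorem eq_of_zeroLocus_eq (x : ProjectiveSpectrum 𝒜) (f : MvPolynomial σ k) (d : ℕ)
    (hfh : f.IsHomogeneous d) (hf : Irreducible f)
    (hZ : ProjectiveSpectrum.zeroLocus 𝒜 {f} = {y | x ≤ y}) :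
    x.asHomogeneousIdeal.toIdeal = Ideal.span {f} := by
  have hfx : f ∈ x.asHomogeneousIdeal.toIdeal := by
    have : x ∈ ProjectiveSpectrum.zeroLocus 𝒜 {f} := by rw [hZ]; exact le_refl x
    exact this (Set.mem_singleton f)
  have hle : Ideal.span {f} ≤ x.asHomogeneousIdeal.toIdeal :=
    (Ideal.span_singleton_le_iff_mem _).mpr hfx
  have hprime : (Ideal.span {f}).IsPrime :=
    (Ideal.span_singleton_prime hf.ne_zero).mpr
      (UniqueFactorizationMonoid.irreducible_iff_prime.mp hf)
  have hhom : (Ideal.span {f}).IsHomogeneous 𝒜 := by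
    refine Ideal.homogeneous_span _ _ ?_
    intro z hz
    rw [Set.mem_singleton_iff] at hz
    subst hz
    exact ⟨d, hfh⟩
  have hrel : ¬ (HomogeneousIdeal.irrelevant 𝒜).toIdeal ≤ Ideal.span {f} := fun h =>
    x.not_irrelevant_le (show (HomogeneousIdeal.irrelevant 𝒜).toIdeal ≤
      x.asHomogeneousIdeal.toIdeal from h.trans hle)
  set x' := mkPt (Ideal.span {f}) hprime hhom hrel with hx'
  have h1 : x' ∈ ProjectiveSpectrum.zeroLocus 𝒜 {f} := by
    intro g hg
    rw [Set.mem_singleton_iff] at hg
    subst hg
    exact Ideal.mem_span_singleton_self g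
  rw [hZ] at h1
  have h2 : x' ≤ x := hle
  have h3 : x = x' := le_antisymm h1 h2
  rw [h3]
  rfl

end Groth.Agent.Lib.Helper14.PD5
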