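import Mathlib
import Groth.Agent.Lib.Helper14.PD4
import Groth.Agent.Lib.Helper14.PD5

/-!
# Hypersurfaces in projective space: connectedness; plane curves
-/

set_option autoImplicit false
set_option linter.style.haveILetI false
universe u
open MvPolynomial Order

namespace Groth.Agent.Lib.Helper14.PD6

open Groth.Agent.Lib.Helper14.PD1 Groth.Agent.Lib.Helper14.PD2 Groth.Agent.Lib.Helper14.PD3
open Groth.Agent.Lib.Helper14.PD4 Groth.Agent.Lib.Helper14.PD5
open Groth.Agent.Lib.Helper87.HilbFnG Groth.Agent.Lib.Helper87.HilbFnE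
open Groth.Agent.Lib.Helper87.HilbFnI

variable {k : Type u} [Field k] {n : ℕ}

attribute [local instance] MvPolynomial.gradedAlgebra

local notation "𝒜" => homogeneousSubmodule (Fin (n + 1)) k

/-- a prime containing a nonzero element, of height `≤ 1`, is generated by a prime element -/
theorem exists_prime_generator {q : Ideal (MvPolynomial (Fin (n + 1)) k)} [hq : q.IsPrime]
    (hq0 : q ≠ ⊥) (hht : q.height ≤ 1) : ∃ g, Prime g ∧ q = Ideal.span {g} := by
  have h1 : q.height = 1 := by
    apply le_antisymm hht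
    rw [Order.one_le_iff_ne_zero, Ne, Ideal.height_eq_zero_iff_eq_bot]
    exact hq0
  obtain ⟨g, hgq, hg⟩ := Ideal.IsPrime.exists_mem_prime_of_ne_bot hq hq0
  exact ⟨g, hg, q.eq_span_singleton_of_height_eq_one h1 hgq hg⟩

/-- minimal primes over a nonzero principal ideal: height one, dimension `n` -/
theorem minimal_principal {f : MvPolynomial (Fin (n + 1)) k} (hf0 : f ≠ 0)
    {q : Ideal (MvPolynomial (Fin (n + 1)) k)} (hq : q ∈ (Ideal.span {f}).minimalPrimes) :
    q.height = 1 ∧ ringKrullDim (MvPolynomial (Fin (n + 1)) k ⧸ q) = (n : WithBot ℕ∞) := by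
  haveI hqp : q.IsPrime := hq.1.1
  have hfq : f ∈ q := hq.1.2 (Ideal.mem_span_singleton_self f)
  have hq0 : q ≠ ⊥ := by
    intro h
    rw [h, Ideal.mem_bot] at hfq
    exact hf0 hfq
  have h1 : q.height = 1 := by
    apply le_antisymm (Ideal.height_le_one_of_isPrincipal_of_mem_minimalPrimes _ q hq)
    rw [Order.one_le_iff_ne_zero, Ne, Ideal.height_eq_zero_iff_eq_bot]
    exact hq0
  refine ⟨h1, ?_⟩
  obtain ⟨h, dq, hh, hdq, hS⟩ := dim_eq_height_add (k := k) q
  rw [ringKrullDim_mvPolynomial_field] at hS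
  rw [h1] at hh
  have e1 : 1 = h := by exact_mod_cast hh
  have e2 : n + 1 = h + dq := by exact_mod_cast hS
  rw [hdq]
  have : dq = n := by omega
  rw [this]

/-- a height one prime containing `f` is a minimal prime over `(f)` -/
theorem mem_minimalPrimes_of_height {f : MvPolynomial (Fin (n + 1)) k} (hf0 : f ≠ 0)
    {q : Ideal (MvPolynomial (Fin (n + 1)) k)} [hq : q.IsPrime] (hfq : f ∈ q) (hht : q.height ≤ 1) :
    q ∈ (Ideal.span {f}).minimalPrimes := by
  refine ⟨⟨hq, (Ideal.span_singleton_le_iff_mem _).mpr hfq⟩, ?_⟩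
  rintro q' ⟨hq'p, hq'f⟩ hq'q
  by_contra hne
  have hlt : q' < q := lt_of_le_of_ne hq'q (fun h => hne (h ▸ le_refl _))
  haveI := hq'p
  have h1 := Ideal.height_add_one_le_of_lt_of_isPrime hlt
  have h2 : q'.height = 0 := by
    have : q'.height + 1 ≤ 1 := h1.trans hht
    have h3 : q'.height ≤ 0 := by
      by_contra hpos
      push Not at hpos
      have : (1 : ℕ∞) + 1 ≤ q'.height + 1 := by gcongr; exact Order.one_le_iff_pos.mpr hpos
      have h4 : (1 : ℕ∞) + 1 ≤ 1 := this.trans ‹q'.height + 1 ≤ 1›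
      exact absurd h4 (by norm_num)
    exact le_antisymm h3 bot_le
  rw [Ideal.height_eq_zero_iff_eq_bot] at h2
  have : f ∈ q' := hq'f (Ideal.mem_span_singleton_self f)
  rw [h2, Ideal.mem_bot] at this
  exact hf0 this

/-- **hypersurfaces in `P^n`, `n ≥ 2`, are connected** -/
theorem hypersurface_connected (hn : 2 ≤ n) (d : ℕ) (f : MvPolynomial (Fin (n + 1)) k)
    (hf : f.IsHomogeneous d) (hd : 0 < d) (hf0 : f ≠ 0) :
    IsConnected (ProjectiveSpectrum.zeroLocus 𝒜 ({f} : Set (MvPolynomial (Fin (n + 1)) k))) := by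
  have hIh : (Ideal.span {f}).IsHomogeneous 𝒜 := by
    refine Ideal.homogeneous_span _ _ ?_
    intro z hz
    rw [Set.mem_singleton_iff] at hz
    subst hz
    exact ⟨d, hf⟩
  have hfirr : f ∈ irr k (Fin (n + 1)) := mem_irr_of_isHomogeneous hf hd
  have hItop : Ideal.span {f} ≠ ⊤ := by
    intro h
    have hle : Ideal.span {f} ≤ irr k (Fin (n + 1)) := (Ideal.span_singleton_le_iff_mem _).mpr hfirr
    rw [h, top_le_iff] at hle
    exact (irr_isMaximal (k := k) (σ := Fin (n + 1))).ne_top hle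
  -- every minimal prime gives a point
  have hpt : ∀ q ∈ (Ideal.span {f}).minimalPrimes, ∃ x : ProjectiveSpectrum 𝒜,
      x.asHomogeneousIdeal.toIdeal = q := by
    intro q hq
    have hqp : q.IsPrime := hq.1.1
    have hqh := isHomogeneous_of_mem_minimalPrimes hIh hq
    have hdq := (minimal_principal hf0 hq).2
    have hrel : ¬ (HomogeneousIdeal.irrelevant 𝒜).toIdeal ≤ q :=
      relevant_of_dim hqh (n - 1) (by rw [hdq]; congr 1; omega)
    exact ⟨mkPt q hqp hqh hrel, rfl⟩
  obtain ⟨q₀, hq₀⟩ := Ideal.nonempty_minimalPrimes hItop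
  obtain ⟨x₀, hx₀⟩ := hpt q₀ hq₀
  have hx₀mem : x₀ ∈ ProjectiveSpectrum.zeroLocus 𝒜 ({f} : Set (MvPolynomial (Fin (n + 1)) k)) := by
    intro g hg
    rw [Set.mem_singleton_iff] at hg
    subst hg
    change g ∈ x₀.asHomogeneousIdeal.toIdeal
    rw [hx₀]
    exact hq₀.1.2 (Ideal.mem_span_singleton_self g)
  have hclosed := ProjectiveSpectrum.isClosed_zeroLocus 𝒜 ({f} : Set (MvPolynomial (Fin (n + 1)) k))
  refine ⟨⟨x₀, hx₀mem⟩, ?_⟩
  apply isPreconnected_of_forall x₀
  intro y hy
  have hfy : f ∈ y.asHomogeneousIdeal.toIdeal := hy (Set.mem_singleton f)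
  obtain ⟨q, hq, hqy⟩ := Ideal.exists_minimalPrimes_le
    ((Ideal.span_singleton_le_iff_mem (I := y.asHomogeneousIdeal.toIdeal)).mpr hfy)
  obtain ⟨x, hx⟩ := hpt q hq
  have hxmem : x ∈ ProjectiveSpectrum.zeroLocus 𝒜 ({f} : Set (MvPolynomial (Fin (n + 1)) k)) := by
    intro g hg
    rw [Set.mem_singleton_iff] at hg
    subst hg
    change g ∈ x.asHomogeneousIdeal.toIdeal
    rw [hx]
    exact hq.1.2 (Ideal.mem_span_singleton_self g)
  have hxy : x ≤ y := by
    change x.asHomogeneousIdeal.toIdeal ≤ y.asHomogeneousIdeal.toIdeal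
    rw [hx]
    exact hqy
  have hirr : ∀ z : ProjectiveSpectrum 𝒜, IsPreconnected {w | z ≤ w} := by
    intro z
    rw [← closure_singleton_eq specOrd]
    exact isIrreducible_singleton.closure.isPreirreducible.isPreconnected
  refine ⟨{w | x₀ ≤ w} ∪ {w | x ≤ w}, ?_, Or.inl (le_refl x₀), Or.inr hxy, ?_⟩
  · rintro w (hw | hw)
    · exact mem_of_le specOrd hclosed hx₀mem hw
    · exact mem_of_le specOrd hclosed hxmem hw
  · refine IsPreconnected.union' ?_ (hirr x₀) (hirr x)
    -- the two components meet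
    by_cases hqq : q ≤ q₀
    · refine ⟨x₀, le_refl x₀, ?_⟩
      change x.asHomogeneousIdeal.toIdeal ≤ x₀.asHomogeneousIdeal.toIdeal
      rw [hx, hx₀]
      exact hqq
    · haveI hqp : q.IsPrime := hq.1.1
      have hq0 : q ≠ ⊥ := by
        intro h
        have : f ∈ q := hq.1.2 (Ideal.mem_span_singleton_self f)
        rw [h, Ideal.mem_bot] at this
        exact hf0 this
      obtain ⟨g, hg, hqg⟩ := exists_prime_generator hq0 (minimal_principal hf0 hq).1.le
      have hqh := isHomogeneous_of_mem_minimalPrimes hIh hq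
      have hgh : g.IsHomogeneous g.totalDegree :=
        isHomogeneous_of_span hg.ne_zero (hqg ▸ hqh)
      have hgirr : g ∈ irr k (Fin (n + 1)) :=
        le_irr_of_isHomogeneous hqh hqp.ne_top (hqg ▸ Ideal.mem_span_singleton_self g)
      have hgx₀ : g ∉ x₀.asHomogeneousIdeal.toIdeal := by
        intro h
        apply hqq
        rw [hqg, ← hx₀]
        exact (Ideal.span_singleton_le_iff_mem _).mpr h
      have hdim : 0 < topologicalKrullDim ↥{w : ProjectiveSpectrum 𝒜 | x₀ ≤ w} := by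
        obtain ⟨e, he, htop⟩ := exists_nat_dim_point x₀
        rw [hx₀, (minimal_principal hf0 hq₀).2] at he
        have : n = e + 1 := by exact_mod_cast he
        rw [htop]
        have : 0 < e := by omega
        exact_mod_cast this
      obtain ⟨⟨w, hw1, hw2⟩, -⟩ := hauptidealsatz x₀ g g.totalDegree hgh hgirr hgx₀ hdim
      refine ⟨w, hw1, ?_⟩
      change x.asHomogeneousIdeal.toIdeal ≤ w.asHomogeneousIdeal.toIdeal
      rw [hx, hqg]
      exact (Ideal.span_singleton_le_iff_mem _).mpr (hw2 (Set.mem_singleton g))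

end Groth.Agent.Lib.Helper14.PD6
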