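import Mathlib
import Groth.Agent.Lib.Helper14.PD4

/-!
# Affine dimension theorem, topological form
-/

set_option autoImplicit false
set_option linter.style.haveILetI false
universe u
open MvPolynomial Order

namespace Groth.Agent.Lib.Helper14.PD7

open Groth.Agent.Lib.Helper14.PD1 Groth.Agent.Lib.Helper14.PD2 Groth.Agent.Lib.Helper14.PD4

/-- irreducible components of a closed subspace: description and dimension -/
theorem exists_minimal_subtype {X : Type*} [TopologicalSpace X]
    [QuasiSober X] [T0Space X] [PartialOrder X] (h : SpecOrd X) {W : Set X} (hW : IsClosed W)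
    {C : Set ↥W} (hC : C ∈ irreducibleComponents ↥W) :
    ∃ x : X, x ∈ W ∧ (∀ y ∈ W, y ≤ x → y = x) ∧ (∀ y : ↥W, y ∈ C ↔ x ≤ y.1) ∧
      topologicalKrullDim ↥C = krullDim ↥{y : X | x ≤ y} := by
  have := quasiSober_subtype hW
  obtain ⟨x, hx, hmin⟩ := exists_minimal_of_mem_irreducibleComponents (h.subtype W) hC
  refine ⟨x.1, x.2, fun y hy hyx => ?_, fun y => ?_, ?_⟩
  · have := hmin ⟨y, hy⟩ hyx
    exact congrArg Subtype.val this
  · rw [hx]
    rfl
  · have hCc : IsClosed C := isClosed_of_mem_irreducibleComponents C hC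
    rw [topologicalKrullDim_subtype_eq (h.subtype W) hCc]
    subst hx
    refine krullDim_eq_of_orderIso
      { toFun := fun y => ⟨y.1.1, y.2⟩
        invFun := fun z => ⟨⟨z.1, mem_of_le h hW x.2 z.2⟩, z.2⟩
        left_inv := fun y => rfl
        right_inv := fun z => rfl
        map_rel_iff' := Iff.rfl }

variable {k : Type u} [Field k] {n : ℕ}

/-- **affine dimension theorem** for closed subsets of a space homeomorphic to `Spec k[x_1..x_n]` -/
theorem affine_dim_top {T : Type*} [TopologicalSpace T] [QuasiSober T] [T0Space T]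
    (e : T ≃ₜ PrimeSpectrum (MvPolynomial (Fin n) k)) (r s : ℕ)
    (X Y : Set T) (hX : IsClosed X) (hY : IsClosed Y)
    (hXr : ∀ Z ∈ irreducibleComponents ↥X, topologicalKrullDim ↥Z = r)
    (hYs : ∀ Z ∈ irreducibleComponents ↥Y, topologicalKrullDim ↥Z = s)
    (Z : Set ↥(X ∩ Y)) (hZ : Z ∈ irreducibleComponents ↥(X ∩ Y)) :
    ((r + s : ℕ) : WithBot ℕ∞) ≤ topologicalKrullDim ↥Z + (n : WithBot ℕ∞) := by
  letI : PartialOrder T := PartialOrder.lift e e.injective
  have hle : ∀ a b : T, a ≤ b ↔ e a ≤ e b := fun _ _ => Iff.rfl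
  have hso : SpecOrd T := by
    intro a b
    rw [hle, PrimeSpectrum.le_iff_mem_closure]
    have h1 : closure ({e a} : Set (PrimeSpectrum (MvPolynomial (Fin n) k))) = e '' closure {a} := by
      rw [e.image_closure, Set.image_singleton]
    rw [h1]
    constructor
    · rintro ⟨c, hc, hcb⟩
      rwa [← e.injective hcb]
    · intro hb
      exact ⟨b, hb, rfl⟩
  -- dimension of `Ici`
  have hdim : ∀ z : T, krullDim ↥{w : T | z ≤ w} =
      ringKrullDim (MvPolynomial (Fin n) k ⧸ (e z).asIdeal) := by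
    intro z
    rw [ringKrullDim_quotient]
    refine krullDim_eq_of_orderIso
      { toFun := fun w => ⟨e w.1, w.2⟩
        invFun := fun v => ⟨e.symm v.1, by
          change e z ≤ e (e.symm v.1)
          rw [e.apply_symm_apply]
          exact v.2⟩
        left_inv := fun w => by
          apply Subtype.ext
          exact e.symm_apply_apply w.1
        right_inv := fun v => by
          apply Subtype.ext
          exact e.apply_symm_apply v.1
        map_rel_iff' := Iff.rfl }
  have hXY : IsClosed (X ∩ Y) := hX.inter hY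
  obtain ⟨z, hzW, hzmin, -, hzdim⟩ := exists_minimal_subtype hso hXY hZ
  -- component of `X` through `z`
  have hcomp : ∀ (W : Set T) (hW : IsClosed W) (t : ℕ)
      (hWt : ∀ Z ∈ irreducibleComponents ↥W, topologicalKrullDim ↥Z = t), z ∈ W →
      ∃ x : T, x ∈ W ∧ x ≤ z ∧
        ringKrullDim (MvPolynomial (Fin n) k ⧸ (e x).asIdeal) = (t : WithBot ℕ∞) := by
    intro W hW t hWt hzW'
    have hC := irreducibleComponent_mem_irreducibleComponents (⟨z, hzW'⟩ : ↥W)
    obtain ⟨x, hxW, -, hxC, hxdim⟩ := exists_minimal_subtype hso hW hC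
    refine ⟨x, hxW, ?_, ?_⟩
    · exact (hxC ⟨z, hzW'⟩).mp mem_irreducibleComponent
    · rw [← hdim, ← hxdim]
      exact hWt _ hC
  obtain ⟨x, hxX, hxz, hxr⟩ := hcomp X hX r hXr hzW.1
  obtain ⟨y, hyY, hyz, hys⟩ := hcomp Y hY s hYs hzW.2
  have hmin : (e z).asIdeal ∈ ((e x).asIdeal ⊔ (e y).asIdeal).minimalPrimes := by
    refine ⟨⟨(e z).isPrime, sup_le hxz hyz⟩, ?_⟩
    rintro q ⟨hqp, hq⟩ hqz
    set w : T := e.symm ⟨q, hqp⟩ with hw
    have hew : e w = ⟨q, hqp⟩ := e.apply_symm_apply _
    have hxw : x ≤ w := by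
      rw [hle, hew]
      exact le_sup_left.trans hq
    have hyw : y ≤ w := by
      rw [hle, hew]
      exact le_sup_right.trans hq
    have hwz : w ≤ z := by
      rw [hle, hew]
      exact hqz
    have hwW : w ∈ X ∩ Y := ⟨mem_of_le hso hX hxX hxw, mem_of_le hso hY hyY hyw⟩
    have := hzmin w hwW hwz
    rw [← this, hew]
  have haff := affine_dim (e x).asIdeal (e y).asIdeal (e z).asIdeal hmin
  rw [hxr, hys] at haff
  rw [hzdim, hdim]
  refine le_trans ?_ haff
  push_cast
  exact le_refl _

end Groth.Agent.Lib.Helper14.PD7
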