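
import Groth.Agent.Lib.Helper14.FibBC
import Groth.Agent.Lib.Helper14.FibTransport
import Groth.Agent.S18702
universe u
namespace Groth.Agent.Lib.Helper14.QGorBC
open TensorProduct IsLocalRing Groth.Agent.Lib.Helper14.LocTensor Groth.Agent.Lib.Helper14.FibDepth
set_option linter.style.haveILetI false
set_option linter.unusedSectionVars false

section Proj
variable {R : Type*} [CommRing R] {K M N C : Type*} [AddCommGroup K] [Module R K]
  [AddCommGroup M] [Module R M] [AddCommGroup N] [Module R N] [AddCommGroup C] [Module R C]

/-- in an exact sequence `0 → K → M → N → C → 0` with `M, N, C` projective, `K` is projective. -/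
theorem projective_of_exact4 [Module.Projective R M] [Module.Projective R N] [Module.Projective R C]
    (ι : K →ₗ[R] M) (u : M →ₗ[R] N) (v : N →ₗ[R] C) (hι : Function.Injective ι)
    (hιu : Function.Exact ι u) (huv : Function.Exact u v) (hv : Function.Surjective v) :
    Module.Projective R K := by
  -- the image `I = ker v` is a direct summand of `N`
  obtain ⟨σ, hσ⟩ := Module.projective_lifting_property v LinearMap.id hv
  let I := LinearMap.ker v
  let r : N →ₗ[R] I := (LinearMap.id - σ.comp v).codRestrict I (fun x => by
    rw [LinearMap.mem_ker, LinearMap.sub_apply, map_sub, LinearMap.id_apply, LinearMap.comp_apply]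
    have := LinearMap.congr_fun hσ (v x)
    simp only [LinearMap.comp_apply, LinearMap.id_apply] at this
    rw [this, sub_self])
  have hr : r.comp I.subtype = LinearMap.id := by
    ext x
    simp only [r, LinearMap.comp_apply, Submodule.subtype_apply, LinearMap.codRestrict_apply,
      LinearMap.sub_apply, LinearMap.id_apply]
    have hx : v x.1 = 0 := x.2
    rw [hx, map_zero, sub_zero]
  haveI : Module.Projective R I := Module.Projective.of_split I.subtype r hr
  -- `ũ : M → I` surjective
  let ũ : M →ₗ[R] I := u.codRestrict I (fun x => (huv (u x)).2 ⟨x, rfl⟩)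
  have hũ : Function.Surjective ũ := by
    rintro ⟨y, hy⟩
    obtain ⟨x, rfl⟩ := (huv y).1 hy
    exact ⟨x, rfl⟩
  obtain ⟨τ, hτ⟩ := Module.projective_lifting_property ũ LinearMap.id hũ
  -- retraction `M → K`
  have hmem : ∀ x : M, x - τ (ũ x) ∈ LinearMap.range ι := by
    intro x
    rw [← LinearMap.exact_iff.1 hιu, LinearMap.mem_ker, map_sub]
    have h1 := LinearMap.congr_fun hτ (ũ x)
    simp only [LinearMap.comp_apply, LinearMap.id_apply] at h1
    have h2 : u (τ (ũ x)) = u x := congrArg Subtype.val h1
    rw [h2, sub_self]
  let e := LinearEquiv.ofInjective ι hι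
  let s : M →ₗ[R] K := e.symm.toLinearMap.comp
    ((LinearMap.id - τ.comp ũ).codRestrict (LinearMap.range ι) hmem)
  have hs : s.comp ι = LinearMap.id := by
    ext k
    simp only [s, LinearMap.comp_apply, LinearMap.id_apply, LinearEquiv.coe_coe]
    rw [LinearEquiv.symm_apply_eq]
    ext
    simp only [LinearMap.codRestrict_apply, LinearMap.sub_apply, LinearMap.id_apply,
      LinearMap.comp_apply, e, LinearEquiv.ofInjective_apply]
    have : ũ (ι k) = 0 := by
      ext
      exact hιu.apply_apply_eq_zero k
    rw [this, map_zero, sub_zero]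
  exact Module.Projective.of_split ι s hs

end Proj

section FibProj
variable {A B : Type u} [CommRing A] [CommRing B] [Algebra A B] (q : Ideal B) [q.IsPrime]
  (P : Type u) [AddCommGroup P] [Module B P] [Module.Finite B P] [Module.Projective B P]

variable (A) in
theorem projective_fibLocMod :
    Module.Projective (EGA4.FibLocRing A B q) (EGA4.FibLocMod A B q P) := by
  let I := (q.comap (algebraMap A B)).map (algebraMap A (Localization.AtPrime q))
  let e := (TensorProduct.quotTensorEquivQuotSMul (LocalizedModule q.primeCompl P) I).extendScalarsOfSurjective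
    (S := Localization.AtPrime q ⧸ I) Ideal.Quotient.mk_surjective
  exact Module.Projective.of_equiv e

variable (A) in
theorem le_idealDepth_fibLocMod_of_projective (k : ℕ) (hk : k = 1 ∨ k = 2)
    (h : (k : ℕ∞) ≤ LocCoh.idealDepth (q.map (algebraMap B (EGA4.FibLocRing A B q))) (EGA4.FibLocRing A B q)) :
    (k : ℕ∞) ≤ LocCoh.idealDepth (q.map (algebraMap B (EGA4.FibLocRing A B q))) (EGA4.FibLocMod A B q P) := by
  haveI := projective_fibLocMod A q P
  haveI : Module.Finite (EGA4.FibLocRing A B q) (EGA4.FibLocMod A B q P) := inferInstance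
  exact Groth.Agent.S18702.le_idealDepth_of_isReflexive _ _ _ k hk h

end FibProj


section LocBC
variable {B B' : Type u} [CommRing B] [CommRing B'] [Algebra B B'] (q' : Ideal B') [q'.IsPrime]
  (M : Type u) [AddCommGroup M] [Module B M]

attribute [local instance low] Localization.AtPrime.algebraOfLiesOver

/-- `(B' ⊗_B M)_{q'} ≅ B'_{q'} ⊗_{B_q} M_q`. -/
theorem nonempty_loc_baseChange :
    haveI : q'.LiesOver (q'.comap (algebraMap B B')) := ⟨rfl⟩
    Nonempty (LocalizedModule q'.primeCompl (B' ⊗[B] M) ≃ₗ[Localization.AtPrime q']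
      (Localization.AtPrime q' ⊗[Localization.AtPrime (q'.comap (algebraMap B B'))]
        LocalizedModule (q'.comap (algebraMap B B')).primeCompl M)) := by
  haveI : q'.LiesOver (q'.comap (algebraMap B B')) := ⟨rfl⟩
  set q := q'.comap (algebraMap B B') with hq
  let e1 := AlgebraTensorModule.cancelBaseChange B (Localization.AtPrime q)
    (Localization.AtPrime q') (Localization.AtPrime q') M
  let e2 : Localization.AtPrime q ⊗[B] M ≃ₗ[Localization.AtPrime q] LocalizedModule q.primeCompl M :=
    (IsLocalizedModule.isBaseChange q.primeCompl (Localization.AtPrime q)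
      (LocalizedModule.mkLinearMap q.primeCompl M)).equiv
  let e3 : Localization.AtPrime q' ⊗[Localization.AtPrime q]
      (Localization.AtPrime q ⊗[B] M) ≃ₗ[Localization.AtPrime q']
      Localization.AtPrime q' ⊗[Localization.AtPrime q] LocalizedModule q.primeCompl M :=
    AlgebraTensorModule.congr (LinearEquiv.refl (Localization.AtPrime q') _) e2
  let e : Localization.AtPrime q' ⊗[B] M ≃ₗ[Localization.AtPrime q']
      Localization.AtPrime q' ⊗[Localization.AtPrime q] LocalizedModule q.primeCompl M :=
    e1.symm ≪≫ₗ e3
  let g : B' ⊗[B] M →ₗ[B'] Localization.AtPrime q' ⊗[B] M :=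
    AlgebraTensorModule.rTensor B M (Algebra.linearMap B' (Localization.AtPrime q'))
  haveI hg : IsLocalizedModule q'.primeCompl g :=
    IsLocalizedModule.rTensor (R := B) (N := M) B' q'.primeCompl
      (Algebra.linearMap B' (Localization.AtPrime q'))
  haveI hψ : IsLocalizedModule q'.primeCompl ((e.restrictScalars B').toLinearMap ∘ₗ g) :=
    IsLocalizedModule.of_linearEquiv q'.primeCompl g (e.restrictScalars B')
  exact ⟨(IsLocalizedModule.iso q'.primeCompl
    ((e.restrictScalars B').toLinearMap ∘ₗ g)).extendScalarsOfIsLocalization q'.primeCompl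
      (Localization.AtPrime q')⟩

/-- freeness at `q` passes to the base change at `q'`. -/
theorem free_loc_baseChange
    (h : Module.Free (Localization.AtPrime (q'.comap (algebraMap B B')))
      (LocalizedModule (q'.comap (algebraMap B B')).primeCompl M)) :
    Module.Free (Localization.AtPrime q') (LocalizedModule q'.primeCompl (B' ⊗[B] M)) := by
  haveI : q'.LiesOver (q'.comap (algebraMap B B')) := ⟨rfl⟩
  obtain ⟨e⟩ := nonempty_loc_baseChange (B := B) q' M
  haveI := h
  haveI : Module.Free (Localization.AtPrime q')
      (Localization.AtPrime q' ⊗[Localization.AtPrime (q'.comap (algebraMap B B'))]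
        LocalizedModule (q'.comap (algebraMap B B')).primeCompl M) := inferInstance
  exact Module.Free.of_equiv e.symm

end LocBC

section FibMDepth
variable {A B : Type u} [CommRing A] [CommRing B] [IsNoetherianRing A] [IsNoetherianRing B]
  [Algebra A B]
  (X : Type u) [AddCommGroup X] [Module B X] [Module A X] [IsScalarTower A B X] [Module.Finite B X]

attribute [local instance low] Localization.AtPrime.algebraOfLiesOver modLoc

theorem fibM_idealDepth_eq (J : Ideal B) (q : Ideal B) [q.IsPrime] :
    haveI : q.LiesOver (q.comap (algebraMap A B)) := ⟨rfl⟩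
    LocCoh.idealDepth (J.map (algebraMap B (Localization.AtPrime q)))
        (FibM X (q.comap (algebraMap A B)) q) =
      LocCoh.idealDepth (J.map (algebraMap B (EGA4.FibLocRing A B q)))
        (EGA4.FibLocMod A B q X) := by
  haveI : q.LiesOver (q.comap (algebraMap A B)) := ⟨rfl⟩
  have hI := ideal_eq (A := A) q
  let e : FibM X (q.comap (algebraMap A B)) q ≃ₗ[Localization.AtPrime q] EGA4.FibLocMod A B q X :=
    Submodule.quotEquivOfEq _ _ (by rw [hI])
  rw [Groth.Agent.Lib.Helper29.CMLib.idealDepth_congr _ e,
    Groth.Agent.Lib.Helper29.DepthFinite.idealDepth_map_eq (B := EGA4.FibLocRing A B q)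
      (J.map (algebraMap B (Localization.AtPrime q))) (EGA4.FibLocMod A B q X),
    Ideal.map_map, ← IsScalarTower.algebraMap_eq]

end FibMDepth

end Groth.Agent.Lib.Helper14.QGorBC
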