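import Groth.Prelude.Def_QuadGrp
import Mathlib

/-!
Base change of quadratic forms (the characteristic-free `QuadGrp.baseChangeForm`): a bilinear lift,
values on pure tensors, polar form, membership in `QuadGrp.orth`.
-/

set_option autoImplicit false
universe u v w

namespace Groth.Agent.Lib.Helper14.QuadBC

open TensorProduct QuadGrp

variable {R : Type u} [CommRing R] {M : Type v} [AddCommGroup M] [Module R M] [Module.Free R M]
variable (A : Type w) [CommRing A] [Algebra R A] (Q : QuadraticForm R M)

/-- An `A`-bilinear form on `A ⊗ M` whose diagonal is `baseChangeForm A Q`. -/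
noncomputable def blA : LinearMap.BilinForm A (A ⊗[R] M) :=
  ((bilinLift Q).baseChange A).compr₂ (AlgebraTensorModule.rid R A A).toLinearMap

theorem blA_tmul (a b : A) (m m' : M) :
    blA A Q (a ⊗ₜ[R] m) (b ⊗ₜ[R] m') = bilinLift Q m m' • (a * b) := by
  simp [blA, LinearMap.compr₂_apply]

theorem baseChangeForm_apply (x : A ⊗[R] M) : baseChangeForm A Q x = blA A Q x x := by
  simp [baseChangeForm, QuadGrp.baseChange, blA, LinearMap.compr₂_apply,
    LinearMap.BilinMap.toQuadraticMap_apply]

theorem polar_baseChangeForm (x y : A ⊗[R] M) :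
    QuadraticMap.polar (baseChangeForm A Q) x y = blA A Q x y + blA A Q y x := by
  simp only [QuadraticMap.polar, baseChangeForm_apply, map_add, LinearMap.add_apply]
  ring

theorem bilinLift_self (m : M) : bilinLift Q m m = Q m := by
  conv_rhs => rw [← bilinLift_spec Q]
  rfl

theorem bilinLift_add_flip (m m' : M) :
    bilinLift Q m m' + bilinLift Q m' m = QuadraticMap.polar Q m m' := by
  conv_rhs => rw [← bilinLift_spec Q]
  rw [LinearMap.BilinMap.polar_toQuadraticMap]

theorem mem_orth_iff (h : (A ⊗[R] M) ≃ₗ[A] (A ⊗[R] M)) :
    h ∈ orth Q A ↔ ∀ x, baseChangeForm A Q (h x) = baseChangeForm A Q x := by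
  rw [orth, mem_O]
  constructor
  · intro H x
    simp only [baseChangeForm, LinearMap.compQuadraticMap_apply]
    rw [H x]
  · intro H x
    have := H x
    simp only [baseChangeForm, LinearMap.compQuadraticMap_apply] at this
    exact (AlgebraTensorModule.rid R A A).injective this

end Groth.Agent.Lib.Helper14.QuadBC
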