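import Mathlib

/-!
Kronecker-type substitutions with exponents `2 ^ i` (a Sidon set): coefficient extraction for
polynomials of the form `∑ C c * X ^ (2 ^ i + 2 ^ j)`.
-/

set_option autoImplicit false
universe u

namespace Groth.Agent.Lib.Helper14.SidonPoly

open Polynomial

theorem sidon_aux {a b c e : ℕ} (hab : a ≤ b) (hce : c ≤ e) (h : 2 ^ a + 2 ^ b = 2 ^ c + 2 ^ e) :
    a = c ∧ b = e := by
  have hbe : b = e := by
    rcases lt_trichotomy b e with hlt | heq | hgt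
    · exfalso
      have h1 : 2 ^ a ≤ 2 ^ b := Nat.pow_le_pow_right (by norm_num) hab
      have h2 : 2 ^ (b + 1) ≤ 2 ^ e := Nat.pow_le_pow_right (by norm_num) hlt
      have h3 : 0 < 2 ^ c := Nat.two_pow_pos _
      rw [pow_succ] at h2
      omega
    · exact heq
    · exfalso
      have h1 : 2 ^ c ≤ 2 ^ e := Nat.pow_le_pow_right (by norm_num) hce
      have h2 : 2 ^ (e + 1) ≤ 2 ^ b := Nat.pow_le_pow_right (by norm_num) hgt
      have h3 : 0 < 2 ^ a := Nat.two_pow_pos _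
      rw [pow_succ] at h2
      omega
  subst hbe
  have : 2 ^ a = 2 ^ c := by omega
  exact ⟨Nat.pow_right_injective (le_refl 2) this, rfl⟩

theorem sidon {a b c e : ℕ} (h : 2 ^ a + 2 ^ b = 2 ^ c + 2 ^ e) :
    (a = c ∧ b = e) ∨ (a = e ∧ b = c) := by
  rcases le_total a b with hab | hab <;> rcases le_total c e with hce | hce
  · exact Or.inl (sidon_aux hab hce h)
  · right
    have := sidon_aux hab hce (by rw [h, add_comm])
    exact this
  · right
    have := sidon_aux hab hce (by rw [add_comm, h])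
    exact ⟨this.2, this.1⟩
  · left
    have := sidon_aux hab hce (by rw [add_comm, h, add_comm])
    exact ⟨this.2, this.1⟩

variable {R : Type u} [CommRing R]

theorem coeff_sum_C_mul_X_pow {ι : Type*} (s : Finset ι) (c : ι → R) (φ : ι → ℕ) (k : ℕ) :
    (∑ i ∈ s, C (c i) * X ^ φ i).coeff k = ∑ i ∈ s, if φ i = k then c i else 0 := by
  rw [finsetSum_coeff]
  refine Finset.sum_congr rfl fun i _ => ?_
  rw [coeff_C_mul_X_pow]
  by_cases h : φ i = k
  · rw [if_pos h, if_pos h.symm]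
  · rw [if_neg h, if_neg (fun h' => h h'.symm)]

/-- Coefficients of a "quadratic form" polynomial in the Kronecker substitution `t_i = X^(2^i)`. -/
theorem smul_eq_zero_quad {n : ℕ} (c : Fin n → Fin n → R) (a : R)
    (h : a • (∑ l : Fin n, ∑ i : Fin n, C (c l i) * (X ^ (2 ^ (l : ℕ)) * X ^ (2 ^ (i : ℕ)))) = 0) :
    (∀ l i, l ≠ i → a * (c l i + c i l) = 0) ∧ ∀ i, a * c i i = 0 := by
  have hP : (∑ l : Fin n, ∑ i : Fin n, C (c l i) * (X ^ (2 ^ (l : ℕ)) * X ^ (2 ^ (i : ℕ)))) =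
      ∑ p : Fin n × Fin n, C (c p.1 p.2) * X ^ (2 ^ (p.1 : ℕ) + 2 ^ (p.2 : ℕ)) := by
    rw [Fintype.sum_prod_type]
    simp only [pow_add]
  rw [hP] at h
  have hco : ∀ k, a * ∑ p : Fin n × Fin n,
      (if 2 ^ (p.1 : ℕ) + 2 ^ (p.2 : ℕ) = k then c p.1 p.2 else 0) = 0 := by
    intro k
    have := congrArg (fun P => P.coeff k) h
    simp only [coeff_smul, coeff_sum_C_mul_X_pow, smul_eq_mul, coeff_zero] at this
    exact this
  constructor
  · intro l i hli
    have := hco (2 ^ (l : ℕ) + 2 ^ (i : ℕ))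
    rw [Finset.sum_eq_add (l, i) (i, l)] at this
    · simpa [add_comm (2 ^ (i : ℕ))] using this
    · intro hcon
      exact hli (congrArg Prod.fst hcon)
    · rintro ⟨p1, p2⟩ _ ⟨h1, h2⟩
      rw [if_neg]
      intro heq
      rcases sidon heq with ⟨e1, e2⟩ | ⟨e1, e2⟩
      · exact h1 (Prod.ext (Fin.ext e1) (Fin.ext e2))
      · exact h2 (Prod.ext (Fin.ext e1) (Fin.ext e2))
    · intro hh; exact absurd (Finset.mem_univ _) hh
    · intro hh; exact absurd (Finset.mem_univ _) hh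
  · intro i
    have := hco (2 ^ (i : ℕ) + 2 ^ (i : ℕ))
    rw [Finset.sum_eq_single (i, i)] at this
    · simpa using this
    · rintro ⟨p1, p2⟩ _ h1
      rw [if_neg]
      intro heq
      rcases sidon heq with ⟨e1, e2⟩ | ⟨e1, e2⟩
      · exact h1 (Prod.ext (Fin.ext e1) (Fin.ext e2))
      · exact h1 (Prod.ext (Fin.ext e1) (Fin.ext e2))
    · intro hh; exact absurd (Finset.mem_univ _) hh

/-- Coefficients of a "bilinear form" polynomial in two Kronecker substitutions. -/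
theorem smul_eq_zero_bilin {n : ℕ} (c : Fin n → Fin n → R) (a : R)
    (h : a • (∑ l : Fin n, ∑ i : Fin n,
      C (c l i) * (X ^ (2 ^ (n + (l : ℕ))) * X ^ (2 ^ (i : ℕ)))) = 0) :
    ∀ l i, a * c l i = 0 := by
  have hP : (∑ l : Fin n, ∑ i : Fin n,
      C (c l i) * (X ^ (2 ^ (n + (l : ℕ))) * X ^ (2 ^ (i : ℕ)))) =
      ∑ p : Fin n × Fin n, C (c p.1 p.2) * X ^ (2 ^ (n + (p.1 : ℕ)) + 2 ^ (p.2 : ℕ)) := by
    rw [Fintype.sum_prod_type]
    simp only [pow_add]
  rw [hP] at h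
  intro l i
  have := congrArg (fun P => P.coeff (2 ^ (n + (l : ℕ)) + 2 ^ (i : ℕ))) h
  simp only [coeff_smul, coeff_sum_C_mul_X_pow, smul_eq_mul, coeff_zero] at this
  rw [Finset.sum_eq_single (l, i)] at this
  · simpa using this
  · rintro ⟨p1, p2⟩ _ h1
    rw [if_neg]
    intro heq
    rcases sidon heq with ⟨e1, e2⟩ | ⟨e1, e2⟩
    · apply h1
      rw [Prod.mk.injEq]
      have e1' : n + (p1 : ℕ) = n + (l : ℕ) := e1
      exact ⟨Fin.ext (by omega), Fin.ext e2⟩
    · have e1' : n + (p1 : ℕ) = (i : ℕ) := e1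
      have := p2.2
      have := i.2
      omega
  · intro hh; exact absurd (Finset.mem_univ _) hh

/-- From the vanishing of the "wedge" of `g v` and `v` deduce that `g` is diagonal with equal
entries. -/
theorem wedge_eq_zero {n : ℕ} (g : Fin n → Fin n → R) (j k : Fin n) (hjk : j ≠ k)
    (h : (∑ i : Fin n, C (g j i) * X ^ (2 ^ (i : ℕ))) * X ^ (2 ^ (k : ℕ)) =
      (∑ i : Fin n, C (g k i) * X ^ (2 ^ (i : ℕ))) * X ^ (2 ^ (j : ℕ))) :
    (∀ i, i ≠ j → g j i = 0) ∧ g j j = g k k := by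
  have hL : (∑ i : Fin n, C (g j i) * X ^ (2 ^ (i : ℕ))) * X ^ (2 ^ (k : ℕ)) =
      ∑ i : Fin n, C (g j i) * X ^ (2 ^ (i : ℕ) + 2 ^ (k : ℕ)) := by
    rw [Finset.sum_mul]
    refine Finset.sum_congr rfl fun i _ => ?_
    rw [pow_add, mul_assoc]
  have hR : (∑ i : Fin n, C (g k i) * X ^ (2 ^ (i : ℕ))) * X ^ (2 ^ (j : ℕ)) =
      ∑ i : Fin n, C (g k i) * X ^ (2 ^ (i : ℕ) + 2 ^ (j : ℕ)) := by
    rw [Finset.sum_mul]
    refine Finset.sum_congr rfl fun i _ => ?_
    rw [pow_add, mul_assoc]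
  rw [hL, hR] at h
  have hco : ∀ i : Fin n, g j i = ∑ i' : Fin n,
      if 2 ^ (i' : ℕ) + 2 ^ (j : ℕ) = 2 ^ (i : ℕ) + 2 ^ (k : ℕ) then g k i' else 0 := by
    intro i
    have := congrArg (fun P => P.coeff (2 ^ (i : ℕ) + 2 ^ (k : ℕ))) h
    simp only [coeff_sum_C_mul_X_pow] at this
    rw [Finset.sum_eq_single i] at this
    · simpa using this
    · intro i' _ hi'
      rw [if_neg]
      intro heq
      have := Nat.pow_right_injective (le_refl 2) (Nat.add_right_cancel heq)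
      exact hi' (Fin.ext this)
    · intro hh; exact absurd (Finset.mem_univ _) hh
  constructor
  · intro i hij
    rw [hco i]
    apply Finset.sum_eq_zero
    intro i' _
    rw [if_neg]
    intro heq
    rcases sidon heq with ⟨e1, e2⟩ | ⟨e1, e2⟩
    · exact hjk (Fin.ext e2)
    · exact hij (Fin.ext e2.symm)
  · rw [hco j, Finset.sum_eq_single k]
    · rw [if_pos (add_comm _ _)]
    · intro i' _ hi'
      rw [if_neg]
      intro heq
      rcases sidon heq with ⟨e1, e2⟩ | ⟨e1, e2⟩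
      · exact hjk (Fin.ext e2)
      · exact hi' (Fin.ext e1)
    · intro hh; exact absurd (Finset.mem_univ _) hh

end Groth.Agent.Lib.Helper14.SidonPoly
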