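import Groth.Agent.Lib.Helper14.QuadBC
import Groth.Agent.Lib.Helper14.SidonPoly

/-!
An isometry of a quadratic form on `R^n` commuting with all isometries after every base change
is a scalar (generic reflection argument over `R[X][1/q]` with a Kronecker substitution).
-/

set_option autoImplicit false
universe u

namespace Groth.Agent.Lib.Helper14.QuadCenter

open TensorProduct QuadGrp Polynomial Groth.Agent.Lib.Helper14.QuadBC
open scoped nonZeroDivisors

section Generic

variable {R : Type u} [CommRing R] {n : ℕ} (Q : QuadraticForm R (Fin n → R))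
variable (A : Type u) [CommRing A] [Algebra R[X] A] [Algebra R A] [IsScalarTower R R[X] A]

/-- the standard basis vectors -/
noncomputable abbrev e (i : Fin n) : Fin n → R := Pi.basisFun R (Fin n) i

/-- the basis of `A ⊗ R^n` -/
noncomputable abbrev bA : Module.Basis (Fin n) A (A ⊗[R] (Fin n → R)) :=
  Algebra.TensorProduct.basis A (Pi.basisFun R (Fin n))

/-- the vector with polynomial coordinates `p` -/
noncomputable def vec (p : Fin n → R[X]) : A ⊗[R] (Fin n → R) :=
  ∑ i, algebraMap R[X] A (p i) • bA (R := R) (n := n) A i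

theorem repr_vec (p : Fin n → R[X]) (j : Fin n) :
    (bA (R := R) (n := n) A).repr (vec A p) j = algebraMap R[X] A (p j) := by
  unfold vec
  rw [Module.Basis.repr_sum_self]

theorem blA_bA (l i : Fin n) :
    blA A Q (bA (R := R) (n := n) A l) (bA (R := R) (n := n) A i) =
      algebraMap R[X] A (C (bilinLift Q (e l) (e i))) := by
  rw [Algebra.TensorProduct.basis_apply, Algebra.TensorProduct.basis_apply, blA_tmul, mul_one,
    Algebra.smul_def, mul_one, IsScalarTower.algebraMap_apply R R[X] A, Polynomial.algebraMap_eq]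

theorem blA_vec (p p' : Fin n → R[X]) :
    blA A Q (vec A p) (vec A p') =
      algebraMap R[X] A (∑ l, ∑ i, C (bilinLift Q (e l) (e i)) * (p l * p' i)) := by
  unfold vec
  rw [LinearMap.map_sum₂, map_sum]
  refine Finset.sum_congr rfl fun l _ => ?_
  rw [map_sum, map_sum]
  refine Finset.sum_congr rfl fun i _ => ?_
  rw [LinearMap.map_smul₂, map_smul, blA_bA, smul_eq_mul, smul_eq_mul, map_mul, map_mul]
  ring

theorem gA_bA (g : (Fin n → R) ≃ₗ[R] (Fin n → R)) (i : Fin n) :
    g.baseChange R A (Fin n → R) (Fin n → R) (bA (R := R) (n := n) A i) =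
      ∑ j, algebraMap R[X] A (C (g (e i) j)) • bA (R := R) (n := n) A j := by
  rw [Algebra.TensorProduct.basis_apply, LinearEquiv.baseChange_tmul]
  have h1 : g (e i) = ∑ j, g (e i) j • (e j : Fin n → R) := by
    have := (Pi.basisFun R (Fin n)).sum_repr (g (e i))
    simpa using this.symm
  conv_lhs => rw [h1]
  rw [TensorProduct.tmul_sum]
  refine Finset.sum_congr rfl fun j _ => ?_
  rw [Algebra.TensorProduct.basis_apply, TensorProduct.tmul_smul, ← Polynomial.algebraMap_eq,
    ← IsScalarTower.algebraMap_apply R R[X] A, algebraMap_smul]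

theorem gA_vec (g : (Fin n → R) ≃ₗ[R] (Fin n → R)) (p : Fin n → R[X]) :
    g.baseChange R A (Fin n → R) (Fin n → R) (vec A p) =
      vec A (fun j => ∑ i, C (g (e i) j) * p i) := by
  unfold vec
  rw [map_sum]
  simp only [map_smul, gA_bA, Finset.smul_sum, smul_smul]
  rw [Finset.sum_comm]
  refine Finset.sum_congr rfl fun j _ => ?_
  rw [← Finset.sum_smul]
  congr 1
  rw [map_sum]
  refine Finset.sum_congr rfl fun i _ => ?_
  rw [map_mul, mul_comm]

end Generic

section Main

variable {R : Type u} [CommRing R] {n : ℕ} (Q : QuadraticForm R (Fin n → R))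

/-- the polynomial `Q(v)` for the Kronecker-generic vector `v = ∑ X^(2^i) e_i` -/
noncomputable def qpoly : R[X] :=
  ∑ l : Fin n, ∑ i : Fin n,
    C (bilinLift Q (e l) (e i)) * (X ^ (2 ^ (l : ℕ)) * X ^ (2 ^ (i : ℕ)))

/-- the polynomial `B(u, v)` for two Kronecker-generic vectors -/
noncomputable def Lpoly : R[X] :=
  ∑ l : Fin n, ∑ i : Fin n,
    C (QuadraticMap.polar Q (e l) (e i)) * (X ^ (2 ^ (n + (l : ℕ))) * X ^ (2 ^ (i : ℕ)))

variable (hann : ∀ a : R, (∀ l i : Fin n, a * QuadraticMap.polar Q (e l) (e i) = 0) → a = 0)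

include hann in
theorem qpoly_mem : qpoly Q ∈ R[X]⁰ := by
  rw [Polynomial.mem_nonZeroDivisors_iff]
  intro a ha
  obtain ⟨h1, h2⟩ := SidonPoly.smul_eq_zero_quad _ a ha
  apply hann
  intro l i
  by_cases hli : l = i
  · subst hli
    rw [← bilinLift_add_flip, mul_add, h2, add_zero]
  · rw [← bilinLift_add_flip]
    exact h1 l i hli

include hann in
theorem Lpoly_mem : Lpoly Q ∈ R[X]⁰ := by
  rw [Polynomial.mem_nonZeroDivisors_iff]
  intro a ha
  exact hann a (SidonPoly.smul_eq_zero_bilin _ a ha)

include hann in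
theorem exists_scalar_refl (hn : 2 ≤ n) (g : (Fin n → R) ≃ₗ[R] (Fin n → R))
    (hcomm : ∀ (A : Type u) [CommRing A] [Algebra R A] (x : A ⊗[R] (Fin n → R))
      (f : Module.Dual A (A ⊗[R] (Fin n → R))) (hfx : f x = 2),
      Module.reflection hfx ∈ orth Q A →
      g.baseChange R A (Fin n → R) (Fin n → R) * Module.reflection hfx =
        Module.reflection hfx * g.baseChange R A (Fin n → R) (Fin n → R)) :
    ∃ c : R, ∀ v, g v = c • v := by
  classical
  let A := Localization.Away (qpoly Q)
  have hinj : Function.Injective (algebraMap R[X] A) :=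
    IsLocalization.injective A (Submonoid.powers_le.2 (qpoly_mem Q hann))
  let pv : Fin n → R[X] := fun i => X ^ (2 ^ (i : ℕ))
  let pu : Fin n → R[X] := fun l => X ^ (2 ^ (n + (l : ℕ)))
  let v : A ⊗[R] (Fin n → R) := vec A pv
  let u0 : A ⊗[R] (Fin n → R) := vec A pu
  let QA : QuadraticForm A (A ⊗[R] (Fin n → R)) := baseChangeForm A Q
  have hQv : QA v = algebraMap R[X] A (qpoly Q) := by
    show baseChangeForm A Q (vec A pv) = _
    rw [baseChangeForm_apply, blA_vec]
    rfl
  have hunit : IsUnit (QA v) := by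
    rw [hQv]
    exact IsLocalization.Away.algebraMap_isUnit (qpoly Q)
  obtain ⟨uq, huq⟩ := hunit
  have hpolar : QuadraticMap.polar QA u0 v = algebraMap R[X] A (Lpoly Q) := by
    show QuadraticMap.polar (baseChangeForm A Q) (vec A pu) (vec A pv) = _
    rw [polar_baseChangeForm, blA_vec, blA_vec, ← map_add]
    congr 1
    rw [Finset.sum_comm (f := fun l i => C (bilinLift Q (e l) (e i)) * (pv l * pu i)),
      ← Finset.sum_add_distrib]
    unfold Lpoly
    refine Finset.sum_congr rfl fun l _ => ?_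
    rw [← Finset.sum_add_distrib]
    refine Finset.sum_congr rfl fun i _ => ?_
    rw [← bilinLift_add_flip, map_add]
    simp only [pu, pv]
    ring
  -- the reflection in `v`
  have huq' : (↑uq⁻¹ : A) * QA v = 1 := by rw [← huq]; exact uq.inv_mul
  let f : (A ⊗[R] (Fin n → R)) →ₗ[A] A := (↑uq⁻¹ : A) • (QuadraticMap.polarBilin QA).flip v
  have hf_apply : ∀ y, f y = (↑uq⁻¹ : A) * QuadraticMap.polar QA y v := fun y => rfl
  have hfv : f v = 2 := by
    rw [hf_apply, QuadraticMap.polar_self, two_smul]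
    linear_combination 2 * huq'
  let τ : (A ⊗[R] (Fin n → R)) ≃ₗ[A] (A ⊗[R] (Fin n → R)) := Module.reflection hfv
  have hτ_apply : ∀ y, τ y = y - f y • v := fun y => Module.reflection_apply y hfv
  have hτ : τ ∈ orth Q A := by
    rw [mem_orth_iff]
    intro y
    show QA (τ y) = QA y
    rw [hτ_apply, sub_eq_add_neg, ← neg_smul (f y) v, QuadraticMap.map_add (⇑QA), QuadraticMap.map_smul,
      QuadraticMap.polar_smul_right, hf_apply, smul_eq_mul, smul_eq_mul]
    linear_combination ((↑uq⁻¹ : A) * (QuadraticMap.polar QA y v) ^ 2) * huq'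
  have h1 := LinearEquiv.congr_fun (hcomm A v f hfv hτ) u0
  rw [LinearEquiv.mul_apply, LinearEquiv.mul_apply, hτ_apply, hτ_apply, map_sub, map_smul] at h1
  have h2 : f u0 • g.baseChange R A (Fin n → R) (Fin n → R) v =
      f (g.baseChange R A (Fin n → R) (Fin n → R) u0) • v := sub_right_injective h1
  have hw : g.baseChange R A (Fin n → R) (Fin n → R) v =
      vec A (fun j => ∑ i, C (g (e i) j) * pv i) := gA_vec A g pv
  have h3 : ∀ j, f u0 * algebraMap R[X] A (∑ i, C (g (e i) j) * pv i) =
      f (g.baseChange R A (Fin n → R) (Fin n → R) u0) * algebraMap R[X] A (pv j) := by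
    intro j
    have := congrArg (fun x => (bA (R := R) (n := n) A).repr x j) h2
    simp only [map_smul, Finsupp.smul_apply, smul_eq_mul, hw] at this
    rw [repr_vec] at this
    rw [this]
    congr 1
    exact repr_vec A pv j
  have huq'' : (uq : A) * ↑uq⁻¹ = 1 := uq.mul_inv
  have h4 : ∀ j k, Lpoly Q * ((∑ i, C (g (e i) j) * pv i) * pv k) =
      Lpoly Q * ((∑ i, C (g (e i) k) * pv i) * pv j) := by
    intro j k
    apply hinj
    have e1 := h3 j
    have e2 := h3 k
    rw [hf_apply, hpolar] at e1 e2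
    simp only [map_mul]
    linear_combination ((uq : A) * algebraMap R[X] A (pv k)) * e1 -
      ((uq : A) * algebraMap R[X] A (pv j)) * e2 -
      (algebraMap R[X] A (Lpoly Q) * algebraMap R[X] A (∑ i, C (g (e i) j) * pv i) *
          algebraMap R[X] A (pv k) -
        algebraMap R[X] A (Lpoly Q) * algebraMap R[X] A (∑ i, C (g (e i) k) * pv i) *
          algebraMap R[X] A (pv j)) * huq''
  have h5 : ∀ j k : Fin n, j ≠ k → (∀ i, i ≠ j → g (e i) j = 0) ∧ g (e j) j = g (e k) k := by
    intro j k hjk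
    have := (mul_cancel_left_mem_nonZeroDivisors (Lpoly_mem Q hann)).1 (h4 j k)
    exact SidonPoly.wedge_eq_zero (fun j i => g (e i) j) j k hjk this
  let i0 : Fin n := ⟨0, by omega⟩
  let i1 : Fin n := ⟨1, by omega⟩
  have h01 : i0 ≠ i1 := by
    intro h
    have := congrArg Fin.val h
    simp [i0, i1] at this
  refine ⟨g (e i0) i0, fun x => ?_⟩
  have hdiag : ∀ j, g (e j) j = g (e i0) i0 := by
    intro j
    by_cases hj : j = i0
    · rw [hj]
    · exact (h5 j i0 hj).2
  have hoff : ∀ i j, i ≠ j → g (e i) j = 0 := by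
    intro i j hij
    by_cases hj : j = i0
    · exact (h5 j i1 (hj ▸ h01)).1 i hij
    · exact (h5 j i0 hj).1 i hij
  have hx : x = ∑ i, x i • (e i : Fin n → R) := by
    have := (Pi.basisFun R (Fin n)).sum_repr x
    simpa using this.symm
  funext j
  conv_lhs => rw [hx]
  rw [map_sum, Finset.sum_apply, Finset.sum_eq_single j]
  · rw [map_smul, Pi.smul_apply, Pi.smul_apply, hdiag j, smul_eq_mul, smul_eq_mul, mul_comm]
  · intro i _ hij
    rw [map_smul, Pi.smul_apply, hoff i j hij, smul_zero]
  · intro h; exact absurd (Finset.mem_univ _) h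

include hann in
theorem exists_scalar (hn : 2 ≤ n) (g : (Fin n → R) ≃ₗ[R] (Fin n → R))
    (hcomm : ∀ (A : Type u) [CommRing A] [Algebra R A], ∀ h ∈ orth Q A,
      g.baseChange R A (Fin n → R) (Fin n → R) * h = h * g.baseChange R A (Fin n → R) (Fin n → R)) :
    ∃ c : R, ∀ v, g v = c • v :=
  exists_scalar_refl Q hann hn g (fun A _ _ _ _ hfx hmem => hcomm A _ hmem)

end Main

end Groth.Agent.Lib.Helper14.QuadCenter
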