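import Groth.Agent.Lib.Helper14.QuadInf

/-!
An infinitesimal rotation `1 + ε X` induces on the Clifford algebra the inner automorphism by the
even unit `1 + ε ι(r) ι(p)`, hence satisfies the Dickson condition.
-/

set_option autoImplicit false
universe u v w

namespace Groth.Agent.Lib.Helper14.QuadDickson

open QuadGrp CliffordAlgebra

variable {A : Type u} {N : Type v} [CommRing A] [AddCommGroup N] [Module A N]
  (QA : QuadraticForm A N) {ε : A} (hε : ε * ε = 0) (p r : N)

include hε in
theorem dickson_of_inf (h : N ≃ₗ[A] N) (hO : h ∈ O QA)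
    (hh : ∀ y, h y = y + ε • (QuadraticMap.polar QA y p • r - QuadraticMap.polar QA y r • p)) :
    IsDicksonTrivial QA h hO := by
  set t : CliffordAlgebra QA := ι QA r * ι QA p with ht
  set wt : CliffordAlgebra QA := 1 + ε • t with hwt
  set wt' : CliffordAlgebra QA := 1 - ε • t with hwt'
  have hsq : (ε • t) * (ε • t) = 0 := by
    rw [smul_mul_smul_comm, hε, zero_smul]
  have hww' : wt * wt' = 1 := by
    rw [hwt, hwt', add_mul, mul_sub, mul_sub, hsq]
    simp
  have key : ∀ a : CliffordAlgebra QA,
      CliffordAlgebra.map (isometryOfMem QA h hO) a * wt = wt * a := by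
    intro a
    induction a using CliffordAlgebra.induction with
    | algebraMap c =>
      rw [AlgHom.commutes, Algebra.commutes]
    | ι y =>
      rw [CliffordAlgebra.map_apply_ι, isometryOfMem_apply, hh]
      have h1 : ι QA p * ι QA y =
          algebraMap A _ (QuadraticMap.polar QA y p) - ι QA y * ι QA p := by
        rw [QuadraticMap.polar_comm]
        exact ι_mul_ι_comm p y
      have h2 : ι QA r * ι QA y =
          algebraMap A _ (QuadraticMap.polar QA y r) - ι QA y * ι QA r := by
        rw [QuadraticMap.polar_comm]
        exact ι_mul_ι_comm r y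
      have e1 : t * ι QA y = QuadraticMap.polar QA y p • ι QA r -
          QuadraticMap.polar QA y r • ι QA p + ι QA y * t := by
        rw [ht, mul_assoc, h1, mul_sub, ← mul_assoc (ι QA r) (ι QA y) (ι QA p), h2, sub_mul,
          ← Algebra.commutes, ← Algebra.smul_def, ← Algebra.smul_def, mul_assoc]
        abel
      rw [hwt, map_add, map_smul, map_sub, map_smul, map_smul, add_mul, mul_add, mul_add,
        add_mul, one_mul, mul_one, mul_one, smul_mul_assoc]
      rw [smul_mul_assoc ε t, e1, mul_smul_comm, mul_smul_comm, smul_smul, hε, zero_smul, smul_add]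
      abel
    | mul a b ha hb =>
      rw [map_mul, mul_assoc, hb, ← mul_assoc, ha, mul_assoc]
    | add a b ha hb =>
      rw [map_add, add_mul, ha, hb, mul_add]
  intro z hz
  have hwmem : wt ∈ CliffordAlgebra.even QA := by
    refine Subalgebra.add_mem _ (Subalgebra.one_mem _) (Subalgebra.smul_mem _ ?_ ε)
    show t ∈ Subalgebra.toSubmodule (CliffordAlgebra.even QA)
    rw [CliffordAlgebra.even_toSubmodule]
    exact ι_mul_ι_mem_evenOdd_zero QA r p
  have hcomm : wt * (z : CliffordAlgebra QA) = (z : CliffordAlgebra QA) * wt := by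
    have := Subalgebra.mem_center_iff.1 hz ⟨wt, hwmem⟩
    exact congrArg Subtype.val this
  calc CliffordAlgebra.map (isometryOfMem QA h hO) (z : CliffordAlgebra QA)
      = CliffordAlgebra.map (isometryOfMem QA h hO) (z : CliffordAlgebra QA) * (wt * wt') := by
        rw [hww', mul_one]
    _ = (z : CliffordAlgebra QA) := by
        rw [← mul_assoc, key, hcomm, mul_assoc, hww', mul_one]

end Groth.Agent.Lib.Helper14.QuadDickson
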