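import Groth.Agent.Lib.Helper14.QuadBC

/-!
Infinitesimal rotations `1 + ε X_{u,v}` (with `ε^2 = 0`) as isometries of determinant one of a
base-changed quadratic form.
-/

set_option autoImplicit false
universe u v w

namespace Groth.Agent.Lib.Helper14.QuadInf

open TensorProduct QuadGrp Groth.Agent.Lib.Helper14.QuadBC

section Inf

variable {R : Type u} [CommRing R] {M : Type v} [AddCommGroup M] [Module R M] [Module.Free R M]
variable (A : Type w) [CommRing A] [Algebra R A] (Q : QuadraticForm R M)

theorem polar_hat (x y : M) :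
    QuadraticMap.polar (baseChangeForm A Q) ((1 : A) ⊗ₜ[R] x) ((1 : A) ⊗ₜ[R] y) =
      algebraMap R A (QuadraticMap.polar Q x y) := by
  rw [polar_baseChangeForm, blA_tmul, blA_tmul, mul_one, ← add_smul, bilinLift_add_flip,
    Algebra.smul_def, mul_one]

variable (ε : A) (u v : M)

/-- the nilpotent part of the infinitesimal rotation -/
noncomputable def infX : (A ⊗[R] M) →ₗ[A] (A ⊗[R] M) :=
  ε • (((QuadraticMap.polarBilin (baseChangeForm A Q)).flip ((1 : A) ⊗ₜ[R] u)).smulRight
        ((1 : A) ⊗ₜ[R] v) -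
      ((QuadraticMap.polarBilin (baseChangeForm A Q)).flip ((1 : A) ⊗ₜ[R] v)).smulRight
        ((1 : A) ⊗ₜ[R] u))

theorem infX_apply (y : A ⊗[R] M) :
    infX A Q ε u v y =
      ε • (QuadraticMap.polar (baseChangeForm A Q) y ((1 : A) ⊗ₜ[R] u) • ((1 : A) ⊗ₜ[R] v) -
        QuadraticMap.polar (baseChangeForm A Q) y ((1 : A) ⊗ₜ[R] v) • ((1 : A) ⊗ₜ[R] u)) := by
  simp [infX]

variable {ε} (hε : ε * ε = 0)

include hε in
theorem infX_infX (y : A ⊗[R] M) : infX A Q ε u v (infX A Q ε u v y) = 0 := by
  unfold infX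
  rw [LinearMap.smul_apply, LinearMap.smul_apply, map_smul, smul_smul, hε, zero_smul]

/-- the infinitesimal rotation `1 + ε X_{u,v}` -/
noncomputable def infEquiv : (A ⊗[R] M) ≃ₗ[A] (A ⊗[R] M) :=
  LinearEquiv.ofLinearMap (LinearMap.id + infX A Q ε u v) (LinearMap.id - infX A Q ε u v)
    (by
      ext y
      simp [infX_infX A Q u v hε])
    (by
      ext y
      simp [infX_infX A Q u v hε])

theorem infEquiv_apply (y : A ⊗[R] M) :
    infEquiv A Q u v hε y = y + infX A Q ε u v y := rfl

theorem infEquiv_mem_orth : infEquiv A Q u v hε ∈ orth Q A := by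
  rw [mem_orth_iff]
  intro y
  rw [infEquiv_apply, infX_apply, QuadraticMap.map_add (⇑(baseChangeForm A Q)),
    QuadraticMap.map_smul, hε, zero_smul, add_zero, QuadraticMap.polar_smul_right,
    QuadraticMap.polar_sub_right, QuadraticMap.polar_smul_right, QuadraticMap.polar_smul_right,
    smul_eq_mul, smul_eq_mul, smul_eq_mul]
  ring

theorem det_infEquiv [Module.Finite R M] : LinearEquiv.det (infEquiv A Q u v hε) = 1 := by
  rw [← Units.val_inj, LinearEquiv.coe_det, Units.val_one]
  let BA := QuadraticMap.polarBilin (baseChangeForm A Q)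
  let f₁ : Module.Dual A (A ⊗[R] M) := ε • BA.flip ((1 : A) ⊗ₜ[R] u)
  let f₂ : Module.Dual A (A ⊗[R] M) := -(ε • BA.flip ((1 : A) ⊗ₜ[R] v))
  have hcomp : (infEquiv A Q u v hε).toLinearMap =
      LinearMap.transvection f₁ ((1 : A) ⊗ₜ[R] v) ∘ₗ LinearMap.transvection f₂ ((1 : A) ⊗ₜ[R] u) := by
    refine LinearMap.ext fun y => ?_
    rw [LinearEquiv.coe_coe, infEquiv_apply, infX_apply, LinearMap.comp_apply,
      LinearMap.transvection.apply, LinearMap.transvection.apply]
    simp only [f₁, f₂, BA, LinearMap.neg_apply, LinearMap.smul_apply, LinearMap.flip_apply,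
      QuadraticMap.polarBilin_apply_apply, smul_eq_mul, map_add, map_smul, map_neg]
    have hz : ∀ b c : A, -(ε * b) * (ε * c) = 0 := fun b c => by
      linear_combination (-(b * c)) * hε
    rw [hz, add_zero, smul_sub, smul_smul, smul_smul, neg_smul]
    abel
  rw [hcomp, LinearMap.det_comp, LinearMap.transvection.det, LinearMap.transvection.det]
  simp only [f₁, f₂, BA, LinearMap.neg_apply, LinearMap.smul_apply, LinearMap.flip_apply,
    QuadraticMap.polarBilin_apply_apply, smul_eq_mul]
  rw [QuadraticMap.polar_comm (⇑(baseChangeForm A Q)) ((1 : A) ⊗ₜ[R] u) ((1 : A) ⊗ₜ[R] v)]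
  linear_combination (-(QuadraticMap.polar (⇑(baseChangeForm A Q)) ((1 : A) ⊗ₜ[R] v)
    ((1 : A) ⊗ₜ[R] u)) ^ 2) * hε

end Inf

section Extract

open DualNumber

variable {R : Type u} [CommRing R] {n : ℕ} (Q : QuadraticForm R (Fin n → R))

theorem eps_tmul_injective (m m' : Fin n → R)
    (h : (ε : R[ε]) • ((1 : R[ε]) ⊗ₜ[R] m) = (ε : R[ε]) • ((1 : R[ε]) ⊗ₜ[R] m')) : m = m' := by
  funext j
  have h1 := congrArg (fun z => (Algebra.TensorProduct.basis R[ε] (Pi.basisFun R (Fin n))).repr z j) h
  simp only [map_smul, Finsupp.smul_apply, Algebra.TensorProduct.basis_repr_tmul, one_smul,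
    Finsupp.mapRange_apply, Pi.basisFun_repr, smul_eq_mul] at h1
  have := congrArg TrivSqZeroExt.snd h1
  rw [TrivSqZeroExt.algebraMap_eq_inl] at this
  simp only [TrivSqZeroExt.snd_mul, TrivSqZeroExt.snd_inl, TrivSqZeroExt.fst_inl,
    DualNumber.snd_eps, DualNumber.fst_eps] at this
  simpa using this

/-- The identity extracted from commutation with an infinitesimal rotation. -/
theorem spade (g : (Fin n → R) ≃ₗ[R] (Fin n → R)) (u v x : Fin n → R)
    (hc : g.baseChange R R[ε] (Fin n → R) (Fin n → R) * infEquiv R[ε] Q u v DualNumber.eps_mul_eps =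
      infEquiv R[ε] Q u v DualNumber.eps_mul_eps * g.baseChange R R[ε] (Fin n → R) (Fin n → R)) :
    QuadraticMap.polar Q x u • g v - QuadraticMap.polar Q x v • g u =
      QuadraticMap.polar Q (g x) u • v - QuadraticMap.polar Q (g x) v • u := by
  have h1 := LinearEquiv.congr_fun hc ((1 : R[ε]) ⊗ₜ[R] x)
  rw [LinearEquiv.mul_apply, LinearEquiv.mul_apply, infEquiv_apply, infEquiv_apply, map_add,
    LinearEquiv.baseChange_tmul, add_right_inj, infX_apply, infX_apply, polar_hat, polar_hat,
    polar_hat, polar_hat, map_smul] at h1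
  simp only [algebraMap_smul, ← TensorProduct.tmul_smul, ← TensorProduct.tmul_sub,
    LinearEquiv.baseChange_tmul] at h1
  have := eps_tmul_injective _ _ h1
  rw [map_sub, map_smul, map_smul] at this
  exact this

theorem exists_ne_ne (hn : 3 ≤ n) (a b : Fin n) : ∃ m : Fin n, m ≠ a ∧ m ≠ b := by
  by_cases h0 : (a : ℕ) ≠ 0 ∧ (b : ℕ) ≠ 0
  · exact ⟨⟨0, by omega⟩, fun h => h0.1 (by rw [← h]), fun h => h0.2 (by rw [← h])⟩
  by_cases h1 : (a : ℕ) ≠ 1 ∧ (b : ℕ) ≠ 1
  · exact ⟨⟨1, by omega⟩, fun h => h1.1 (by rw [← h]), fun h => h1.2 (by rw [← h])⟩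
  refine ⟨⟨2, by omega⟩, fun h => ?_, fun h => ?_⟩
  · have := congrArg Fin.val h
    simp only at this
    omega
  · have := congrArg Fin.val h
    simp only at this
    omega

/-- In the regular (even rank) case the identity `spade` forces `g` to be a scalar. -/
theorem exists_scalar_of_spade (hn : 3 ≤ n) (hreg : QuadGrp.IsRegular Q)
    (g : (Fin n → R) ≃ₗ[R] (Fin n → R))
    (hs : ∀ u v x : Fin n → R,
      QuadraticMap.polar Q x u • g v - QuadraticMap.polar Q x v • g u =
        QuadraticMap.polar Q (g x) u • v - QuadraticMap.polar Q (g x) v • u) :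
    ∃ c : R, ∀ x, g x = c • x := by
  classical
  let e : Fin n → (Fin n → R) := fun i => Pi.basisFun R (Fin n) i
  have he : ∀ i k, e i k = if i = k then 1 else 0 := by
    intro i k
    simp only [e, Pi.basisFun_apply, Pi.single_apply]
    by_cases h : i = k
    · rw [if_pos h, if_pos h.symm]
    · rw [if_neg h, if_neg (fun h' => h h'.symm)]
  -- a vector orthogonal to all basis vectors is zero
  have hzero : ∀ w : Fin n → R, (∀ l, QuadraticMap.polar Q (e l) w = 0) → w = 0 := by
    intro w hw
    apply hreg.1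
    rw [map_zero]
    apply (Pi.basisFun R (Fin n)).ext
    intro l
    rw [QuadraticMap.polarBilin_apply_apply, QuadraticMap.polar_comm, LinearMap.zero_apply]
    exact hw l
  -- coordinates of the identity
  have hcoord : ∀ l i j k, QuadraticMap.polar Q (e l) (e i) * g (e j) k -
      QuadraticMap.polar Q (e l) (e j) * g (e i) k =
      QuadraticMap.polar Q (g (e l)) (e i) * e j k - QuadraticMap.polar Q (g (e l)) (e j) * e i k := by
    intro l i j k
    have := congrFun (hs (e i) (e j) (e l)) k
    simpa using this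
  -- step 1: off-diagonal entries vanish
  have hoff : ∀ j k, j ≠ k → g (e j) k = 0 := by
    intro j k hjk
    obtain ⟨i, hik, hij⟩ := exists_ne_ne hn k j
    have hw : g (e j) k • e i - g (e i) k • e j = 0 := by
      apply hzero
      intro l
      rw [QuadraticMap.polar_sub_right, QuadraticMap.polar_smul_right,
        QuadraticMap.polar_smul_right, smul_eq_mul, smul_eq_mul]
      have := hcoord l i j k
      rw [he j k, he i k, if_neg hjk, if_neg hik, mul_zero, mul_zero, sub_zero] at this
      linear_combination this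
    have := congrFun hw i
    simp only [Pi.sub_apply, Pi.smul_apply, smul_eq_mul, Pi.zero_apply] at this
    rw [he i i, he j i, if_pos rfl, if_neg (fun h => hij h.symm)] at this
    simpa using this
  let d : Fin n → R := fun j => g (e j) j
  have hge : ∀ j, g (e j) = d j • e j := by
    intro j
    funext k
    rw [Pi.smul_apply, he j k, smul_eq_mul]
    by_cases hjk : j = k
    · subst hjk; simp [d]
    · rw [if_neg hjk, mul_zero]; exact hoff j k hjk
  -- step 3
  have hR1 : ∀ l i j, j ≠ i → d j * QuadraticMap.polar Q (e l) (e i) =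
      d l * QuadraticMap.polar Q (e l) (e i) := by
    intro l i j hji
    have := hcoord l i j j
    rw [he j j, he i j, if_pos rfl, if_neg (fun h => hji h.symm), hoff i j (fun h => hji h.symm),
      hge l, QuadraticMap.polar_smul_left, QuadraticMap.polar_smul_left] at this
    simp only [smul_eq_mul, mul_one, mul_zero, sub_zero] at this
    show g (e j) j * _ = _
    linear_combination this
  have hR2 : ∀ l i j, d j * QuadraticMap.polar Q (e l) (e i) =
      d l * QuadraticMap.polar Q (e l) (e i) := by
    intro l i j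
    by_cases hji : j = i
    · subst hji
      by_cases hlj : l = j
      · rw [hlj]
      · obtain ⟨m, hml, hmj⟩ := exists_ne_ne hn l j
        have h1 := hR1 l j m hmj
        have h2 := hR1 j l m hml
        rw [QuadraticMap.polar_comm (⇑Q) (e j) (e l)] at h2
        rw [← h1, h2]
    · exact hR1 l i j hji
  have hd : ∀ j l, d j = d l := by
    intro j l
    have hw : (d j - d l) • e l = 0 := by
      apply hzero
      intro l'
      rw [QuadraticMap.polar_smul_right, smul_eq_mul, QuadraticMap.polar_comm, sub_mul, hR2 l l' j,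
        sub_self]
    have := congrFun hw l
    simp only [Pi.smul_apply, smul_eq_mul, Pi.zero_apply] at this
    rw [he l l, if_pos rfl, mul_one] at this
    exact sub_eq_zero.1 this
  let i0 : Fin n := ⟨0, by omega⟩
  refine ⟨d i0, fun x => ?_⟩
  have hx : x = ∑ i, x i • e i := by
    have := (Pi.basisFun R (Fin n)).sum_repr x
    simp only [Pi.basisFun_repr] at this
    exact this.symm
  conv_lhs => rw [hx]
  rw [map_sum]
  conv_rhs => rw [hx, Finset.smul_sum]
  refine Finset.sum_congr rfl fun i _ => ?_
  rw [map_smul, hge i, hd i i0, smul_comm]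

end Extract

end Groth.Agent.Lib.Helper14.QuadInf
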