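import Groth.Agent.Lib.Helper29.CodepthLoc
import Groth.Agent.Lib.QCoh.Helper18_SerreSk
import Groth.Prelude.Def_CAlg

/-! S4718/S4719 derived from the statement of S2669 (as hypothesis `Stmt`). -/

universe u

namespace Groth.Agent.Lib.Helper14.SkFinite

/-- the statement of S2669 -/
def Stmt : Prop :=
  ∀ (A B : Type u) [CommRing A] [CommRing B] [IsNoetherianRing A] [IsNoetherianRing B] [Algebra A B]
    (M : Type u) [AddCommGroup M] [Module B M] [Module A M] [IsScalarTower A B M] [Module.Finite A M]
    (p : Ideal A) [p.IsPrime],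
    Module.supportDim (Localization.AtPrime p) (LocalizedModule p.primeCompl M) =
        ⨆ q ∈ {q : PrimeSpectrum B | q.asIdeal.comap (algebraMap A B) = p ∧ q ∈ Module.support B M},
          Module.supportDim (Localization.AtPrime q.asIdeal) (LocalizedModule q.asIdeal.primeCompl M) ∧
      LocCoh.depth (Localization.AtPrime p) (LocalizedModule p.primeCompl M) =
        ⨅ q ∈ {q : PrimeSpectrum B | q.asIdeal.comap (algebraMap A B) = p ∧ q ∈ Module.support B M},
          LocCoh.depth (Localization.AtPrime q.asIdeal) (LocalizedModule q.asIdeal.primeCompl M)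

theorem coe_le_coe_iInf {ι : Type*} {T : Set ι} (hT : T.Nonempty) (x : WithBot ℕ∞) (f : ι → ℕ∞)
    (h : ∀ q ∈ T, x ≤ ((f q : ℕ∞) : WithBot ℕ∞)) : x ≤ (((⨅ q ∈ T, f q : ℕ∞)) : WithBot ℕ∞) := by
  cases x with
  | bot => exact bot_le
  | coe x' =>
    rw [WithBot.coe_le_coe]
    exact le_iInf₂ fun q hq => WithBot.coe_le_coe.1 (h q hq)

theorem s4719 (H : Stmt.{u}) (k : ℕ) (A B : Type u) [CommRing A] [CommRing B] [IsNoetherianRing A]
    [IsNoetherianRing B] [Algebra A B] (M : Type u) [AddCommGroup M] [Module B M] [Module A M]
    [IsScalarTower A B M] [Module.Finite A M] :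
    (LocCoh.HasSk k A M → LocCoh.HasSk k B M) ∧
      ((∀ q ∈ Module.support B M, ∀ q' ∈ Module.support B M,
          q.asIdeal.comap (algebraMap A B) = q'.asIdeal.comap (algebraMap A B) →
            Module.supportDim (Localization.AtPrime q.asIdeal) (LocalizedModule q.asIdeal.primeCompl M) =
              Module.supportDim (Localization.AtPrime q'.asIdeal) (LocalizedModule q'.asIdeal.primeCompl M)) →
        LocCoh.HasSk k B M → LocCoh.HasSk k A M) := by
  constructor
  · intro hA q hq
    by_cases hsupp : (⟨q, hq⟩ : PrimeSpectrum B) ∈ Module.support B M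
    · obtain ⟨hdim, hdepth⟩ := H A B M (q.comap (algebraMap A B))
      have hmem : (⟨q, hq⟩ : PrimeSpectrum B) ∈ {q' : PrimeSpectrum B |
          q'.asIdeal.comap (algebraMap A B) = q.comap (algebraMap A B) ∧
            q' ∈ Module.support B M} := ⟨rfl, hsupp⟩
      have h1 : Module.supportDim (Localization.AtPrime q) (LocalizedModule q.primeCompl M) ≤
          Module.supportDim (Localization.AtPrime (q.comap (algebraMap A B)))
            (LocalizedModule (q.comap (algebraMap A B)).primeCompl M) := by
        rw [hdim]
        exact le_iSup₂ (f := fun (q' : PrimeSpectrum B) (_ : q' ∈ {q' : PrimeSpectrum B |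
          q'.asIdeal.comap (algebraMap A B) = q.comap (algebraMap A B) ∧
            q' ∈ Module.support B M}) => Module.supportDim (Localization.AtPrime q'.asIdeal)
              (LocalizedModule q'.asIdeal.primeCompl M)) ⟨q, hq⟩ hmem
      have h2 : LocCoh.depth (Localization.AtPrime (q.comap (algebraMap A B)))
            (LocalizedModule (q.comap (algebraMap A B)).primeCompl M) ≤
          LocCoh.depth (Localization.AtPrime q) (LocalizedModule q.primeCompl M) := by
        rw [hdepth]
        exact iInf₂_le (f := fun (q' : PrimeSpectrum B) (_ : q' ∈ {q' : PrimeSpectrum B |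
          q'.asIdeal.comap (algebraMap A B) = q.comap (algebraMap A B) ∧
            q' ∈ Module.support B M}) => LocCoh.depth (Localization.AtPrime q'.asIdeal)
              (LocalizedModule q'.asIdeal.primeCompl M)) ⟨q, hq⟩ hmem
      exact (min_le_min le_rfl h1).trans ((hA (q.comap (algebraMap A B))).trans
        (WithBot.coe_le_coe.2 h2))
    · have : Subsingleton (LocalizedModule q.primeCompl M) :=
        Module.notMem_support_iff.1 hsupp
      rw [Module.supportDim_eq_bot_of_subsingleton, min_bot_right]
      exact bot_le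
  · intro heq hB p hp
    obtain ⟨hdim, hdepth⟩ := H A B M p
    set T := {q : PrimeSpectrum B | q.asIdeal.comap (algebraMap A B) = p ∧
      q ∈ Module.support B M} with hT
    rcases T.eq_empty_or_nonempty with hemp | ⟨q₀, hq₀⟩
    · rw [hdim, hemp]
      simp
    · have hd : ∀ q ∈ T, Module.supportDim (Localization.AtPrime p)
          (LocalizedModule p.primeCompl M) =
          Module.supportDim (Localization.AtPrime q.asIdeal)
            (LocalizedModule q.asIdeal.primeCompl M) := by
        intro q hq
        rw [hdim]
        refine le_antisymm (iSup₂_le fun q' hq' => ?_) ?_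
        · exact (heq q' hq'.2 q hq.2 (hq'.1.trans hq.1.symm)).le
        · exact le_iSup₂ (f := fun (q' : PrimeSpectrum B) (_ : q' ∈ T) =>
            Module.supportDim (Localization.AtPrime q'.asIdeal)
              (LocalizedModule q'.asIdeal.primeCompl M)) q hq
      rw [hdepth]
      refine coe_le_coe_iInf ⟨q₀, hq₀⟩ _ _ fun q hq => ?_
      rw [hd q hq]
      exact hB q.asIdeal


open IsLocalRing Groth.Agent.Lib.Helper29 in
theorem s4718 (H : Stmt.{u}) (A B : Type u) [CommRing A] [CommRing B]
    [IsNoetherianRing A] [IsLocalRing A] [IsNoetherianRing B] [Algebra A B]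
    (M : Type u) [AddCommGroup M] [Module B M] [Module A M] [IsScalarTower A B M] [Module.Finite A M]
    [Nontrivial M] :
    LocCoh.IsCohenMacaulayModule A M ↔
      (∀ q ∈ {q : PrimeSpectrum B | q.asIdeal.comap (algebraMap A B) = IsLocalRing.maximalIdeal A ∧
          q ∈ Module.support B M},
        LocCoh.IsCohenMacaulayModule (Localization.AtPrime q.asIdeal) (LocalizedModule q.asIdeal.primeCompl M)) ∧
      (∀ q ∈ {q : PrimeSpectrum B | q.asIdeal.comap (algebraMap A B) = IsLocalRing.maximalIdeal A ∧
          q ∈ Module.support B M},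
        ∀ q' ∈ {q : PrimeSpectrum B | q.asIdeal.comap (algebraMap A B) = IsLocalRing.maximalIdeal A ∧
          q ∈ Module.support B M},
          Module.supportDim (Localization.AtPrime q.asIdeal) (LocalizedModule q.asIdeal.primeCompl M) =
            Module.supportDim (Localization.AtPrime q'.asIdeal) (LocalizedModule q'.asIdeal.primeCompl M)) := by
  obtain ⟨hdim, hdepth⟩ := H A B M (maximalIdeal A)
  set T := {q : PrimeSpectrum B | q.asIdeal.comap (algebraMap A B) = maximalIdeal A ∧
      q ∈ Module.support B M} with hT
  have hunits : ∀ s ∈ (maximalIdeal A).primeCompl, IsUnit s := by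
    intro s hs
    by_contra h
    exact hs h
  haveI : IsLocalization.AtPrime A (maximalIdeal A) :=
    IsLocalization.of_le_isUnit (fun s hs => hunits s hs)
  haveI := CodepthLoc.isLocalizedModule_id_of_units A M (maximalIdeal A).primeCompl hunits
  have hdA : Module.supportDim A M = Module.supportDim (Localization.AtPrime (maximalIdeal A))
      (LocalizedModule (maximalIdeal A).primeCompl M) :=
    Groth.Agent.Lib.QCoh.SerreSk.supportDim_eq_supportDim_localizedModule (maximalIdeal A) A M M
      (LinearMap.id : M →ₗ[A] M)
  have hpA : LocCoh.depth A M = LocCoh.depth (Localization.AtPrime (maximalIdeal A))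
      (LocalizedModule (maximalIdeal A).primeCompl M) :=
    (CodepthLoc.depth_localizedModule_maximalIdeal A M).symm
  have hTne : T.Nonempty := by
    by_contra hemp
    rw [Set.not_nonempty_iff_eq_empty] at hemp
    have : Module.supportDim A M = ⊥ := by
      rw [hdA, hdim, hemp]; simp
    exact Module.supportDim_ne_bot_of_nontrivial A M this
  have hfinB : Module.Finite B M := Module.Finite.of_restrictScalars_finite A B M
  have hle : ∀ q ∈ T, ((LocCoh.depth (Localization.AtPrime q.asIdeal)
      (LocalizedModule q.asIdeal.primeCompl M) : ℕ∞) : WithBot ℕ∞) ≤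
      Module.supportDim (Localization.AtPrime q.asIdeal)
        (LocalizedModule q.asIdeal.primeCompl M) := by
    intro q hq
    haveI : Nontrivial (LocalizedModule q.asIdeal.primeCompl M) :=
      Module.mem_support_iff.1 hq.2
    exact DepthLib.depth_le_supportDim _ _
  have hsup : ∀ q ∈ T, Module.supportDim (Localization.AtPrime q.asIdeal)
      (LocalizedModule q.asIdeal.primeCompl M) ≤ Module.supportDim A M := by
    intro q hq
    rw [hdA, hdim]
    exact le_iSup₂ (f := fun (q' : PrimeSpectrum B) (_ : q' ∈ T) =>
      Module.supportDim (Localization.AtPrime q'.asIdeal)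
        (LocalizedModule q'.asIdeal.primeCompl M)) q hq
  have hinf : ∀ q ∈ T, LocCoh.depth A M ≤ LocCoh.depth (Localization.AtPrime q.asIdeal)
      (LocalizedModule q.asIdeal.primeCompl M) := by
    intro q hq
    rw [hpA, hdepth]
    exact iInf₂_le (f := fun (q' : PrimeSpectrum B) (_ : q' ∈ T) =>
      LocCoh.depth (Localization.AtPrime q'.asIdeal)
        (LocalizedModule q'.asIdeal.primeCompl M)) q hq
  unfold LocCoh.IsCohenMacaulayModule
  constructor
  · intro hCM
    have key : ∀ q ∈ T, Module.supportDim (Localization.AtPrime q.asIdeal)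
        (LocalizedModule q.asIdeal.primeCompl M) = Module.supportDim A M ∧
        Module.supportDim (Localization.AtPrime q.asIdeal)
        (LocalizedModule q.asIdeal.primeCompl M) = ((LocCoh.depth (Localization.AtPrime q.asIdeal)
      (LocalizedModule q.asIdeal.primeCompl M) : ℕ∞) : WithBot ℕ∞) := by
      intro q hq
      have h1 := hle q hq
      have h2 := hsup q hq
      have h3 : Module.supportDim A M ≤ ((LocCoh.depth (Localization.AtPrime q.asIdeal)
        (LocalizedModule q.asIdeal.primeCompl M) : ℕ∞) : WithBot ℕ∞) := by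
        rw [hCM]; exact WithBot.coe_le_coe.2 (hinf q hq)
      exact ⟨le_antisymm h2 (h3.trans h1), le_antisymm (h2.trans h3) h1⟩
    exact ⟨fun q hq => (key q hq).2, fun q hq q' hq' => (key q hq).1.trans (key q' hq').1.symm⟩
  · rintro ⟨hCM, heq⟩
    obtain ⟨q₀, hq₀⟩ := hTne
    have h1 : Module.supportDim A M = Module.supportDim (Localization.AtPrime q₀.asIdeal)
        (LocalizedModule q₀.asIdeal.primeCompl M) := by
      rw [hdA, hdim]
      refine le_antisymm (iSup₂_le fun q hq => (heq q hq q₀ hq₀).le) ?_
      exact le_iSup₂ (f := fun (q' : PrimeSpectrum B) (_ : q' ∈ T) =>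
        Module.supportDim (Localization.AtPrime q'.asIdeal)
          (LocalizedModule q'.asIdeal.primeCompl M)) q₀ hq₀
    have h2 : LocCoh.depth A M = LocCoh.depth (Localization.AtPrime q₀.asIdeal)
        (LocalizedModule q₀.asIdeal.primeCompl M) := by
      refine le_antisymm (hinf q₀ hq₀) ?_
      rw [hpA, hdepth]
      refine le_iInf₂ fun q hq => ?_
      have := (hCM q₀ hq₀).symm.trans ((heq q₀ hq₀ q hq).trans (hCM q hq))
      exact (WithBot.coe_le_coe.1 this.le)
    rw [h1, h2]
    exact hCM q₀ hq₀

end Groth.Agent.Lib.Helper14.SkFinite
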