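import Mathlib

/-!
# Symplectic bases over local rings; `det = 1` for isometries of perfect alternating forms

* `exists_sympFamily`: over a local ring, a perfect alternating form on a finite projective module has a
  symplectic family `e, f`.
* `det_eq_one_of_local`: over a local ring, an endomorphism preserving a perfect alternating form has `det = 1`.
* `Matrix.det_eq_one_of_alt`: over any commutative ring: `P = A - Aᵀ` with unit determinant, `Gᵀ P G = P` ⇒ `det G = 1`.
-/

set_option autoImplicit false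
set_option linter.unusedSimpArgs false
set_option linter.style.haveILetI false
set_option linter.deprecated false
set_option linter.unnecessarySeqFocus false
universe u v

namespace Groth.Agent.Lib.Helper14.SympBasis

open Module

variable {R : Type u} [CommRing R]

structure IsSympFamily {M : Type v} [AddCommGroup M] [Module R M] (B : M →ₗ[R] M →ₗ[R] R) {n : ℕ}
    (e f : Fin n → M) : Prop where
  ee : ∀ i j, B (e i) (e j) = 0
  ff : ∀ i j, B (f i) (f j) = 0
  ef : ∀ i j, B (e i) (f j) = if i = j then 1 else 0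
  fe : ∀ i j, B (f i) (e j) = if i = j then -1 else 0
  span : Submodule.span R (Set.range e ∪ Set.range f) = ⊤

section

variable {M : Type v} [AddCommGroup M] [Module R M] (B : M →ₗ[R] M →ₗ[R] R)

theorem alt_neg (hB : ∀ x, B x x = 0) (x y : M) : B x y = - B y x := by
  have h := hB (x + y)
  simp only [map_add, LinearMap.add_apply, hB, zero_add, add_zero] at h
  exact eq_neg_of_add_eq_zero_left ((add_comm _ _).trans h)

/-- the orthogonal complement of the hyperbolic pair `e0, f0` -/
def perp (e0 f0 : M) : Submodule R M := LinearMap.ker (B.flip f0) ⊓ LinearMap.ker (B e0)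

theorem mem_perp {e0 f0 x : M} : x ∈ perp B e0 f0 ↔ B x f0 = 0 ∧ B e0 x = 0 := by
  simp [perp, Submodule.mem_inf, LinearMap.mem_ker]

/-- projection onto `perp` -/
def proj (hB : ∀ x, B x x = 0) (e0 f0 : M) (h1 : B e0 f0 = 1) : M →ₗ[R] perp B e0 f0 :=
  LinearMap.codRestrict (perp B e0 f0)
    (LinearMap.id - (B.flip f0).smulRight e0 - (B e0).smulRight f0) (fun x => by
      have h2 : B f0 e0 = -1 := by rw [alt_neg B hB, h1]
      rw [mem_perp]
      simp only [LinearMap.sub_apply, LinearMap.id_apply, LinearMap.smulRight_apply,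
        LinearMap.flip_apply, map_sub, map_smul, smul_eq_mul, LinearMap.smul_apply, h1, hB, h2]
      constructor <;> ring)

theorem proj_coe (hB : ∀ x, B x x = 0) (e0 f0 : M) (h1 : B e0 f0 = 1) (x : M) :
    ((proj B hB e0 f0 h1 x : perp B e0 f0) : M) = x - B x f0 • e0 - B e0 x • f0 := by
  simp [proj]

theorem proj_of_mem (hB : ∀ x, B x x = 0) (e0 f0 : M) (h1 : B e0 f0 = 1) (x : perp B e0 f0) :
    proj B hB e0 f0 h1 x = x := by
  apply Subtype.ext
  rw [proj_coe]
  obtain ⟨h2, h3⟩ := (mem_perp B).1 x.2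
  simp [h2, h3]

theorem proj_e0 (hB : ∀ x, B x x = 0) (e0 f0 : M) (h1 : B e0 f0 = 1) :
    proj B hB e0 f0 h1 e0 = 0 := by
  apply Subtype.ext
  rw [proj_coe]
  simp [h1, hB]

theorem proj_f0 (hB : ∀ x, B x x = 0) (e0 f0 : M) (h1 : B e0 f0 = 1) :
    proj B hB e0 f0 h1 f0 = 0 := by
  apply Subtype.ext
  rw [proj_coe]
  simp [h1, hB]

theorem decomp (hB : ∀ x, B x x = 0) (e0 f0 : M) (h1 : B e0 f0 = 1) (x : M) :
    x = B x f0 • e0 + B e0 x • f0 + (proj B hB e0 f0 h1 x : M) := by
  rw [proj_coe]; abel

/-- the restricted form -/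
def restr (e0 f0 : M) : perp B e0 f0 →ₗ[R] perp B e0 f0 →ₗ[R] R :=
  B.domRestrict₁₂ (perp B e0 f0) (perp B e0 f0)

theorem restr_apply (e0 f0 : M) (x y : perp B e0 f0) : restr B e0 f0 x y = B x y := rfl

theorem restr_bijective (hB : ∀ x, B x x = 0) (hbij : Function.Bijective B) (e0 f0 : M)
    (h1 : B e0 f0 = 1) : Function.Bijective (restr B e0 f0) := by
  constructor
  · rw [injective_iff_map_eq_zero]
    intro x hx
    obtain ⟨h2, h3⟩ := (mem_perp B).1 x.2
    have h4 : B x e0 = 0 := by rw [alt_neg B hB, h3, neg_zero]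
    have : B (x : M) = 0 := by
      ext z
      rw [decomp B hB e0 f0 h1 z]
      simp only [map_add, map_smul, h2, h4, smul_zero, zero_add, LinearMap.zero_apply]
      have := LinearMap.congr_fun hx (proj B hB e0 f0 h1 z)
      simpa [restr_apply] using this
    have h5 : (x : M) = 0 := hbij.1 (this.trans (map_zero B).symm)
    exact Subtype.ext h5
  · intro φ
    obtain ⟨x, hx⟩ := hbij.2 (φ.comp (proj B hB e0 f0 h1))
    have h2 : B x f0 = 0 := by rw [hx]; simp [proj_f0]
    have h3 : B e0 x = 0 := by rw [alt_neg B hB, hx]; simp [proj_e0]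
    refine ⟨⟨x, (mem_perp B).2 ⟨h2, h3⟩⟩, ?_⟩
    ext y
    rw [restr_apply]
    simp only
    rw [hx]
    simp [proj_of_mem]

/-- `M ≃ (R × R) × perp` -/
def splitEquiv (hB : ∀ x, B x x = 0) (e0 f0 : M) (h1 : B e0 f0 = 1) :
    M ≃ₗ[R] (R × R) × perp B e0 f0 :=
  LinearEquiv.ofLinear
    (((B.flip f0).prod (B e0)).prod (proj B hB e0 f0 h1))
    (LinearMap.coprod (LinearMap.coprod (LinearMap.toSpanSingleton R M e0)
      (LinearMap.toSpanSingleton R M f0)) (perp B e0 f0).subtype)
    (by
      have h2 : B f0 e0 = -1 := by rw [alt_neg B hB, h1]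
      apply LinearMap.ext
      rintro ⟨⟨a, b⟩, y⟩
      obtain ⟨h3, h4⟩ := (mem_perp B).1 y.2
      have h5 : B y e0 = 0 := by rw [alt_neg B hB, h4, neg_zero]
      have h6 : B f0 y = 0 := by rw [alt_neg B hB, h3, neg_zero]
      refine Prod.ext (Prod.ext ?_ ?_) ?_
      · simp [hB, h1, h2, h3, h4, h5, h6]
      · simp [hB, h1, h2, h3, h4, h5, h6]
      · simp [proj_e0, proj_f0, proj_of_mem])
    (by
      apply LinearMap.ext
      intro x
      simp only [LinearMap.comp_apply, LinearMap.coprod_apply, LinearMap.toSpanSingleton_apply,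
        Submodule.subtype_apply, LinearMap.prod_apply, Function.prod, LinearMap.flip_apply,
        LinearMap.id_apply]
      exact (decomp B hB e0 f0 h1 x).symm)

end

section Local

variable [IsLocalRing R]

attribute [local instance] Module.free_of_flat_of_isLocalRing

theorem exists_sympFamily : ∀ (r : ℕ) (M : Type v) [AddCommGroup M] [Module R M]
    [Module.Finite R M] [Module.Projective R M] (B : M →ₗ[R] M →ₗ[R] R),
    (∀ x, B x x = 0) → Function.Bijective B → Module.finrank R M ≤ r →
    ∃ (n : ℕ) (e f : Fin n → M), IsSympFamily B e f := by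
  intro r
  induction r with
  | zero =>
    intro M _ _ _ _ B hB hbij hr
    have h0 : Module.finrank R M = 0 := Nat.le_zero.1 hr
    have : Subsingleton M := (Module.finrank_eq_zero_iff_of_free R M).1 h0
    exact ⟨0, Fin.elim0, Fin.elim0, ⟨fun i => i.elim0, fun i => i.elim0, fun i => i.elim0,
      fun i => i.elim0, Subsingleton.elim _ _⟩⟩
  | succ r ih =>
    intro M _ _ _ _ B hB hbij hr
    by_cases hsub : Subsingleton M
    · exact ⟨0, Fin.elim0, Fin.elim0, ⟨fun i => i.elim0, fun i => i.elim0, fun i => i.elim0,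
        fun i => i.elim0, Subsingleton.elim _ _⟩⟩
    rw [not_subsingleton_iff_nontrivial] at hsub
    -- a hyperbolic pair
    let b := Module.Free.chooseBasis R M
    have hne : Nonempty (Module.Free.ChooseBasisIndex R M) := by
      by_contra hemp
      rw [not_nonempty_iff] at hemp
      exact not_subsingleton M (b.repr.toEquiv.subsingleton)
    obtain ⟨i0⟩ := hne
    obtain ⟨e0, he0⟩ := hbij.2 (b.coord i0)
    set f0 := b i0 with hf0
    have h1 : B e0 f0 = 1 := by rw [he0]; simp [hf0]
    -- the complement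
    have hproj : ∀ y : perp B e0 f0, proj B hB e0 f0 h1 ((perp B e0 f0).subtype y) = y :=
      fun y => proj_of_mem B hB e0 f0 h1 y
    haveI : Module.Finite R (perp B e0 f0) :=
      Module.Finite.of_surjective (proj B hB e0 f0 h1) (fun y => ⟨y, hproj y⟩)
    haveI : Module.Projective R (perp B e0 f0) :=
      Module.Projective.of_split (perp B e0 f0).subtype (proj B hB e0 f0 h1)
        (LinearMap.ext hproj)
    have hrank : Module.finrank R M = 2 + Module.finrank R (perp B e0 f0) := by
      rw [(splitEquiv B hB e0 f0 h1).finrank_eq, Module.finrank_prod, Module.finrank_prod,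
        Module.finrank_self]
    obtain ⟨n, e', f', hfam⟩ := ih (perp B e0 f0) (restr B e0 f0) (fun x => hB x)
      (restr_bijective B hB hbij e0 f0 h1) (by omega)
    have h2 : B f0 e0 = -1 := by rw [alt_neg B hB, h1]
    have hK : ∀ y : perp B e0 f0, B y f0 = 0 ∧ B e0 y = 0 ∧ B y e0 = 0 ∧ B f0 y = 0 := by
      intro y
      obtain ⟨h3, h4⟩ := (mem_perp B).1 y.2
      refine ⟨h3, h4, ?_, ?_⟩
      · rw [alt_neg B hB, h4, neg_zero]
      · rw [alt_neg B hB, h3, neg_zero]
    refine ⟨n + 1, Fin.cons e0 (fun i => (e' i : M)), Fin.cons f0 (fun i => (f' i : M)), ?_⟩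
    constructor
    · intro i j
      refine Fin.cases ?_ (fun i => ?_) i <;> refine Fin.cases ?_ (fun j => ?_) j
      · simp [hB]
      · simp [(hK _).2.1]
      · simp [(hK _).2.2.1]
      · simpa [restr_apply] using hfam.ee i j
    · intro i j
      refine Fin.cases ?_ (fun i => ?_) i <;> refine Fin.cases ?_ (fun j => ?_) j
      · simp [hB]
      · simp [(hK _).2.2.2]
      · simp [(hK _).1]
      · simpa [restr_apply] using hfam.ff i j
    · intro i j
      refine Fin.cases ?_ (fun i => ?_) i <;> refine Fin.cases ?_ (fun j => ?_) j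
      · simp [h1]
      · simp [(hK _).2.1, Fin.succ_ne_zero, (Fin.succ_ne_zero _).symm]
      · simp [(hK _).1, Fin.succ_ne_zero]
      · simpa [restr_apply] using hfam.ef i j
    · intro i j
      refine Fin.cases ?_ (fun i => ?_) i <;> refine Fin.cases ?_ (fun j => ?_) j
      · simp [h2]
      · simp [(hK _).2.2.2, Fin.succ_ne_zero, (Fin.succ_ne_zero _).symm]
      · simp [(hK _).2.2.1, Fin.succ_ne_zero]
      · simpa [restr_apply] using hfam.fe i j
    · rw [eq_top_iff]
      intro x _
      set S : Submodule R M := Submodule.span R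
        (Set.range (Fin.cons e0 (fun i => (e' i : M)) : Fin (n + 1) → M) ∪
          Set.range (Fin.cons f0 (fun i => (f' i : M)) : Fin (n + 1) → M)) with hS
      have he0S : e0 ∈ S := Submodule.subset_span (Or.inl ⟨0, by simp⟩)
      have hf0S : f0 ∈ S := Submodule.subset_span (Or.inr ⟨0, by simp⟩)
      have hKS : ∀ y : perp B e0 f0, (y : M) ∈ S := by
        intro y
        have hy : y ∈ Submodule.span R (Set.range e' ∪ Set.range f') := by
          rw [hfam.span]; trivial
        induction hy using Submodule.span_induction with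
        | mem z hz =>
          rcases hz with ⟨i, rfl⟩ | ⟨i, rfl⟩
          · exact Submodule.subset_span (Or.inl ⟨i.succ, by simp⟩)
          · exact Submodule.subset_span (Or.inr ⟨i.succ, by simp⟩)
        | zero => simp
        | add a c _ _ ha hc => simpa using S.add_mem ha hc
        | smul t a _ ha => simpa using S.smul_mem t ha
      rw [decomp B hB e0 f0 h1 x]
      exact S.add_mem (S.add_mem (S.smul_mem _ he0S) (S.smul_mem _ hf0S)) (hKS _)

end Local

section Det

open Matrix

variable {M : Type v} [AddCommGroup M] [Module R M] (B : M →ₗ[R] M →ₗ[R] R)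

theorem det_eq_one_of_sympFamily {n : ℕ} (e f : Fin n → M) (h : IsSympFamily B e f)
    (g : M →ₗ[R] M) (hg : ∀ x y, B (g x) (g y) = B x y) : LinearMap.det g = 1 := by
  classical
  let v : Fin n ⊕ Fin n → M := Sum.elim f e
  have hli : LinearIndependent R v := by
    rw [Fintype.linearIndependent_iff]
    intro c hc
    rw [Fintype.sum_sum_type] at hc
    simp only [v, Sum.elim_inl, Sum.elim_inr] at hc
    have key1 : ∀ j, c (Sum.inl j) = 0 := by
      intro j
      have := congrArg (fun x => B (e j) x) hc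
      simpa [map_sum, h.ef, h.ee, Finset.sum_ite_eq] using this
    have key2 : ∀ j, c (Sum.inr j) = 0 := by
      intro j
      have := congrArg (fun x => B (f j) x) hc
      simpa [map_sum, h.ff, h.fe, Finset.sum_ite_eq] using this
    rintro (j | j)
    · exact key1 j
    · exact key2 j
  have hsp : ⊤ ≤ Submodule.span R (Set.range v) := by
    rw [← h.span]
    apply Submodule.span_mono
    rintro x (⟨i, rfl⟩ | ⟨i, rfl⟩)
    · exact ⟨Sum.inr i, rfl⟩
    · exact ⟨Sum.inl i, rfl⟩
  let b := Basis.mk hli hsp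
  have hJ : LinearMap.toMatrix₂ b b B = Matrix.J (Fin n) R := by
    ext i j
    rw [LinearMap.toMatrix₂_apply, Basis.mk_apply, Basis.mk_apply]
    rcases i with i | i <;> rcases j with j | j <;>
      simp [v, Matrix.J, h.ff, h.fe, h.ef, h.ee, Matrix.one_apply] <;> split_ifs <;> simp
  have hcomp : B.compl₁₂ g g = B := by
    ext x y
    simp [hg]
  have hG := LinearMap.toMatrix₂_compl₁₂ b b b b B g g
  rw [hcomp, hJ] at hG
  have hmem : (LinearMap.toMatrix b b g)ᵀ ∈ Matrix.symplecticGroup (Fin n) R := by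
    rw [SymplecticGroup.mem_iff, Matrix.transpose_transpose]
    exact hG.symm
  have := SymplecticGroup.det_eq_one hmem
  rw [Matrix.det_transpose, LinearMap.det_toMatrix] at this
  exact this

theorem det_eq_one_of_local [IsLocalRing R] [Module.Finite R M] [Module.Projective R M]
    (hB : ∀ x, B x x = 0) (hbij : Function.Bijective B)
    (g : M →ₗ[R] M) (hg : ∀ x y, B (g x) (g y) = B x y) : LinearMap.det g = 1 := by
  obtain ⟨n, e, f, h⟩ := exists_sympFamily (Module.finrank R M) M B hB hbij le_rfl
  exact det_eq_one_of_sympFamily B e f h g hg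

end Det

section Mat

open Matrix

variable {ι : Type*} [Fintype ι] [DecidableEq ι]

theorem toLinearMap₂'_alt (A : Matrix ι ι R) (x : ι → R) :
    Matrix.toLinearMap₂' R (A - Aᵀ) x x = 0 := by
  rw [Matrix.toLinearMap₂'_apply', Matrix.sub_mulVec, dotProduct_sub, Matrix.mulVec_transpose,
    dotProduct_comm x (x ᵥ* A), ← Matrix.dotProduct_mulVec, sub_self]

theorem toLinearMap₂'_bijective (P : Matrix ι ι R) (hP : IsUnit P.det) :
    Function.Bijective (Matrix.toLinearMap₂' R P : (ι → R) →ₗ[R] (ι → R) →ₗ[R] R) := by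
  have hPu : IsUnit P := (Matrix.isUnit_iff_isUnit_det P).2 hP
  constructor
  · rw [injective_iff_map_eq_zero]
    intro x hx
    have h1 : x ᵥ* P = 0 := by
      apply dotProduct_eq_zero
      intro w
      rw [← Matrix.dotProduct_mulVec, ← Matrix.toLinearMap₂'_apply' P x w, hx]
      rfl
    exact Matrix.vecMul_injective_of_isUnit hPu (h1.trans (Matrix.zero_vecMul P).symm)
  · intro φ
    obtain ⟨x, hx⟩ := Matrix.vecMul_surjective_iff_isUnit.2 hPu
      (fun j => φ (fun k => if j = k then 1 else 0))
    refine ⟨x, LinearMap.ext fun y => ?_⟩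
    rw [Matrix.toLinearMap₂'_apply', Matrix.dotProduct_mulVec]
    change x ᵥ* P ⬝ᵥ y = φ y
    rw [show x ᵥ* P = _ from hx, LinearMap.pi_apply_eq_sum_univ φ y]
    simp [dotProduct, mul_comm]

theorem det_eq_one_of_alt_of_local [IsLocalRing R] (A G : Matrix ι ι R)
    (hdet : IsUnit (A - Aᵀ).det) (hG : Gᵀ * (A - Aᵀ) * G = A - Aᵀ) : G.det = 1 := by
  rw [← LinearMap.det_toLin']
  refine det_eq_one_of_local (Matrix.toLinearMap₂' R (A - Aᵀ)) (toLinearMap₂'_alt A)
    (toLinearMap₂'_bijective _ hdet) _ ?_
  intro x y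
  rw [Matrix.toLinearMap₂'_apply', Matrix.toLinearMap₂'_apply', Matrix.toLin'_apply,
    Matrix.toLin'_apply, ← Matrix.vecMul_transpose, ← Matrix.dotProduct_mulVec,
    Matrix.mulVec_mulVec, Matrix.mulVec_mulVec, hG]

/-- Over any commutative ring: a matrix preserving a unimodular alternating matrix `A - Aᵀ` has
determinant one. -/
theorem det_eq_one_of_alt (A G : Matrix ι ι R)
    (hdet : IsUnit (A - Aᵀ).det) (hG : Gᵀ * (A - Aᵀ) * G = A - Aᵀ) : G.det = 1 := by
  refine sub_eq_zero.1 <| eq_zero_of_localization _ fun J hJ => ?_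
  set φ := algebraMap R (Localization.AtPrime J)
  have hm1 : φ.mapMatrix A - (φ.mapMatrix A)ᵀ = φ.mapMatrix (A - Aᵀ) := by
    ext i j
    simp
  have hm2 : (φ.mapMatrix G)ᵀ = φ.mapMatrix Gᵀ := by
    ext i j
    simp
  have h1 : (φ.mapMatrix G).det = 1 := by
    apply det_eq_one_of_alt_of_local (φ.mapMatrix A)
    · rw [hm1, ← RingHom.map_det]
      exact hdet.map φ
    · rw [hm1, hm2, ← map_mul, ← map_mul, hG]
  rw [map_sub, RingHom.map_det, h1, map_one, sub_self]

end Mat

end Groth.Agent.Lib.Helper14.SympBasis
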