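import Mathlib

set_option autoImplicit false
universe u

namespace Groth.Agent.Lib.Helper14

/-- Norm of the trace is at most dimension times a bound on the eigenvalues. -/
theorem norm_trace_le_finrank_mul {V : Type u} [AddCommGroup V] [Module ℂ V] [FiniteDimensional ℂ V]
    (f : V →ₗ[ℂ] V) (B : ℝ) (hB : ∀ μ : ℂ, Module.End.HasEigenvalue f μ → ‖μ‖ ≤ B) :
    ‖LinearMap.trace ℂ V f‖ ≤ (Module.finrank ℂ V : ℝ) * B := by
  have hs : f.charpoly.Splits := IsAlgClosed.splits _
  rw [Module.End.trace_eq_sum_roots_charpoly_of_splits hs]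
  have hcard : f.charpoly.roots.card = Module.finrank ℂ V := by
    rw [← Polynomial.Splits.natDegree_eq_card_roots hs, LinearMap.charpoly_natDegree]
  calc ‖f.charpoly.roots.sum‖ ≤ (f.charpoly.roots.map (fun μ => ‖μ‖)).sum := by
        exact norm_multiset_sum_le _
    _ ≤ f.charpoly.roots.card • B := by
        have := Multiset.sum_le_card_nsmul (f.charpoly.roots.map (fun μ => ‖μ‖)) B ?_
        · simpa using this
        · intro x hx
          rw [Multiset.mem_map] at hx
          obtain ⟨μ, hμ, rfl⟩ := hx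
          apply hB
          rw [Module.End.hasEigenvalue_iff_isRoot_charpoly]
          exact (Polynomial.mem_roots'.1 hμ).2
    _ = (Module.finrank ℂ V : ℝ) * B := by rw [hcard, nsmul_eq_mul]

/-- Summability of a double family bounded by a product with finite support in `q`. -/
theorem summable_of_bound (F : ℕ × ℕ → ℝ) (hF : ∀ pq, 0 ≤ F pq)
    (N : ℕ) (a c : ℕ → ℝ) (b d : ℕ → ℕ) (ha : ∀ q, 0 ≤ a q) (hc : ∀ p, 0 ≤ c p)
    (h0 : ∀ p q, N < q → F (p, q) = 0)
    (hle : ∀ p q, F (p, q) ≤ ((b q : ℝ) * (d p : ℝ)) * (a q * c p))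
    (hsum : Summable fun p : ℕ => c p * (d p : ℝ)) : Summable F := by
  have hq : Summable fun q : ℕ => if q ≤ N then a q * (b q : ℝ) else 0 := by
    apply summable_of_ne_finset_zero (s := Finset.range (N + 1))
    intro q hq
    rw [Finset.mem_range] at hq
    rw [if_neg (by omega)]
  have hprod := Summable.mul_of_nonneg hsum hq
    (fun p => mul_nonneg (hc p) (Nat.cast_nonneg _))
    (fun q => by
      show 0 ≤ if q ≤ N then a q * (b q : ℝ) else 0
      split_ifs
      · exact mul_nonneg (ha q) (Nat.cast_nonneg _)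
      · exact le_rfl)
  refine Summable.of_nonneg_of_le hF ?_ hprod
  rintro ⟨p, q⟩
  show F (p, q) ≤ (c p * (d p : ℝ)) * (if q ≤ N then a q * (b q : ℝ) else 0)
  split_ifs with h
  · calc F (p, q) ≤ _ := hle p q
      _ = _ := by ring
  · rw [h0 p q (by omega)]; simp

end Groth.Agent.Lib.Helper14
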