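import Groth.Agent.Lib.Helper14.WittHomog
import Mathlib.RingTheory.WittVector.Basic

/-!
Evaluating weighted homogeneous polynomials on a multiplicative family of submodules, and the
application to Witt vectors whose coordinates lie in such a family.
-/

set_option autoImplicit false
universe u

namespace Groth.Agent.Lib.Helper14

open MvPolynomial

section eval

variable {σ : Type*} {A K : Type*} [CommRing A] [CommRing K] [Algebra A K]
variable (N : ℕ → Submodule A K) (h1 : (1 : K) ∈ N 0)
  (hmul : ∀ (i j : ℕ) (a b : K), a ∈ N i → b ∈ N j → a * b ∈ N (i + j))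

include h1 hmul

theorem pow_mem_family {x : K} {k : ℕ} (hx : x ∈ N k) (e : ℕ) : x ^ e ∈ N (e * k) := by
  induction e with
  | zero => simpa using h1
  | succ e ih =>
    rw [pow_succ, Nat.succ_mul]
    exact hmul _ _ _ _ ih hx

theorem prod_pow_mem_family (w : σ → ℕ) (f : σ → K) (hf : ∀ v, f v ∈ N (w v)) (s : Finset σ)
    (e : σ → ℕ) : ∏ v ∈ s, f v ^ e v ∈ N (∑ v ∈ s, e v * w v) := by
  classical
  induction s using Finset.induction_on with
  | empty => simpa using h1
  | insert a s ha ih =>
    rw [Finset.prod_insert ha, Finset.sum_insert ha]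
    exact hmul _ _ _ _ (pow_mem_family N h1 hmul (hf a) (e a)) ih

theorem aeval_mem_of_isWeightedHomogeneous (w : σ → ℕ) (φ : MvPolynomial σ ℤ) (d : ℕ)
    (hφ : IsWeightedHomogeneous w φ d) (f : σ → K) (hf : ∀ v, f v ∈ N (w v)) :
    aeval f φ ∈ N d := by
  rw [φ.as_sum, map_sum]
  apply Submodule.sum_mem
  intro m hm
  have hc : coeff m φ ≠ 0 := MvPolynomial.mem_support_iff.mp hm
  have hwt : Finsupp.weight w m = d := hφ hc
  rw [aeval_monomial]
  have hprod : m.prod (fun v e => f v ^ e) ∈ N d := by
    rw [← hwt, Finsupp.weight_apply, Finsupp.prod, Finsupp.sum]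
    simp only [smul_eq_mul]
    exact prod_pow_mem_family N h1 hmul w f hf m.support m
  have : algebraMap ℤ K (coeff m φ) * m.prod (fun v e => f v ^ e) =
      (coeff m φ) • m.prod (fun v e => f v ^ e) := by
    rw [zsmul_eq_mul]; simp
  rw [this]
  exact zsmul_mem hprod _

end eval

section family

variable {A K : Type*} [CommRing A] [CommRing K] [Algebra A K]
variable (M : ℕ → Submodule A K)

/-- The unitalisation of a multiplicative family: add the scalars in degree zero. -/
noncomputable def unitFamily (k : ℕ) : Submodule A K :=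
  if k = 0 then Submodule.span A {(1 : K)} ⊔ M 0 else M k

theorem unitFamily_of_ne {k : ℕ} (hk : k ≠ 0) : unitFamily M k = M k := by
  simp [unitFamily, hk]

theorem unitFamily_zero : unitFamily M 0 = Submodule.span A {(1 : K)} ⊔ M 0 := by
  simp [unitFamily]

theorem one_mem_unitFamily : (1 : K) ∈ unitFamily M 0 := by
  rw [unitFamily_zero]
  exact Submodule.mem_sup_left (Submodule.subset_span rfl)

theorem algebraMap_mem_unitFamily (a : A) : algebraMap A K a ∈ unitFamily M 0 := by
  rw [unitFamily_zero, Algebra.algebraMap_eq_smul_one]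
  exact Submodule.mem_sup_left (Submodule.smul_mem _ _ (Submodule.subset_span rfl))

variable (hmul : ∀ (i j : ℕ) (a b : K), a ∈ M i → b ∈ M j → a * b ∈ M (i + j))
include hmul

theorem unitFamily_mul (i j : ℕ) (a b : K) (ha : a ∈ unitFamily M i) (hb : b ∈ unitFamily M j) :
    a * b ∈ unitFamily M (i + j) := by
  by_cases hi : i = 0
  · subst hi
    rw [unitFamily_zero, Submodule.mem_sup] at ha
    obtain ⟨y, hy, z, hz, rfl⟩ := ha
    obtain ⟨α, rfl⟩ := Submodule.mem_span_singleton.mp hy
    by_cases hj : j = 0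
    · subst hj
      rw [unitFamily_zero, Submodule.mem_sup] at hb
      obtain ⟨y', hy', z', hz', rfl⟩ := hb
      obtain ⟨β, rfl⟩ := Submodule.mem_span_singleton.mp hy'
      rw [add_zero, unitFamily_zero]
      have e : (α • (1 : K) + z) * (β • (1 : K) + z') =
          (α * β) • (1 : K) + (α • z' + β • z + z * z') := by
        simp only [Algebra.smul_def, mul_one, map_mul]; ring
      rw [e]
      refine Submodule.add_mem_sup (Submodule.smul_mem _ _ (Submodule.subset_span rfl)) ?_
      have := hmul 0 0 z z' hz hz'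
      rw [add_zero] at this
      exact Submodule.add_mem _ (Submodule.add_mem _ (Submodule.smul_mem _ _ hz')
        (Submodule.smul_mem _ _ hz)) this
    · rw [unitFamily_of_ne M hj] at hb
      rw [zero_add, unitFamily_of_ne M hj]
      have e : (α • (1 : K) + z) * b = α • b + z * b := by
        simp only [Algebra.smul_def, mul_one]; ring
      rw [e]
      have := hmul 0 j z b hz hb
      rw [zero_add] at this
      exact Submodule.add_mem _ (Submodule.smul_mem _ _ hb) this
  · rw [unitFamily_of_ne M hi] at ha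
    have hij : i + j ≠ 0 := by omega
    rw [unitFamily_of_ne M hij]
    by_cases hj : j = 0
    · subst hj
      rw [unitFamily_zero, Submodule.mem_sup] at hb
      obtain ⟨y', hy', z', hz', rfl⟩ := hb
      obtain ⟨β, rfl⟩ := Submodule.mem_span_singleton.mp hy'
      have e : a * (β • (1 : K) + z') = β • a + a * z' := by
        simp only [Algebra.smul_def, mul_one]; ring
      rw [e]
      exact Submodule.add_mem _ (Submodule.smul_mem _ _ ha) (hmul i 0 a z' ha hz')
    · rw [unitFamily_of_ne M hj] at hb
      exact hmul i j a b ha hb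

end family

section witt

variable (p : ℕ) [hp : Fact p.Prime] {A K : Type*} [CommRing A] [CommRing K] [Algebra A K]
variable (M : ℕ → Submodule A K)
  (hmul : ∀ (i j : ℕ) (a b : K), a ∈ M i → b ∈ M j → a * b ∈ M (i + j))
include hmul

theorem witt_add_coeff_mem (φ ψ : WittVector p K) (hφ : ∀ n : ℕ, φ.coeff n ∈ M (p ^ n))
    (hψ : ∀ n : ℕ, ψ.coeff n ∈ M (p ^ n)) (n : ℕ) : (φ + ψ).coeff n ∈ M (p ^ n) := by
  have hpn : ∀ k : ℕ, p ^ k ≠ 0 := fun k => pow_ne_zero _ hp.out.ne_zero
  rw [WittVector.add_coeff, WittVector.peval, ← unitFamily_of_ne M (hpn n)]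
  apply aeval_mem_of_isWeightedHomogeneous (unitFamily M) (one_mem_unitFamily M)
    (unitFamily_mul M hmul) (fun i : Fin 2 × ℕ => p ^ i.2) _ _ (wittAdd_isWeightedHomogeneous p n)
  rintro ⟨b, i⟩
  rw [unitFamily_of_ne M (hpn i)]
  fin_cases b
  · exact hφ i
  · exact hψ i

theorem witt_mul_coeff_mem (x : WittVector p A) (φ : WittVector p K)
    (hφ : ∀ n : ℕ, φ.coeff n ∈ M (p ^ n)) (n : ℕ) :
    (WittVector.map (algebraMap A K) x * φ).coeff n ∈ M (p ^ n) := by
  have hpn : ∀ k : ℕ, p ^ k ≠ 0 := fun k => pow_ne_zero _ hp.out.ne_zero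
  rw [WittVector.mul_coeff, WittVector.peval, ← unitFamily_of_ne M (hpn n)]
  apply aeval_mem_of_isWeightedHomogeneous (unitFamily M) (one_mem_unitFamily M)
    (unitFamily_mul M hmul) (fun i : Fin 2 × ℕ => if i.1 = 0 then 0 else p ^ i.2) _ _
    (wittMul_isWeightedHomogeneous p n)
  rintro ⟨b, i⟩
  fin_cases b
  · simp only [Fin.zero_eta, if_true]
    change (WittVector.map (algebraMap A K) x).coeff i ∈ _
    rw [WittVector.map_coeff]
    exact algebraMap_mem_unitFamily M _
  · simp only [Fin.mk_one, one_ne_zero, if_false]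
    rw [unitFamily_of_ne M (hpn i)]
    exact hφ i

end witt

end Groth.Agent.Lib.Helper14
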