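import Mathlib.RingTheory.WittVector.StructurePolynomial
import Mathlib.RingTheory.WittVector.Defs
import Mathlib.RingTheory.MvPolynomial.WeightedHomogeneous

/-!
Weighted homogeneity of Witt structure polynomials.
-/

set_option autoImplicit false
universe u

namespace Groth.Agent.Lib.Helper14

open MvPolynomial

section

variable (p : ℕ) [hp : Fact p.Prime] {idx : Type*}

/-- If the ghost-component polynomial of `Φ` is weighted homogeneous of degree `p ^ n` for every
`n`, so are the Witt structure polynomials. -/
theorem wittStructureInt_isWeightedHomogeneous (w : idx × ℕ → ℕ) (Φ : MvPolynomial idx ℤ)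
    (hΦ : ∀ n, IsWeightedHomogeneous w
      (bind₁ (fun i => rename (Prod.mk i) (wittPolynomial p ℤ n)) Φ) (p ^ n)) (n : ℕ) :
    IsWeightedHomogeneous w (wittStructureInt p Φ n) (p ^ n) := by
  induction n using Nat.strong_induction_on with
  | _ n ih =>
    have hL : bind₁ (wittStructureInt p Φ) (wittPolynomial p ℤ n) =
        ∑ i ∈ Finset.range n, C ((p : ℤ) ^ i) * wittStructureInt p Φ i ^ p ^ (n - i) +
          C ((p : ℤ) ^ n) * wittStructureInt p Φ n := by
      rw [wittPolynomial_eq_sum_C_mul_X_pow, map_sum, Finset.sum_range_succ]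
      simp only [map_mul, map_pow, bind₁_X_right, bind₁_C_right, Nat.sub_self, pow_zero,
        pow_one]
    have h := wittStructureInt_prop p Φ n
    rw [hL] at h
    have hT : IsWeightedHomogeneous w (C ((p : ℤ) ^ n) * wittStructureInt p Φ n) (p ^ n) := by
      have hsum : IsWeightedHomogeneous w
          (∑ i ∈ Finset.range n, C ((p : ℤ) ^ i) * wittStructureInt p Φ i ^ p ^ (n - i))
          (p ^ n) := by
        apply IsWeightedHomogeneous.sum
        intro i hi
        have hi' : i < n := Finset.mem_range.mp hi
        have h1 := (ih i hi').pow (p ^ (n - i))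
        have h2 : p ^ (n - i) • p ^ i = p ^ n := by
          rw [smul_eq_mul, ← pow_add]; congr 1; omega
        rw [h2] at h1
        exact h1.C_mul _
      have := (hΦ n).sub hsum
      rw [← h, add_sub_cancel_left] at this
      exact this
    intro d hd
    apply hT
    rw [coeff_C_mul]
    exact mul_ne_zero (pow_ne_zero _ (by exact_mod_cast hp.out.ne_zero)) hd

theorem isWeightedHomogeneous_rename_wittPolynomial (w : idx × ℕ → ℕ) (b : idx) (n k : ℕ)
    (hw : ∀ i, i ≤ n → p ^ (n - i) * w (b, i) = k) :
    IsWeightedHomogeneous w (rename (Prod.mk b) (wittPolynomial p ℤ n)) k := by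
  have hE : rename (Prod.mk b) (wittPolynomial p ℤ n) =
      ∑ i ∈ Finset.range (n + 1), C ((p : ℤ) ^ i) * (X (b, i) : MvPolynomial (idx × ℕ) ℤ) ^ p ^ (n - i) := by
    rw [wittPolynomial_eq_sum_C_mul_X_pow, map_sum]
    apply Finset.sum_congr rfl
    intro i _
    simp only [map_mul, map_pow, rename_X, rename_C]
  rw [hE]
  apply IsWeightedHomogeneous.sum
  intro i hi
  have hi' : i ≤ n := Nat.lt_succ_iff.mp (Finset.mem_range.mp hi)
  have h1 := (isWeightedHomogeneous_X ℤ w (b, i)).pow (p ^ (n - i))
  rw [smul_eq_mul, hw i hi'] at h1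
  exact h1.C_mul _

theorem wittAdd_isWeightedHomogeneous (n : ℕ) :
    IsWeightedHomogeneous (fun i : Fin 2 × ℕ => p ^ i.2) (WittVector.wittAdd p n) (p ^ n) := by
  apply wittStructureInt_isWeightedHomogeneous
  intro n
  simp only [map_add, bind₁_X_right]
  have hw : ∀ (b : Fin 2) (i : ℕ), i ≤ n → p ^ (n - i) * p ^ i = p ^ n := by
    intro b i hi
    rw [← pow_add]; congr 1; omega
  exact (isWeightedHomogeneous_rename_wittPolynomial p _ 0 n _ (hw 0)).add
    (isWeightedHomogeneous_rename_wittPolynomial p _ 1 n _ (hw 1))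

/-- `wittMul` is weighted homogeneous of degree `p ^ n` in the second set of variables. -/
theorem wittMul_isWeightedHomogeneous (n : ℕ) :
    IsWeightedHomogeneous (fun i : Fin 2 × ℕ => if i.1 = 0 then 0 else p ^ i.2)
      (WittVector.wittMul p n) (p ^ n) := by
  apply wittStructureInt_isWeightedHomogeneous
  intro n
  simp only [map_mul, bind₁_X_right]
  have h0 := isWeightedHomogeneous_rename_wittPolynomial p
    (fun i : Fin 2 × ℕ => if i.1 = 0 then 0 else p ^ i.2) 0 n 0 (by intro i _; simp)
  have h1 := isWeightedHomogeneous_rename_wittPolynomial p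
    (fun i : Fin 2 × ℕ => if i.1 = 0 then 0 else p ^ i.2) 1 n (p ^ n) (by
      intro i hi
      simp only [one_ne_zero, if_false]
      rw [← pow_add]; congr 1; omega)
  have := h0.mul h1
  rwa [zero_add] at this

end

end Groth.Agent.Lib.Helper14
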